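import Groth.Agent.TwistLib.G.Gen

/-!
# Functoriality of `M(n)~`: exactness, isomorphism criteria
-/

set_option autoImplicit false
set_option linter.unusedSectionVars false

universe u

open DirectSum AlgebraicGeometry CategoryTheory TopologicalSpace Opposite
open Groth.Agent.ProjLib Groth.Agent.Coherent Groth.Agent.PicLib Groth.Agent.AmpleLib
open scoped HomogeneousIdeal

namespace Groth.Agent.TwistLib.G

/-- A morphism bijective on a basis is an isomorphism. -/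
theorem isIso_of_bijective_on_basis {X : Scheme.{u}} {M N : X.Modules} (φ : M ⟶ N) (P : X.Opens → Prop)
    (hP : ∀ (V : X.Opens) (y : X), y ∈ V → ∃ B, P B ∧ y ∈ B ∧ B ≤ V)
    (h : ∀ B, P B → Function.Bijective (φ.app B)) : IsIso φ := by
  have hinj : ∀ V : X.Opens, Function.Injective (φ.app V) := fun V a b hab => by
    refine sec_ext M a b fun y hy => ?_
    obtain ⟨B, hB, hyB, hBV⟩ := hP V y hy
    refine ⟨B, hBV, hyB, (h B hB).1 ?_⟩
    rw [app_resM, app_resM, hab]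
  refine Scheme.Modules.Hom.isIso_iff_isIso_app.mpr fun V =>
    (ConcreteCategory.isIso_iff_bijective _).mpr ⟨hinj V, fun z => ?_⟩
  choose B hB hyB hBV using fun y : V => hP V y.1 y.2
  choose w hw using fun y : V => (h (B y) (hB y)).2 (resM N (hBV y) z)
  have hle : V ≤ ⨆ y : V, B y := fun y hy => Opens.mem_iSup.2 ⟨⟨y, hy⟩, hyB ⟨y, hy⟩⟩
  obtain ⟨ρ, hρ, -⟩ := TopCat.Sheaf.existsUnique_gluing' (⟨M.presheaf, M.isSheaf⟩ : TopCat.Sheaf Ab X)
    B V (fun y => homOfLE (hBV y)) hle w fun a b => by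
      refine hinj _ ?_
      show φ.app _ (resM M inf_le_left (w a)) = φ.app _ (resM M inf_le_right (w b))
      rw [app_resM, app_resM, hw, hw, resM_resM, resM_resM]
  refine ⟨ρ, sec_ext N _ _ fun y hy => ⟨_, hBV ⟨y, hy⟩, hyB ⟨y, hy⟩, ?_⟩⟩
  rw [← app_resM, ← hw ⟨y, hy⟩]
  exact congrArg _ (hρ ⟨y, hy⟩)

variable {A σ : Type u} [CommRing A] [SetLike σ A] [AddSubgroupClass σ A] {𝒜 : ℕ → σ} [GradedRing 𝒜]
variable {M τ : Type u} [AddCommGroup M] [Module A M] [SetLike τ M] [AddSubgroupClass τ M] {ℳ : ℕ → τ}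
  [SetLike.GradedSMul 𝒜 ℳ] [DirectSum.Decomposition ℳ]

/-- A degree-preserving semilinear map commutes with taking components. -/
theorem map_decompose {B : Type u} [CommRing B] {ψ : A →+* B}
    {N τ' : Type u} [AddCommGroup N] [Module B N] [SetLike τ' N] [AddSubgroupClass τ' N] {𝒩 : ℕ → τ'}
    [DirectSum.Decomposition 𝒩] (v : M →ₛₗ[ψ] N) (hv : ∀ (i : ℕ) (m : M), m ∈ ℳ i → v m ∈ 𝒩 i)
    (x : M) (i : ℕ) : v (decompose ℳ x i : M) = (decompose 𝒩 (v x) i : N) := by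
  classical
  induction x using DirectSum.Decomposition.inductionOn (ℳ := ℳ) with
  | zero => simp
  | @homogeneous j m =>
    by_cases hji : j = i
    · subst hji
      rw [decompose_of_mem_same ℳ m.2, decompose_of_mem_same 𝒩 (hv j m m.2)]
    · rw [decompose_of_mem_ne ℳ m.2 hji, decompose_of_mem_ne 𝒩 (hv j m m.2) hji, map_zero]
  | add x y hx hy =>
    rw [decompose_add, DirectSum.add_apply, AddMemClass.coe_add, map_add, hx, hy, map_add,
      decompose_add, DirectSum.add_apply, AddMemClass.coe_add]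

section comap

variable {B σ' : Type u} [CommRing B] [SetLike σ' B] [AddSubgroupClass σ' B] {ℬ : ℕ → σ'} [GradedRing ℬ]
variable {N τ' : Type u} [AddCommGroup N] [Module B N] [SetLike τ' N] [AddSubgroupClass τ' N] {𝒩 : ℕ → τ'}
  [SetLike.GradedSMul ℬ 𝒩] [DirectSum.Decomposition 𝒩]
variable (ψ : 𝒜 →+*ᵍ ℬ) (hψ : ℬ₊ ≤ (𝒜₊).map ψ) (v : M →ₛₗ[ψ.toRingHom] N)
  (hv : ∀ (i : ℕ) (m : M), m ∈ ℳ i → v m ∈ 𝒩 i)

/-- `comap` is an isomorphism for bijective `v`. -/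
theorem isIso_comap_of_bijective (hbij : Function.Bijective v) (n : ℤ) : IsIso (GrMod.comap ψ hψ v hv n) := by
  refine isIso_of_bijective_on_basis _
    (fun O => ∃ (d : ℕ) (f : A), 0 < d ∧ f ∈ 𝒜 d ∧ O = Proj.basicOpen 𝒜 f) (fun V y hy => ?_) ?_
  · obtain ⟨d, g, hd, hg, hgy, hgV⟩ := exists_homogeneous_basicOpen_subset 𝒜 V.2 hy
    exact ⟨_, ⟨d, g, hd, hg, rfl⟩, hgy, hgV⟩
  rintro _ ⟨d, f, hd, hf, rfl⟩
  have hf' : ψ f ∈ ℬ d := ψ.map_mem hf
  have hpre : Proj.map ψ hψ ⁻¹ᵁ Proj.basicOpen 𝒜 f = Proj.basicOpen ℬ (ψ f) :=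
    Proj.map_preimage_basicOpen ψ hψ f
  constructor
  · intro s s' hss
    refine sub_eq_zero.1 ?_
    obtain ⟨k, i, m, hi, hm⟩ := exists_frac (n := n) hd hf (s - s')
    have h0 : ((GrMod.comap ψ hψ v hv n).app (Proj.basicOpen 𝒜 f)) (s - s') = 0 := by
      rw [map_sub, hss, sub_self]
    obtain ⟨N', hN⟩ := exists_pow_smul_eq_zero (ℳ := 𝒩) (hv i m m.2) hd hf' fun y hy => by
      have hy' : y ∈ Proj.map ψ hψ ⁻¹ᵁ Proj.basicOpen 𝒜 f := hpre.ge hy
      have e := (congrArg (GrMod.locModMap ψ hψ v y) (hm ⟨_, hy'⟩)).symm.trans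
        (congrArg (fun z => GrMod.val (V := Proj.map ψ hψ ⁻¹ᵁ Proj.basicOpen 𝒜 f) z ⟨y, hy'⟩) h0)
      obtain ⟨⟨c, hc⟩, heq⟩ := LocalizedModule.mk_eq.mp
        (e.trans (LocalizedModule.zero_mk (1 : y.asHomogeneousIdeal.toIdeal.primeCompl)).symm)
      exact ⟨c, hc, by simpa [Submonoid.smul_def] using heq⟩
    have hN' : f ^ N' • m.1 = 0 := hbij.1 (by
      rw [map_zero, LinearMap.map_smulₛₗ]
      exact (congrArg (· • v m.1) (map_pow ψ.toRingHom f N')).trans hN)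
    refine sect_ext fun x => (hm x).trans ?_
    refine (LocalizedModule.mk_eq.mpr ⟨⟨f ^ N', pow_notMem x.2 N'⟩, ?_⟩).trans
      (LocalizedModule.zero_mk (1 : x.1.asHomogeneousIdeal.toIdeal.primeCompl))
    show f ^ N' • (1 : A) • m.1 = f ^ N' • f ^ k • (0 : M)
    rw [one_smul, smul_zero, smul_zero, hN']
  · intro t
    obtain ⟨k, i, m, hi, hm⟩ := exists_frac (ℳ := 𝒩) (n := n) hd hf'
      (resM (GrMod.tilde ℬ 𝒩 n) hpre.ge t)
    obtain ⟨x, hx⟩ := hbij.2 m.1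
    let m₀ : ℳ i := decompose ℳ x i
    have hm₀ : v m₀.1 = m.1 := by
      show v (decompose ℳ x i : M) = m.1
      rw [map_decompose v hv, hx, decompose_of_mem_same 𝒩 m.2]
    refine ⟨fracSect _ m₀ ⟨f ^ k, pow_mem_deg hf k⟩ (fun x => pow_notMem x.2 k)
      (by rw [hi]; push_cast; ring), sect_ext fun y => ?_⟩
    refine Eq.trans ?_ (hm ⟨y.1, hpre.le y.2⟩).symm
    show LocalizedModule.mk (v m₀.1) _ = _
    exact congrArg₂ LocalizedModule.mk hm₀ (Subtype.ext (map_pow ψ f k))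

end comap

section map

variable {N τ' : Type u} [AddCommGroup N] [Module A N] [SetLike τ' N] [AddSubgroupClass τ' N] {𝒩 : ℕ → τ'}
  [SetLike.GradedSMul 𝒜 𝒩] [DirectSum.Decomposition 𝒩]
variable {L ρ : Type u} [AddCommGroup L] [Module A L] [SetLike ρ L] [AddSubgroupClass ρ L] {ℒ : ℕ → ρ}
  [SetLike.GradedSMul 𝒜 ℒ] [DirectSum.Decomposition ℒ]

/-- The induced maps are exact on sections over standard opens. -/
theorem map_app_exact (u : M →ₗ[A] N) (hu : ∀ (i : ℕ) (m : M), m ∈ ℳ i → u m ∈ 𝒩 i)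
    (v : N →ₗ[A] L) (hv : ∀ (i : ℕ) (m : N), m ∈ 𝒩 i → v m ∈ ℒ i) (hex : Function.Exact u v) (n : ℤ)
    {d : ℕ} (hd : 0 < d) {f : A} (hf : f ∈ 𝒜 d) :
    Function.Exact ((GrMod.map 𝒜 u hu n).app (Proj.basicOpen 𝒜 f))
      ((GrMod.map 𝒜 v hv n).app (Proj.basicOpen 𝒜 f)) := by
  intro s
  refine ⟨fun h0 => ?_, ?_⟩
  · obtain ⟨k, i, m, hi, hm⟩ := exists_frac (n := n) hd hf s
    obtain ⟨N', hN⟩ := exists_pow_smul_eq_zero (ℳ := ℒ) (hv i m m.2) hd hf fun y hy => by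
      have e := ((congrArg (GrMod.locMap v y) (hm ⟨y, hy⟩)).trans (GrMod.locMap_mk v y _ _)).symm.trans
        (congrArg (fun z => GrMod.val (V := Proj.basicOpen 𝒜 f) z ⟨y, hy⟩) h0)
      obtain ⟨⟨c, hc⟩, heq⟩ := LocalizedModule.mk_eq.mp
        (e.trans (LocalizedModule.zero_mk (1 : y.asHomogeneousIdeal.toIdeal.primeCompl)).symm)
      exact ⟨c, hc, by simpa [Submonoid.smul_def] using heq⟩
    obtain ⟨x, hx⟩ := (hex (f ^ N' • m.1)).1 (by rw [map_smul, hN])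
    let m₀ : ℳ (N' * d + i) := decompose ℳ x (N' * d + i)
    have hm₀ : u m₀.1 = f ^ N' • m.1 := by
      show u (decompose ℳ x (N' * d + i) : M) = f ^ N' • m.1
      rw [map_decompose u hu, hx]
      exact decompose_of_mem_same 𝒩
        (show f ^ N' • m.1 ∈ 𝒩 (N' * d + i) from SetLike.GradedSMul.smul_mem (pow_mem_deg hf N') m.2)
    refine ⟨fracSect _ m₀ ⟨f ^ (N' + k), pow_mem_deg hf _⟩ (fun x => pow_notMem x.2 _)
      (by push_cast; rw [hi]; ring), sect_ext fun y => ?_⟩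
    refine ((GrMod.locMap_mk u y.1 _ _).trans ?_).trans (hm y).symm
    refine LocalizedModule.mk_eq.mpr ⟨1, ?_⟩
    show (1 : A) • f ^ k • u m₀.1 = (1 : A) • f ^ (N' + k) • m.1
    rw [hm₀, smul_smul (f ^ k), ← pow_add, add_comm]
  · rintro ⟨s, rfl⟩
    refine sect_ext fun x => ?_
    obtain ⟨i, j, m, t, hts, -, he⟩ := tildeAt_eq_frac n x.1 (s.1 x).2
    show GrMod.locMap v x.1 (GrMod.locMap u x.1 (s.1 x).1) = 0
    rw [he, GrMod.locMap_mk, GrMod.locMap_mk, hex.apply_apply_eq_zero, LocalizedModule.zero_mk]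

end map

end Groth.Agent.TwistLib.G
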