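import Groth.Agent.TwistLib.G.Gen
import Groth.Agent.AmpleLib.Ample

/-!
# Twisting sheaves when degree one elements cover
-/

set_option autoImplicit false
set_option linter.unusedSectionVars false
set_option backward.isDefEq.respectTransparency.types false

universe u

open AlgebraicGeometry CategoryTheory TopologicalSpace Opposite
open Groth.Agent.ProjLib Groth.Agent.Coherent Groth.Agent.PicLib Groth.Agent.AmpleLib

namespace Groth.Agent.TwistLib.G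

/-- Finitely many sections, one of them generating at each point, give an epimorphism. -/
theorem epi_of_glocus {X : Scheme.{u}} {M : X.Modules} {I : Type u} [Fintype I] (s : I → Γ(M, ⊤))
    (h : ∀ x : X, ∃ i, x ∈ glocus M (s i)) : Epi (freeDesc fun i => Coherent.unitDesc M (s i)) := by
  classical
  refine epi_of_genOn_top fun W hW a y hy => ?_
  obtain ⟨i, hi⟩ := h y
  obtain ⟨r, hr⟩ := (isGen_glocus (s i) (W ⊓ glocus M (s i)) inf_le_right).2 (resM M inf_le_left a)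
  refine ⟨W ⊓ glocus M (s i), inf_le_left, ⟨hy, hi⟩, Pi.single i r, ?_⟩
  rw [Finset.sum_eq_single i (fun j _ hj => by rw [Pi.single_eq_of_ne hj, zero_smul])
    (fun h => absurd (Finset.mem_univ i) h), Pi.single_eq_same, ← hr]
  simp only [resM_resM]

variable {A σ : Type u} [CommRing A] [SetLike σ A] [AddSubgroupClass σ A] {𝒜 : ℕ → σ}
  [GradedRing 𝒜]

theorem covers_of_span_degree_one (hgen : (HomogeneousIdeal.irrelevant 𝒜).toIdeal = Ideal.span (𝒜 1 : Set A))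
    (x : ProjectiveSpectrum 𝒜) : ∃ f ∈ 𝒜 1, f ∉ x.asHomogeneousIdeal.toIdeal :=
  exists_degree_one_notMem 𝒜 hgen x

theorem exists_notMem_of_span {s : Set A} (hs : (HomogeneousIdeal.irrelevant 𝒜).toIdeal = Ideal.span s)
    (x : ProjectiveSpectrum 𝒜) : ∃ f ∈ s, f ∉ x.asHomogeneousIdeal.toIdeal := by
  by_contra! h
  exact x.not_irrelevant_le (show (HomogeneousIdeal.irrelevant 𝒜).toIdeal ≤ x.asHomogeneousIdeal.toIdeal from
    hs ▸ Ideal.span_le.mpr h)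

/-- Every `O(n)` is invertible. -/
theorem isInvertible_twist (hcov : ∀ x : ProjectiveSpectrum 𝒜, ∃ f ∈ 𝒜 1, f ∉ x.asHomogeneousIdeal.toIdeal)
    (n : ℤ) : PicF.IsInvertible (GrTwist.twist 𝒜 n) := by
  obtain ⟨m, rfl⟩ : ∃ m : ℤ, n = m * (1 : ℕ) := ⟨n, by simp⟩
  refine isInvertible_of_gens fun x => ?_
  obtain ⟨f, hf, hfx⟩ := hcov x
  exact ⟨Proj.basicOpen 𝒜 f, hfx, _, isGen_tau hf m⟩

/-- `O(a) ⊗ O(b) ≅ O(c)` for `a + b = c`. -/
theorem nonempty_tensor_twist_iso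
    (hcov : ∀ x : ProjectiveSpectrum 𝒜, ∃ f ∈ 𝒜 1, f ∉ x.asHomogeneousIdeal.toIdeal) {a b c : ℤ} (h : a + b = c) :
    Nonempty (CohB1.tensorMod (GrTwist.twist 𝒜 a) (GrTwist.twist 𝒜 b) ≅ GrTwist.twist 𝒜 c) := by
  have := isIso_desc_mulBilin (𝒜 := 𝒜) 𝒜 h (m := b) (by simp) hcov
  exact ⟨tensorIso (twistIsoTilde 𝒜 a) (Iso.refl _) ≪≫ asIso (mulBilin (𝒜 := 𝒜) 𝒜 h).desc ≪≫
    (twistIsoTilde 𝒜 c).symm⟩

/-- A module with a generator on everything is trivial. -/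
theorem nonempty_iso_of_isGen_top {X : Scheme.{u}} {L : X.Modules} {s : Γ(L, ⊤)} (h : IsGen L ⊤ s) :
    Nonempty (L ≅ Coh.structureModule X) := by
  have : IsIso (Coherent.unitDesc L s) := isIso_of_isGen _ (by rwa [unitVal_unitDesc, resM_self])
  exact ⟨(asIso (Coherent.unitDesc L s)).symm⟩

/-- `O(0) ≅ O`. -/
theorem nonempty_twist_zero_iso : Nonempty (GrTwist.twist 𝒜 0 ≅ Coh.structureModule (Proj 𝒜)) := by
  have hle : (⊤ : (Proj 𝒜).Opens) ≤ Proj.basicOpen 𝒜 1 := (Proj.basicOpen_one 𝒜).ge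
  have hg : IsGen (GrTwist.twist 𝒜 ((0 : ℤ) * (0 : ℕ))) ⊤ _ :=
    (isGen_tau (SetLike.GradedOne.one_mem : (1 : A) ∈ 𝒜 0) 0).restrict hle
  rw [show (0 : ℤ) = (0 : ℤ) * (0 : ℕ) by simp]
  exact nonempty_iso_of_isGen_top hg

/-- `O(n) ≅ O(1)^⊗n`. -/
theorem nonempty_twist_pow_iso
    (hcov : ∀ x : ProjectiveSpectrum 𝒜, ∃ f ∈ 𝒜 1, f ∉ x.asHomogeneousIdeal.toIdeal) :
    ∀ n : ℕ, Nonempty (GrTwist.twist 𝒜 (n : ℤ) ≅ CohB1.tensorPow (GrTwist.twist 𝒜 1) n)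
  | 0 => nonempty_twist_zero_iso
  | n + 1 => by
    obtain ⟨e⟩ := nonempty_twist_pow_iso hcov n
    obtain ⟨e'⟩ := nonempty_tensor_twist_iso hcov (show (n : ℤ) + 1 = ((n + 1 : ℕ) : ℤ) by push_cast; ring)
    exact ⟨e'.symm ≪≫ tensorIso e (Iso.refl _)⟩

/-- The global section `a/1` generates where `a` does not vanish. -/
theorem basicOpen_le_glocus_globalOf {i : ℕ} {f : A} (hf : f ∈ 𝒜 1) :
    Proj.basicOpen 𝒜 f ≤ glocus (GrTwist.twist 𝒜 (i : ℤ))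
      (show Γ(GrTwist.twist 𝒜 (i : ℤ), ⊤) from GrTwist.globalOf 𝒜 ⟨f ^ i, by simpa using pow_mem_deg hf i⟩) := by
  rw [le_glocus_iff]
  intro V hV
  refine Function.Bijective.of_comp_iff' (f := id) Function.bijective_id _ |>.1 ?_
  show Function.Bijective fun g : GrTwist.O (𝒜 := 𝒜) (op V) => oSmul g
    (show GrTwist.sectN (𝒜 := 𝒜) (i : ℤ) (op V) from GrTwist.resN (i : ℤ) (homOfLE le_top).op
      (GrTwist.globalOf 𝒜 ⟨f ^ i, by simpa using pow_mem_deg hf i⟩))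
  have key : ∀ (n : ℤ) (hn : n = (i : ℤ) * (1 : ℕ)) (b : GrTwist.sectN (𝒜 := 𝒜) n (op V)),
      (∀ x : V, (b.1 x).1 = Localization.mk (f ^ i) 1) →
      Function.Bijective fun g : GrTwist.O (𝒜 := 𝒜) (op V) => oSmul g b := by
    rintro n rfl b hb
    convert smul_tau_bijective hf (i : ℤ) V hV
    refine sectN_ext fun x => (hb x).trans ?_
    rw [tau_val]
    refine congrArg₂ Localization.mk (by simp) (Subtype.ext (by simp))
  exact key _ (by simp) _ fun x => rfl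

end Groth.Agent.TwistLib.G

namespace Groth.Agent.TwistLib.G

variable {A σ : Type u} [CommRing A] [SetLike σ A] [AddSubgroupClass σ A] {𝒜 : ℕ → σ}
  [GradedRing 𝒜]

/-- When degree one elements cover, the locus of a degree one element is its standard open. -/
theorem glocus_globalOf_one
    (hcov : ∀ x : ProjectiveSpectrum 𝒜, ∃ g ∈ 𝒜 1, g ∉ x.asHomogeneousIdeal.toIdeal) {f : A} (hf : f ∈ 𝒜 1) :
    glocus (GrTwist.twist 𝒜 (((1 : ℕ) : ℤ)))
      (show Γ(GrTwist.twist 𝒜 (((1 : ℕ) : ℤ)), ⊤) from GrTwist.globalOf 𝒜 ⟨f ^ 1, by simpa using hf⟩) =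
      Proj.basicOpen 𝒜 f := by
  refine le_antisymm (fun x hx => ?_) (basicOpen_le_glocus_globalOf hf)
  obtain ⟨g, hg, hgx⟩ := hcov x
  have hgen : IsGen (GrTwist.twist 𝒜 ((1 : ℕ) : ℤ)) (Proj.basicOpen 𝒜 g)
      (resM (GrTwist.twist 𝒜 ((1 : ℕ) : ℤ)) le_top
        (show Γ(GrTwist.twist 𝒜 (((1 : ℕ) : ℤ)), ⊤) from GrTwist.globalOf 𝒜 ⟨g ^ 1, by simpa using hg⟩)) :=
    (le_glocus_iff _ _).1 (basicOpen_le_glocus_globalOf (i := 1) hg)
  have hmem := (glocus_inf _ hgen).le ⟨hx, hgx⟩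
  have hP : f ∈ 𝒜 (1 • 1) := by simpa using hf
  have hc : hgen.coef le_rfl (resM (GrTwist.twist 𝒜 ((1 : ℕ) : ℤ)) le_top
        (show Γ(GrTwist.twist 𝒜 (((1 : ℕ) : ℤ)), ⊤) from GrTwist.globalOf 𝒜 ⟨f ^ 1, by simpa using hf⟩)) =
      (Proj.awayToSection 𝒜 g).hom (HomogeneousLocalization.Away.mk 𝒜 hg 1 f hP) := by
    refine hgen.coef_eq _ (sectN_ext fun y => ?_)
    refine (GrTwist.coe_smul_val _ y.1 _ _).trans ?_
    refine (congrArg (· * _) (val_awayToSection_mk hg 1 f hP y)).trans ?_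
    exact (Localization.mk_mul _ _ _ _).trans (Localization.mk_eq_mk_iff.2 (Localization.r_iff_exists.2
      ⟨1, by simp only [Submonoid.coe_mul, Submonoid.coe_one]; ring⟩))
  rw [hc, basicOpen_away hg 1 f hP, Proj.basicOpen_mul] at hmem
  exact hmem.2

/-- `O(1)` is ample when finitely many degree one elements generate `A₊`. -/
theorem isAmple_twist_one (s : Finset A) (hs1 : ∀ f ∈ s, f ∈ 𝒜 1)
    (hs : (HomogeneousIdeal.irrelevant 𝒜).toIdeal = Ideal.span (s : Set A)) :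
    CohB1.IsAmple (GrTwist.twist 𝒜 1) := by
  classical
  have hcov : ∀ x : ProjectiveSpectrum 𝒜, ∃ g ∈ 𝒜 1, g ∉ x.asHomogeneousIdeal.toIdeal := fun x => by
    obtain ⟨g, hg, hgx⟩ := exists_notMem_of_span hs x
    exact ⟨g, hs1 g hg, hgx⟩
  refine isAmple_iff_affGlocus.2 ⟨isInvertible_twist hcov 1, ?_, fun x => ?_⟩
  · refine isCompact_univ_iff.1 ?_
    have hU : (Set.univ : Set (Proj 𝒜)) = ⋃ g ∈ s, (Proj.basicOpen 𝒜 g : Set (Proj 𝒜)) := by
      refine (Set.eq_univ_of_forall fun x => ?_).symm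
      obtain ⟨g, hg, hgx⟩ := exists_notMem_of_span hs x
      exact Set.mem_iUnion₂.2 ⟨g, hg, hgx⟩
    rw [hU]
    exact s.isCompact_biUnion fun g hg => (Proj.isAffineOpen_basicOpen 𝒜 g (hs1 g hg) one_pos).isCompact
  · obtain ⟨g, hg, hgx⟩ := hcov x
    obtain ⟨e⟩ := nonempty_twist_pow_iso hcov 1
    have hl := (glocus_map_iso e _).trans (glocus_globalOf_one hcov hg)
    exact ⟨1, one_pos, _, hl.ge hgx, le_top, hl ▸ Proj.isAffineOpen_basicOpen 𝒜 g hg one_pos⟩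

/-- `O(n)`, `n ≥ 0`, is a quotient of a finite free module. -/
theorem exists_epi_free_twist (s : Finset A) (hs1 : ∀ f ∈ s, f ∈ 𝒜 1)
    (hs : (HomogeneousIdeal.irrelevant 𝒜).toIdeal = Ideal.span (s : Set A)) (n : ℕ) :
    ∃ (I : Type u) (_ : Finite I) (p : freeMod (Proj 𝒜) I ⟶ GrTwist.twist 𝒜 (n : ℤ)), Epi p := by
  classical
  let a : {f // f ∈ s} → Γ(GrTwist.twist 𝒜 (n : ℤ), ⊤) := fun f =>
    GrTwist.globalOf 𝒜 ⟨f.1 ^ n, by simpa using pow_mem_deg (hs1 f.1 f.2) n⟩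
  refine ⟨{f // f ∈ s}, inferInstance, _, epi_of_glocus a fun x => ?_⟩
  obtain ⟨g, hg, hgx⟩ := exists_notMem_of_span hs x
  exact ⟨⟨g, hg⟩, basicOpen_le_glocus_globalOf (hs1 g hg) hgx⟩

end Groth.Agent.TwistLib.G
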