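import Groth.Agent.TwistLib.G.RelTildeTrans
import Groth.Agent.Coherent.QcohLocal

/-!
# Graded modules localise on basic opens
-/

set_option autoImplicit false
set_option linter.unusedSectionVars false
set_option backward.isDefEq.respectTransparency.types false
set_option maxHeartbeats 400000

universe u

open DirectSum AlgebraicGeometry CategoryTheory TopologicalSpace Opposite
open Groth.Agent.Coherent

namespace Groth.Agent.TwistLib.G

variable {Y : Scheme.{u}} (𝒮 : RelProj.QCGrAlg Y)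

theorem res_str {U V : Y.Opens} (hU : IsAffineOpen U) (hV : IsAffineOpen V) (i : V ≤ U) (r : Γ(Y, U)) :
    𝒮.res hU hV i ((𝒮.str.app (op U)).hom r) = (𝒮.str.app (op V)).hom ((Y.presheaf.map (homOfLE i).op).hom r) :=
  (ConcreteCategory.congr_hom (𝒮.str.naturality (homOfLE i).op) r).symm

theorem isUnit_res_str (U : Y.Opens) (hU : IsAffineOpen U) (r : Γ(Y, U)) :
    IsUnit (𝒮.res hU (hU.basicOpen r) (Y.basicOpen_le r) ((𝒮.str.app (op U)).hom r)) := by
  rw [res_str]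
  exact (Y.toRingedSpace.isUnit_res_basicOpen r).map (𝒮.str.app (op (Y.basicOpen r))).hom

theorem surj_res (U : Y.Opens) (hU : IsAffineOpen U) (r : Γ(Y, U))
    (b : 𝒮.presheaf.obj (op (Y.basicOpen r))) : ∃ (a : 𝒮.presheaf.obj (op U)) (k : ℕ),
      𝒮.res hU (hU.basicOpen r) (Y.basicOpen_le r) ((𝒮.str.app (op U)).hom r) ^ k * b =
        𝒮.res hU (hU.basicOpen r) (Y.basicOpen_le r) a := by
  let := (𝒮.presheaf.map (homOfLE (Y.basicOpen_le r)).op).hom.toAlgebra
  have : IsLocalization.Away ((𝒮.str.app (op U)).hom r) (𝒮.presheaf.obj (op (Y.basicOpen r))) := 𝒮.isQC U hU r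
  obtain ⟨k, a, hk⟩ := IsLocalization.Away.surj ((𝒮.str.app (op U)).hom r) b
  exact ⟨a, k, (mul_comm _ _).trans hk⟩

/-- A quasi-coherent graded module localises. -/
theorem isLocalGrModule_of_isQCoh (ℳ : RelProj.GrModule 𝒮)
    (hℳ : Coh.IsQCoh ((AMod.toOS 𝒮.toQCAlg).obj ℳ.mod)) : IsLocalGrModule ℳ := fun U hU r => by
  have := hℳ
  let M := (AMod.toOS 𝒮.toQCAlg).obj ℳ.mod
  refine ⟨𝒮.str_mem U hU r, isUnit_res_str 𝒮 U hU r, surj_res 𝒮 U hU r, fun x => ?_, fun m hm => ?_⟩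
  · obtain ⟨k, t, ht⟩ := qcoh_exists_pow_smul hU M r (show Γ(M, Y.basicOpen r) from x)
    refine ⟨t, k, (Eq.trans ?_ ht.symm)⟩
    have e : (𝒮.str.app (op (Y.basicOpen r))).hom ((Y.presheaf.map (homOfLE (Y.basicOpen_le r)).op).hom (r ^ k)) =
        𝒮.res hU (hU.basicOpen r) (Y.basicOpen_le r) ((𝒮.str.app (op U)).hom r) ^ k := by
      rw [← res_str 𝒮 hU, map_pow, map_pow]
    show _ = (𝒮.str.app (op (Y.basicOpen r))).hom ((Y.presheaf.map (homOfLE (Y.basicOpen_le r)).op).hom (r ^ k)) • x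
    rw [e]
  · obtain ⟨k, hk⟩ := qcoh_exists_pow_smul_eq_zero hU M r (show Γ(M, U) from m) hm
    refine ⟨k, ?_⟩
    rw [← map_pow]
    exact hk

/-- `𝒮` as a graded module over itself. -/
noncomputable def selfGrModule : RelProj.GrModule 𝒮 where
  mod := SheafOfModules.unit (AMod.ringSheaf 𝒮.toQCAlg)
  deg U hU := 𝒮.deg U hU
  decomp U hU := (inferInstance : DirectSum.Decomposition (𝒮.deg U hU))
  gradedSMul U hU := ⟨fun {_ _ _ _} ha hb => SetLike.mul_mem_graded (A := 𝒮.deg U hU) ha hb⟩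
  map_mem {_ _} hU hV i {_ _} hm := 𝒮.map_mem hU hV i hm

theorem isLocalGrModule_self : IsLocalGrModule (selfGrModule 𝒮) := fun U hU r => by
  refine ⟨𝒮.str_mem U hU r, isUnit_res_str 𝒮 U hU r, surj_res 𝒮 U hU r, fun x => ?_, fun m hm => ?_⟩
  · obtain ⟨a, k, h⟩ := surj_res 𝒮 U hU r x
    exact ⟨a, k, h⟩
  · let := (𝒮.presheaf.map (homOfLE (Y.basicOpen_le r)).op).hom.toAlgebra
    have : IsLocalization.Away ((𝒮.str.app (op U)).hom r) (𝒮.presheaf.obj (op (Y.basicOpen r))) := 𝒮.isQC U hU r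
    obtain ⟨⟨_, k, rfl⟩, hk⟩ := (IsLocalization.map_eq_zero_iff (Submonoid.powers ((𝒮.str.app (op U)).hom r))
      (𝒮.presheaf.obj (op (Y.basicOpen r))) (show 𝒮.presheaf.obj (op U) from m)).1 hm
    exact ⟨k, hk⟩

end Groth.Agent.TwistLib.G
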