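import Groth.Agent.TwistLib.G.RelTilde
import Groth.Agent.TwistLib.G.ModLoc

/-!
# Maps between relative tildes
-/

set_option autoImplicit false
set_option linter.unusedSectionVars false
set_option backward.isDefEq.respectTransparency.types false
set_option maxHeartbeats 400000

universe u

open DirectSum AlgebraicGeometry CategoryTheory TopologicalSpace Opposite
open Groth.Agent.ProjLib Groth.Agent.Coherent
open scoped HomogeneousIdeal

namespace Groth.Agent.TwistLib.G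

section ring

variable {A σ : Type u} [CommRing A] [SetLike σ A] [AddSubgroupClass σ A] {𝒜 : ℕ → σ} [GradedRing 𝒜]
variable {M τ : Type u} [AddCommGroup M] [Module A M] [SetLike τ M] [AddSubgroupClass τ M] {ℳ : ℕ → τ}
  [SetLike.GradedSMul 𝒜 ℳ] [DirectSum.Decomposition ℳ]
variable {N τ' : Type u} [AddCommGroup N] [Module A N] [SetLike τ' N] [AddSubgroupClass τ' N] {𝒩 : ℕ → τ'}
  [SetLike.GradedSMul 𝒜 𝒩] [DirectSum.Decomposition 𝒩]

/-- Numerator and denominator may be taken in any sufficiently large degree. -/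
theorem exists_frac_large {n : ℤ} (k₀ : ℕ) (x : ProjectiveSpectrum 𝒜) {q : GrMod.LocMod 𝒜 (M := M) x}
    (hq : q ∈ GrMod.tildeAt 𝒜 ℳ n x) :
    ∃ (i j : ℕ) (m : ℳ i) (s : 𝒜 j) (hs : s.1 ∉ x.asHomogeneousIdeal.toIdeal),
      k₀ ≤ i ∧ (i : ℤ) = j + n ∧ q = LocalizedModule.mk m.1 ⟨s.1, hs⟩ := by
  obtain ⟨i, j, m, s, hs, e, rfl⟩ := tildeAt_eq_frac n x hq
  obtain ⟨d, t, hd, ht, htx⟩ := exists_pos_homogeneous_notMem 𝒜 x
  have hmem : t ^ k₀ * s.1 ∉ x.asHomogeneousIdeal.toIdeal :=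
    fun h => (x.isPrime.mem_or_mem h).elim (pow_notMem htx k₀) hs
  refine ⟨k₀ * d + i, k₀ * d + j, ⟨t ^ k₀ • m.1, SetLike.GradedSMul.smul_mem (pow_mem_deg ht k₀) m.2⟩,
    ⟨t ^ k₀ * s.1, SetLike.mul_mem_graded (pow_mem_deg ht k₀) s.2⟩, hmem,
    (Nat.le_mul_of_pos_right k₀ hd).trans (Nat.le_add_right _ _), by push_cast; omega, ?_⟩
  refine LocalizedModule.mk_eq.mpr ⟨1, ?_⟩
  show (1 : A) • (t ^ k₀ * s.1) • m.1 = (1 : A) • s.1 • t ^ k₀ • m.1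
  rw [smul_smul s.1, mul_comm]

/-- Vanishing in large degrees kills the stalks. -/
theorem eq_zero_of_eventually {n : ℤ} (h : ∃ k₀ : ℕ, ∀ k, k₀ ≤ k → ∀ m ∈ ℳ k, m = 0)
    (x : ProjectiveSpectrum 𝒜) {q : GrMod.LocMod 𝒜 (M := M) x} (hq : q ∈ GrMod.tildeAt 𝒜 ℳ n x) : q = 0 := by
  obtain ⟨k₀, hk₀⟩ := h
  obtain ⟨i, j, m, s, hs, hi, -, rfl⟩ := exists_frac_large k₀ x hq
  rw [hk₀ i hi m.1 m.2, LocalizedModule.zero_mk]

/-- Injectivity in large degrees gives injectivity on stalks. -/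
theorem eq_zero_of_locMap_eq_zero (u : M →ₗ[A] N) (hu : ∀ (i : ℕ) (m : M), m ∈ ℳ i → u m ∈ 𝒩 i)
    (h : ∃ k₀ : ℕ, ∀ k, k₀ ≤ k → ∀ m ∈ ℳ k, u m = 0 → m = 0) {n : ℤ}
    (x : ProjectiveSpectrum 𝒜) {q : GrMod.LocMod 𝒜 (M := M) x} (hq : q ∈ GrMod.tildeAt 𝒜 ℳ n x)
    (h0 : GrMod.locMap u x q = 0) : q = 0 := by
  obtain ⟨k₀, hk₀⟩ := h
  obtain ⟨i, j, m, s, hs, hi, -, rfl⟩ := exists_frac_large k₀ x hq
  obtain ⟨⟨c, hc⟩, heq⟩ := LocalizedModule.mk_eq.mp (((GrMod.locMap_mk u x m.1 _).symm.trans h0).trans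
    (LocalizedModule.zero_mk (1 : x.asHomogeneousIdeal.toIdeal.primeCompl)).symm)
  obtain ⟨l, c', hc'l, hc'x, hc'⟩ := exists_homogeneous_kill (ℳ := 𝒩) (hu i m.1 m.2) x (c := c) hc
    (by simpa [Submonoid.smul_def] using heq)
  have hm0 : c' • m.1 = 0 :=
    hk₀ (l + i) (hi.trans (Nat.le_add_left _ _)) _ (SetLike.GradedSMul.smul_mem hc'l m.2) (by rw [map_smul, hc'])
  refine (LocalizedModule.mk_eq.mpr ⟨⟨c', hc'x⟩, ?_⟩).trans
    (LocalizedModule.zero_mk (1 : x.asHomogeneousIdeal.toIdeal.primeCompl))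
  show c' • (1 : A) • m.1 = c' • s.1 • (0 : M)
  rw [one_smul, smul_zero, smul_zero, hm0]

/-- Surjectivity in large degrees gives local lifts. -/
theorem exists_local_lift (u : M →ₗ[A] N) (hu : ∀ (i : ℕ) (m : M), m ∈ ℳ i → u m ∈ 𝒩 i)
    (h : ∃ k₀ : ℕ, ∀ k, k₀ ≤ k → ∀ x ∈ 𝒩 k, ∃ m ∈ ℳ k, u m = x) {n : ℤ} {V : (Proj 𝒜).Opens}
    (t : Γ(GrMod.tilde 𝒜 𝒩 n, V)) (z : Proj 𝒜) (hz : z ∈ V) :
    ∃ (O : (Proj 𝒜).Opens) (hO : O ≤ V), z ∈ O ∧
      ∃ a : Γ(GrMod.tilde 𝒜 ℳ n, O), (GrMod.map 𝒜 u hu n).app O a = resM _ hO t := by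
  obtain ⟨k₀, hk₀⟩ := h
  obtain ⟨W, hzW, iW, i, j, x, s, nin, hdeg, hw⟩ :=
    (t : GrMod.sect 𝒜 𝒩 n (op V)).2 ⟨z, hz⟩
  rcases hdeg with hdeg | hx
  · obtain ⟨d, g, hd, hg, hgz⟩ := exists_pos_homogeneous_notMem 𝒜 z
    obtain ⟨m, hm, hum⟩ := hk₀ (k₀ * d + i) ((Nat.le_mul_of_pos_right k₀ hd).trans (Nat.le_add_right _ _))
      (g ^ k₀ • x.1) (SetLike.GradedSMul.smul_mem (pow_mem_deg hg k₀) x.2)
    have hnin : ∀ y : (W ⊓ Proj.basicOpen 𝒜 g : (Proj 𝒜).Opens),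
        g ^ k₀ * s.1 ∉ y.1.asHomogeneousIdeal.toIdeal := fun y h =>
      (y.1.isPrime.mem_or_mem h).elim (pow_notMem y.2.2 k₀) (nin ⟨y.1, y.2.1⟩)
    refine ⟨W ⊓ Proj.basicOpen 𝒜 g, inf_le_left.trans (leOfHom iW), ⟨hzW, hgz⟩,
      fracSect _ ⟨m, hm⟩ ⟨g ^ k₀ * s.1, SetLike.mul_mem_graded (pow_mem_deg hg k₀) s.2⟩ hnin
        (by push_cast; omega), sect_ext fun y => ?_⟩
    refine (GrMod.locMap_mk u y.1 _ _).trans (Eq.trans ?_ (hw ⟨y.1, y.2.1⟩).symm)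
    refine LocalizedModule.mk_eq.mpr ⟨1, ?_⟩
    show (1 : A) • s.1 • u m = (1 : A) • (g ^ k₀ * s.1) • x.1
    rw [hum, smul_smul s.1, mul_comm]
  · refine ⟨W, leOfHom iW, hzW, 0, sect_ext fun y => ?_⟩
    refine (map_zero (GrMod.locMap u y.1)).trans (Eq.trans ?_ (hw y).symm)
    rw [hx, LocalizedModule.zero_mk]

end ring

variable {Y P : Scheme.{u}} {𝒮 : RelProj.QCGrAlg Y} {p : P ⟶ Y}
  {chart : ∀ (U : Y.Opens) (hU : IsAffineOpen U), (((p ⁻¹ᵁ U : P.Opens) : Scheme.{u}) ≅ Proj (𝒮.deg U hU))}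
  {ℳ 𝒩 : RelProj.GrModule 𝒮} {n : ℤ}

/-- A compatible family of maps into the charts lifts uniquely. -/
theorem exists_lift (hP : RelProj.IsRelProj 𝒮 p chart) (hℳ : IsLocalGrModule ℳ) {F G : P.Modules}
    (lam : ∀ (U : Y.Opens) (hU : IsAffineOpen U), F ⟶ chartMod p chart ℳ n U hU)
    (hF : RelProj.IsRelTilde 𝒮 p chart ℳ n F lam)
    (μ : ∀ (U : Y.Opens) (hU : IsAffineOpen U), G ⟶ chartMod p chart ℳ n U hU)
    (hμ : ∀ (U D : Y.Opens) (hU : IsAffineOpen U) (hD : IsAffineOpen D) (r : Γ(Y, U)) (h : D = Y.basicOpen r),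
      μ D hD = μ U hU ≫ chartTrans ℳ hP n hU hD r h) :
    ∃ φ : G ⟶ F, ∀ (U : Y.Opens) (hU : IsAffineOpen U), φ ≫ lam U hU = μ U hU := by
  obtain ⟨e, he⟩ := existsUnique_hom lam hF (relTildeLam ℳ hP n) (isRelTilde_relTilde hℳ) hℳ hP
  let ψ : G ⟶ ∏ᶜ fun U : Y.affineOpens => chartMod p chart ℳ n U.1 U.2 := Limits.Pi.lift fun U => μ U.1 U.2
  have hψ : ψ ≫ glueDiff (fun U : Y.affineOpens => chartMod p chart ℳ n U.1 U.2)
      (fun k : BasicPair Y => chartMod p chart ℳ n k.D.1 k.D.2) BasicPair.D BasicPair.U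
      (fun k => 𝟙 (chartMod p chart ℳ n k.D.1 k.D.2))
      (fun k => chartTrans ℳ hP n k.U.2 k.D.2 k.r k.eq) = 0 := by
    refine Limits.Pi.hom_ext _ _ fun k => ?_
    simp only [ψ, glueDiff, Category.assoc, Limits.Pi.lift_π, Preadditive.comp_sub,
      Limits.zero_comp, Limits.Pi.lift_π_assoc, Category.comp_id, sub_eq_zero]
    exact hμ k.U.1 k.D.1 k.U.2 k.D.2 k.r k.eq
  let φ : G ⟶ relTilde ℳ hP n := Limits.kernel.lift _ ψ hψ
  have hφ : ∀ (U : Y.Opens) (hU : IsAffineOpen U), φ ≫ relTildeLam ℳ hP n U hU = μ U hU := fun U hU => by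
    refine (Category.assoc _ _ _).symm.trans ?_
    refine (congrArg (fun q => q ≫ Limits.Pi.π (fun U : Y.affineOpens => chartMod p chart ℳ n U.1 U.2) ⟨U, hU⟩)
      (Limits.kernel.lift_ι _ ψ hψ)).trans ?_
    exact Limits.Pi.lift_π _ _
  refine ⟨φ ≫ e.inv, fun U hU => ?_⟩
  rw [← he U hU, Category.assoc, Iso.inv_hom_id_assoc]
  exact hφ U hU

/-- The linear map on the sections over an affine open. -/
noncomputable abbrev linAt (u : ℳ.mod ⟶ 𝒩.mod) (U : Y.Opens) :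
    ℳ.mod.val.obj (op U) →ₗ[𝒮.presheaf.obj (op U)] 𝒩.mod.val.obj (op U) :=
  (u.val.app (op U)).hom

variable (p chart n) in
/-- The induced map on one chart. -/
noncomputable abbrev chartMap (u : ℳ.mod ⟶ 𝒩.mod) (hu : RelProj.IsGrModHom u) (U : Y.Opens) (hU : IsAffineOpen U) :
    chartMod p chart ℳ n U hU ⟶ chartMod p chart 𝒩 n U hU :=
  (Scheme.Modules.pushforward (RelProj.emb p chart U hU)).map (GrMod.map (𝒮.deg U hU) (linAt u U) (hu U hU) n)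

theorem chartMap_val (u : ℳ.mod ⟶ 𝒩.mod) (hu : RelProj.IsGrModHom u) (U : Y.Opens) (hU : IsAffineOpen U)
    (W : P.Opens) (s : Γ(chartMod p chart ℳ n U hU, W)) (z : ProjectiveSpectrum (𝒮.deg U hU))
    (hz : (RelProj.emb p chart U hU).base z ∈ W) :
    GrMod.val (V := RelProj.emb p chart U hU ⁻¹ᵁ W) ((chartMap p chart n u hu U hU).app W s) ⟨z, hz⟩ =
      GrMod.locMap (linAt u U) z (GrMod.val (V := RelProj.emb p chart U hU ⁻¹ᵁ W) s ⟨z, hz⟩) := rfl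

/-- Naturality of the induced maps of localised modules. -/
theorem locModMap_locMap {A σ : Type u} [CommRing A] [SetLike σ A] [AddSubgroupClass σ A] {𝒜 : ℕ → σ} [GradedRing 𝒜]
    {B σ' : Type u} [CommRing B] [SetLike σ' B] [AddSubgroupClass σ' B] {ℬ : ℕ → σ'} [GradedRing ℬ]
    {M : Type u} [AddCommGroup M] [Module A M] {N : Type u} [AddCommGroup N] [Module A N]
    {M' : Type u} [AddCommGroup M'] [Module B M'] {N' : Type u} [AddCommGroup N'] [Module B N']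
    (ψ : 𝒜 →+*ᵍ ℬ) (hψ : ℬ₊ ≤ (𝒜₊).map ψ) (v : M →ₛₗ[ψ.toRingHom] M') (w : N →ₛₗ[ψ.toRingHom] N')
    (f : M →ₗ[A] N) (g : M' →ₗ[B] N') (hnat : ∀ m, g (v m) = w (f m)) (y : ProjectiveSpectrum ℬ)
    (q : GrMod.LocMod 𝒜 (M := M) (ProjectiveSpectrum.comap ψ hψ y)) :
    GrMod.locMap g y (GrMod.locModMap ψ hψ v y q) = GrMod.locModMap ψ hψ w y (GrMod.locMap f _ q) := by
  induction q using LocalizedModule.induction_on with
  | h m s =>
    refine (congrArg _ (GrMod.locModMap_mk ψ hψ v y m s)).trans ((GrMod.locMap_mk g y _ _).trans ?_)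
    refine Eq.trans ?_ (congrArg _ (GrMod.locMap_mk f _ m s)).symm
    refine Eq.trans ?_ (GrMod.locModMap_mk ψ hψ w y _ _).symm
    rw [hnat]

theorem chartMap_trans (hP : RelProj.IsRelProj 𝒮 p chart) (u : ℳ.mod ⟶ 𝒩.mod) (hu : RelProj.IsGrModHom u)
    {U D : Y.Opens} (hU : IsAffineOpen U) (hD : IsAffineOpen D) (r : Γ(Y, U)) (h : D = Y.basicOpen r) :
    chartTrans ℳ hP n hU hD r h ≫ chartMap p chart n u hu D hD =
      chartMap p chart n u hu U hU ≫ chartTrans 𝒩 hP n hU hD r h := by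
  refine Scheme.Modules.hom_ext _ _ fun W => ?_
  ext a
  refine sect_ext fun z => ?_
  refine (chartMap_val u hu D hD W _ z.1 z.2).trans ?_
  refine (congrArg _ (chartTrans_val ℳ hP n hU hD r h W a z.1 z.2)).trans ?_
  refine Eq.trans ?_ (chartTrans_val 𝒩 hP n hU hD r h W _ z.1 z.2).symm
  refine Eq.trans ?_ (congrArg _ (chartMap_val u hu U hU W a _ _)).symm
  exact locModMap_locMap _ _ _ _ (linAt u U) (linAt u D)
    (fun m => PresheafOfModules.naturality_apply u.val (homOfLE (le_of_basic h)).op m) z.1 _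

/-- The induced map exists and is unique. -/
theorem existsUnique_map (hP : RelProj.IsRelProj 𝒮 p chart) (h𝒩 : IsLocalGrModule 𝒩)
    (u : ℳ.mod ⟶ 𝒩.mod) (hu : RelProj.IsGrModHom u) {F G : P.Modules}
    (lam : ∀ (U : Y.Opens) (hU : IsAffineOpen U), F ⟶ chartMod p chart ℳ n U hU)
    (hF : RelProj.IsRelTilde 𝒮 p chart ℳ n F lam)
    (lam' : ∀ (U : Y.Opens) (hU : IsAffineOpen U), G ⟶ chartMod p chart 𝒩 n U hU)
    (hG : RelProj.IsRelTilde 𝒮 p chart 𝒩 n G lam') :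
    ∃! ut : F ⟶ G, ∀ (U : Y.Opens) (hU : IsAffineOpen U), ut ≫ lam' U hU = lam U hU ≫ chartMap p chart n u hu U hU := by
  obtain ⟨φ, hφ⟩ := exists_lift hP h𝒩 lam' hG (fun U hU => lam U hU ≫ chartMap p chart n u hu U hU)
    fun U D hU hD r h => by
      have hc : lam D hD = lam U hU ≫ chartTrans ℳ hP n hU hD r h := by
        subst h
        refine Scheme.Modules.hom_ext _ _ fun W => ?_
        ext s
        refine sect_ext fun z => ?_
        refine (hF.compat U hU r W s z.1 z.2 (emb_comap_mem hP hU hD r rfl z.2)).trans ?_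
        exact (chartTrans_val ℳ hP n hU hD r rfl W ((lam U hU).app W s) z.1 z.2).symm
      rw [hc, Category.assoc, chartMap_trans hP u hu hU hD r h, Category.assoc]
  exact ⟨φ, hφ, fun ψ hψ => hom_ext_lam lam' hG.bijective fun U hU => (hψ U hU).trans (hφ U hU).symm⟩

variable {F G : P.Modules} {lam : ∀ (U : Y.Opens) (hU : IsAffineOpen U), F ⟶ chartMod p chart ℳ n U hU}
  {lam' : ∀ (U : Y.Opens) (hU : IsAffineOpen U), G ⟶ chartMod p chart 𝒩 n U hU}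

theorem ut_app {u : ℳ.mod ⟶ 𝒩.mod} {hu : RelProj.IsGrModHom u} {ut : F ⟶ G}
    (hut : ∀ (U : Y.Opens) (hU : IsAffineOpen U), ut ≫ lam' U hU = lam U hU ≫ chartMap p chart n u hu U hU)
    (U : Y.Opens) (hU : IsAffineOpen U) (W : P.Opens) (s : Γ(F, W)) :
    (lam' U hU).app W (ut.app W s) = (chartMap p chart n u hu U hU).app W ((lam U hU).app W s) :=
  ConcreteCategory.congr_hom (congrArg (fun q => Scheme.Modules.Hom.app q W) (hut U hU)) s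

theorem exists_affine (x : P) : ∃ (U : Y.Opens) (_ : IsAffineOpen U), p.base x ∈ U := by
  obtain ⟨V, hV, hxV, -⟩ := Opens.isBasis_iff_nbhd.mp Y.isBasis_affineOpens (Opens.mem_top (p.base x))
  exact ⟨V, hV, hxV⟩

/-- Zero when the module vanishes in large degrees. -/
theorem isZero_of_isTN (hF : RelProj.IsRelTilde 𝒮 p chart ℳ n F lam) (hTN : ℳ.IsTN) : Limits.IsZero F := by
  obtain ⟨k₀, hk₀⟩ := hTN
  refine isZero_modules_of_subsingleton F fun W => ⟨fun a b => ?_⟩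
  induction W using Opposite.rec with
  | op W =>
    refine Groth.Agent.AmpleLib.sec_ext F a b fun x hx => ?_
    obtain ⟨U, hU, hxU⟩ := exists_affine (p := p) x
    refine ⟨W ⊓ p ⁻¹ᵁ U, inf_le_left, ⟨hx, hxU⟩, (hF.bijective U hU _ inf_le_right).1 (sect_ext fun z => ?_)⟩
    exact (eq_zero_of_eventually ⟨k₀, fun k hk => hk₀ U hU k hk⟩ z.1 (Subtype.mem _)).trans
      (eq_zero_of_eventually ⟨k₀, fun k hk => hk₀ U hU k hk⟩ z.1 (Subtype.mem _)).symm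

theorem map_app_injective {A σ : Type u} [CommRing A] [SetLike σ A] [AddSubgroupClass σ A] {𝒜 : ℕ → σ} [GradedRing 𝒜]
    {M τ : Type u} [AddCommGroup M] [Module A M] [SetLike τ M] [AddSubgroupClass τ M] {ℳ₀ : ℕ → τ}
    [SetLike.GradedSMul 𝒜 ℳ₀] [DirectSum.Decomposition ℳ₀]
    {N τ' : Type u} [AddCommGroup N] [Module A N] [SetLike τ' N] [AddSubgroupClass τ' N] {𝒩₀ : ℕ → τ'}
    [SetLike.GradedSMul 𝒜 𝒩₀] [DirectSum.Decomposition 𝒩₀]
    (f : M →ₗ[A] N) (hf : ∀ (i : ℕ) (m : M), m ∈ ℳ₀ i → f m ∈ 𝒩₀ i)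
    (h : ∃ k₀ : ℕ, ∀ k, k₀ ≤ k → ∀ m ∈ ℳ₀ k, f m = 0 → m = 0) (m : ℤ) (V : (Proj 𝒜).Opens) :
    Function.Injective ((GrMod.map 𝒜 f hf m).app V) := fun s s' e => by
  refine sect_ext fun z => sub_eq_zero.1 ?_
  refine eq_zero_of_locMap_eq_zero f hf h z.1
    (sub_mem (Subtype.mem ((s : GrMod.sect 𝒜 ℳ₀ m (op V)).1 z)) (Subtype.mem ((s' : GrMod.sect 𝒜 ℳ₀ m (op V)).1 z))) ?_
  rw [map_sub, sub_eq_zero]
  exact (GrMod.map_app_val f hf m V s z).symm.trans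
    ((congrArg (fun q => GrMod.val (V := V) q z) e).trans (GrMod.map_app_val f hf m V s' z))

theorem mono_of_isTNInjective (hF : RelProj.IsRelTilde 𝒮 p chart ℳ n F lam)
    {u : ℳ.mod ⟶ 𝒩.mod} {hu : RelProj.IsGrModHom u}
    (hinj : ∃ n₀ : ℕ, ∀ (U : Y.Opens) (hU : IsAffineOpen U) (k : ℕ), n₀ ≤ k →
      ∀ m ∈ ℳ.deg U hU k, linAt u U m = 0 → m = 0) {ut : F ⟶ G}
    (hut : ∀ (U : Y.Opens) (hU : IsAffineOpen U), ut ≫ lam' U hU = lam U hU ≫ chartMap p chart n u hu U hU) :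
    Mono ut := by
  obtain ⟨n₀, hn₀⟩ := hinj
  refine ⟨fun {Z} α β hαβ => Scheme.Modules.hom_ext _ _ fun W => ?_⟩
  ext a
  refine Groth.Agent.AmpleLib.sec_ext F _ _ fun x hx => ?_
  obtain ⟨U, hU, hxU⟩ := exists_affine (p := p) x
  have hle : W ⊓ p ⁻¹ᵁ U ≤ W := inf_le_left
  refine ⟨_, hle, ⟨hx, hxU⟩, (hF.bijective U hU _ inf_le_right).1
    (map_app_injective (linAt u U) (hu U hU) ⟨n₀, fun k hk => hn₀ U hU k hk⟩ n _ ?_)⟩
  refine (ut_app hut U hU _ _).symm.trans (Eq.trans ?_ (ut_app hut U hU _ _))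
  refine congrArg _ ((app_resM ut hle (α.app W a)).trans (Eq.trans ?_ (app_resM ut hle (β.app W a)).symm))
  exact congrArg _ (ConcreteCategory.congr_hom (congrArg (fun q => Scheme.Modules.Hom.app q W) hαβ) a)

theorem epi_of_isTNSurjective (hF : RelProj.IsRelTilde 𝒮 p chart ℳ n F lam)
    (hG : RelProj.IsRelTilde 𝒮 p chart 𝒩 n G lam') {u : ℳ.mod ⟶ 𝒩.mod} {hu : RelProj.IsGrModHom u}
    (hsurj : ∃ n₀ : ℕ, ∀ (U : Y.Opens) (hU : IsAffineOpen U) (k : ℕ), n₀ ≤ k →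
      ∀ m' ∈ 𝒩.deg U hU k, ∃ m ∈ ℳ.deg U hU k, linAt u U m = m') {ut : F ⟶ G}
    (hut : ∀ (U : Y.Opens) (hU : IsAffineOpen U), ut ≫ lam' U hU = lam U hU ≫ chartMap p chart n u hu U hU) :
    Epi ut := by
  obtain ⟨n₀, hn₀⟩ := hsurj
  refine epi_of_locally_surjective ut fun W b x hx => ?_
  obtain ⟨U, hU, hxU⟩ := exists_affine (p := p) x
  obtain ⟨z, rfl⟩ := exists_preimage (chart := chart) hU hxU
  obtain ⟨O, hO, hzO, a, ha⟩ := exists_local_lift (linAt u U) (hu U hU) ⟨n₀, fun k hk => hn₀ U hU k hk⟩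
    (show Γ(GrMod.tilde (𝒮.deg U hU) (𝒩.deg U hU) n, RelProj.emb p chart U hU ⁻¹ᵁ W) from (lam' U hU).app W b) z hx
  have hW' : RelProj.emb p chart U hU ''ᵁ O ≤ W :=
    ((RelProj.emb p chart U hU).image_mono hO).trans ((RelProj.emb p chart U hU).image_preimage_le W)
  have hWU : RelProj.emb p chart U hU ''ᵁ O ≤ p ⁻¹ᵁ U :=
    ((RelProj.emb p chart U hU).image_le_opensRange O).trans (opensRange_emb (p := p) (chart := chart) U hU).le
  have hpre : RelProj.emb p chart U hU ⁻¹ᵁ (RelProj.emb p chart U hU ''ᵁ O) = O :=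
    (RelProj.emb p chart U hU).preimage_image_eq O
  obtain ⟨c, hc⟩ := (hF.bijective U hU _ hWU).2
    (show Γ(chartMod p chart ℳ n U hU, RelProj.emb p chart U hU ''ᵁ O) from resM _ hpre.le a)
  refine ⟨_, hW', ⟨z, hzO, rfl⟩, c, (hG.bijective U hU _ hWU).1 ?_⟩
  rw [ut_app hut U hU, hc, app_resM]
  refine (app_resM (GrMod.map (𝒮.deg U hU) (linAt u U) (hu U hU) n) hpre.le a).trans ?_
  refine (congrArg (resM _ hpre.le) ha).trans ?_
  rfl

end Groth.Agent.TwistLib.G
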