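import Groth.Agent.TwistLib.G.RelTwist
import Groth.Agent.TwistLib.G.RelMap
import Groth.Agent.TwistLib.G.Inv
import Groth.Agent.RelConeLib.RetrFibre

/-!
# Generators of `O_P(n)` on a relative Proj
-/

set_option autoImplicit false
set_option linter.unusedSectionVars false
set_option backward.isDefEq.respectTransparency.types false
set_option maxHeartbeats 400000

universe u

open DirectSum AlgebraicGeometry CategoryTheory TopologicalSpace Opposite
open Groth.Agent.ProjLib Groth.Agent.Coherent Groth.Agent.PicLib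
open scoped HomogeneousIdeal

namespace Groth.Agent.TwistLib.G

/-- A generator seen through an identification over an open immersion is a generator. -/
theorem isGen_of_bijective_app {X Z : Scheme.{u}} (e : Z ⟶ X) [IsOpenImmersion e] {L : X.Modules} {N : Z.Modules}
    (φ : L ⟶ (Scheme.Modules.pushforward e).obj N)
    (hφ : ∀ V : X.Opens, V ≤ e.opensRange → Function.Bijective (φ.app V)) {O : X.Opens} (hO : O ≤ e.opensRange)
    {s : Γ(L, O)} (hs : IsGen N (e ⁻¹ᵁ O) (φ.app O s)) : IsGen L O s := by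
  intro V hV
  have : IsIso (e.app V) := e.isIso_app _ (hV.trans hO)
  refine (Function.Bijective.of_comp_iff' (hφ V (hV.trans hO)) _).1 ?_
  have h : ∀ r : Γ(X, V), φ.app V (r • resM L hV s) =
      (show Γ(Z, e ⁻¹ᵁ V) from e.app V r) • resM N (e.preimage_mono hV) (φ.app O s) := fun r =>
    (Scheme.Modules.Hom.app_smul φ r _).trans
      (congrArg (fun z : Γ(N, e ⁻¹ᵁ V) => (show Γ(Z, e ⁻¹ᵁ V) from e.app V r) • z) (app_resM φ hV s))
  show Function.Bijective (fun r : Γ(X, V) => φ.app V (r • resM L hV s))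
  rw [funext h]
  exact
    (hs (e ⁻¹ᵁ V) (e.preimage_mono hV)).comp (ConcreteCategory.bijective_of_isIso (e.app V))

variable {Y P : Scheme.{u}} {𝒮 : RelProj.QCGrAlg Y} {p : P ⟶ Y}
  {chart : ∀ (U : Y.Opens) (hU : IsAffineOpen U), (((p ⁻¹ᵁ U : P.Opens) : Scheme.{u}) ≅ Proj (𝒮.deg U hU))}

section section'

variable {ℳ : RelProj.GrModule 𝒮} {n : ℤ}

/-- A compatible family of sections over the charts is one section. -/
theorem exists_section (hP : RelProj.IsRelProj 𝒮 p chart) (hℳ : IsLocalGrModule ℳ) {F : P.Modules}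
    (lam : ∀ (U : Y.Opens) (hU : IsAffineOpen U), F ⟶ chartMod p chart ℳ n U hU)
    (hF : RelProj.IsRelTilde 𝒮 p chart ℳ n F lam) {W : P.Opens}
    (t : ∀ (U : Y.Opens) (hU : IsAffineOpen U), Γ(chartMod p chart ℳ n U hU, W))
    (ht : ∀ (U D : Y.Opens) (hU : IsAffineOpen U) (hD : IsAffineOpen D) (r : Γ(Y, U)) (h : D = Y.basicOpen r),
      t D hD = (chartTrans ℳ hP n hU hD r h).app W (t U hU)) :
    ∃ s : Γ(F, W), ∀ (U : Y.Opens) (hU : IsAffineOpen U), (lam U hU).app W s = t U hU := by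
  obtain ⟨e, he⟩ := existsUnique_hom lam hF (relTildeLam ℳ hP n) (isRelTilde_relTilde hℳ) hℳ hP
  obtain ⟨s, hs⟩ := glued_surj (fun U : Y.affineOpens => chartMod p chart ℳ n U.1 U.2)
    (fun k : BasicPair Y => chartMod p chart ℳ n k.D.1 k.D.2) BasicPair.D BasicPair.U
    (fun k => 𝟙 (chartMod p chart ℳ n k.D.1 k.D.2))
    (fun k => chartTrans ℳ hP n k.U.2 k.D.2 k.r k.eq) (fun U => t U.1 U.2)
    fun k => ht k.U.1 k.D.1 k.U.2 k.D.2 k.r k.eq
  refine ⟨e.inv.app W s, fun U hU => ?_⟩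
  have h : e.inv ≫ lam U hU = relTildeLam ℳ hP n U hU := by rw [← he U hU, Iso.inv_hom_id_assoc]
  exact (ConcreteCategory.congr_hom (congrArg (fun q => Scheme.Modules.Hom.app q W) h) s).trans (hs ⟨U, hU⟩)

end section'

theorem preimage_emb {U : Y.Opens} (hU : IsAffineOpen U) {Xf : P.Opens} {D : (Proj (𝒮.deg U hU)).Opens}
    (h : Xf ⊓ p ⁻¹ᵁ U = (p ⁻¹ᵁ U).ι ''ᵁ ((chart U hU).hom ⁻¹ᵁ D)) : RelProj.emb p chart U hU ⁻¹ᵁ Xf = D := by
  refine Opens.ext (Set.ext fun z => ?_)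
  have hiff : (RelProj.emb p chart U hU).base z ∈ Xf ⊓ p ⁻¹ᵁ U ↔ z ∈ D := by
    rw [h]
    constructor
    · rintro ⟨w, hw, hwz⟩
      have : w = (chart U hU).inv.base z := (p ⁻¹ᵁ U).ι.isOpenEmbedding.injective hwz
      subst this
      have e := congrArg (fun q : Proj (𝒮.deg U hU) ⟶ Proj (𝒮.deg U hU) => q.base z) (chart U hU).inv_hom_id
      exact (show (chart U hU).hom.base ((chart U hU).inv.base z) = z from e) ▸ hw
    · intro hz
      refine ⟨(chart U hU).inv.base z, ?_, rfl⟩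
      have e := congrArg (fun q : Proj (𝒮.deg U hU) ⟶ Proj (𝒮.deg U hU) => q.base z) (chart U hU).inv_hom_id
      show (chart U hU).hom.base ((chart U hU).inv.base z) ∈ D
      rw [show (chart U hU).hom.base ((chart U hU).inv.base z) = z from e]
      exact hz
  exact ⟨fun hz => hiff.1 ⟨hz, emb_mem U hU z⟩, fun hz => (hiff.2 hz).1⟩

variable {n : ℤ} {L : P.Modules}
  {lam : ∀ (U : Y.Opens) (hU : IsAffineOpen U),
    L ⟶ (Scheme.Modules.pushforward (RelProj.emb p chart U hU)).obj (GrTwist.twist (𝒮.deg U hU) n)}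

/-- A generator of `O(n)` on one chart gives one of `O_P(n)`. -/
theorem isGen_of_lam (hL : RelProj.IsRelTwist 𝒮 p chart n L lam) {U : Y.Opens} (hU : IsAffineOpen U) {O : P.Opens}
    (hO : O ≤ p ⁻¹ᵁ U) {s : Γ(L, O)}
    (hs : IsGen (GrTwist.twist (𝒮.deg U hU) n) (RelProj.emb p chart U hU ⁻¹ᵁ O) ((lam U hU).app O s)) :
    IsGen L O s :=
  isGen_of_bijective_app (RelProj.emb p chart U hU) (lam U hU)
    (fun V hV => hL.bijective U hU V (hV.trans (opensRange_emb (p := p) (chart := chart) U hU).le))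
    (hO.trans (opensRange_emb (p := p) (chart := chart) U hU).ge) hs

/-- A power of a homogeneous element gives a generator over the image of its open. -/
theorem exists_isGen_image (hL : RelProj.IsRelTwist 𝒮 p chart n L lam) {U : Y.Opens} (hU : IsAffineOpen U) {d : ℕ}
    {g : 𝒮.presheaf.obj (op U)} (hg : g ∈ 𝒮.deg U hU d) {m : ℤ} (hn : n = m * d) {O : P.Opens} (hO : O ≤ p ⁻¹ᵁ U)
    (hOg : RelProj.emb p chart U hU ⁻¹ᵁ O ≤ Proj.basicOpen (𝒮.deg U hU) g) :
    ∃ s : Γ(L, O), IsGen L O s := by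
  subst hn
  obtain ⟨s, hs⟩ := (hL.bijective U hU O hO).2
    (resM (GrTwist.twist (𝒮.deg U hU) (m * d)) hOg (tau hg m _ le_rfl))
  exact ⟨s, isGen_of_lam hL hU hO (hs ▸ (isGen_tau hg m).restrict hOg)⟩

theorem exists_chart_basicOpen (x : P) :
    ∃ (U : Y.Opens) (hU : IsAffineOpen U) (d : ℕ) (g : 𝒮.presheaf.obj (op U)) (O : P.Opens),
      0 < d ∧ g ∈ 𝒮.deg U hU d ∧ x ∈ O ∧ O ≤ p ⁻¹ᵁ U ∧
        RelProj.emb p chart U hU ⁻¹ᵁ O ≤ Proj.basicOpen (𝒮.deg U hU) g := by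
  obtain ⟨U, hU, hxU⟩ := exists_affine (p := p) x
  obtain ⟨z, rfl⟩ := exists_preimage (chart := chart) hU hxU
  obtain ⟨d, g, hd, hg, hgz⟩ := exists_pos_homogeneous_notMem (𝒮.deg U hU) z
  exact ⟨U, hU, d, g, RelProj.emb p chart U hU ''ᵁ Proj.basicOpen (𝒮.deg U hU) g, hd, hg, ⟨z, hgz, rfl⟩,
    ((RelProj.emb p chart U hU).image_le_opensRange _).trans (opensRange_emb (p := p) (chart := chart) U hU).le,
    ((RelProj.emb p chart U hU).preimage_image_eq _).le⟩

theorem exists_chart_basicOpen_one (hgen : 𝒮.IsGenDegOne) (x : P) :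
    ∃ (U : Y.Opens) (hU : IsAffineOpen U) (g : 𝒮.presheaf.obj (op U)) (O : P.Opens),
      g ∈ 𝒮.deg U hU 1 ∧ x ∈ O ∧ O ≤ p ⁻¹ᵁ U ∧
        RelProj.emb p chart U hU ⁻¹ᵁ O ≤ Proj.basicOpen (𝒮.deg U hU) g := by
  obtain ⟨U, hU, hxU⟩ := exists_affine (p := p) x
  obtain ⟨z, rfl⟩ := exists_preimage (chart := chart) hU hxU
  have hcov : ∃ g ∈ 𝒮.deg U hU 1, g ∉ z.asHomogeneousIdeal.toIdeal := by
    by_contra! h
    exact z.not_irrelevant_le (show (HomogeneousIdeal.irrelevant (𝒮.deg U hU)).toIdeal ≤ z.asHomogeneousIdeal.toIdeal from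
      (RelConeLib.irrelevant_le_span_degOne 𝒮 hgen U hU).trans (Ideal.span_le.mpr h))
  obtain ⟨g, hg, hgz⟩ := hcov
  exact ⟨U, hU, g, RelProj.emb p chart U hU ''ᵁ Proj.basicOpen (𝒮.deg U hU) g, hg, ⟨z, hgz, rfl⟩,
    ((RelProj.emb p chart U hU).image_le_opensRange _).trans (opensRange_emb (p := p) (chart := chart) U hU).le,
    ((RelProj.emb p chart U hU).preimage_image_eq _).le⟩

/-- `O_P(n)` is invertible when `𝒮` is generated in degree one. -/
theorem isInvertible_relTwist (hgen : 𝒮.IsGenDegOne) (hL : RelProj.IsRelTwist 𝒮 p chart n L lam) :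
    PicF.IsInvertible L := by
  refine isInvertible_of_gens fun x => ?_
  obtain ⟨U, hU, g, O, hg, hxO, hO, hOg⟩ := exists_chart_basicOpen_one (p := p) (chart := chart) hgen x
  exact ⟨O, hxO, exists_isGen_image hL hU hg (m := n) (by simp) hO hOg⟩

/-- Gluing the powers of a compatible family of homogeneous elements. -/
theorem exists_isGen_glued (hP : RelProj.IsRelProj 𝒮 p chart) {d : ℕ} {m : ℤ} (hn : n = m * d)
    (hL : RelProj.IsRelTwist 𝒮 p chart n L lam)
    (f : ∀ (U : Y.Opens), 𝒮.presheaf.obj (op U))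
    (hf : ∀ (U : Y.Opens) (hU : IsAffineOpen U), f U ∈ 𝒮.deg U hU d)
    (hres : ∀ (U D : Y.Opens) (hU : IsAffineOpen U) (hD : IsAffineOpen D) (h : D ≤ U), 𝒮.res hU hD h (f U) = f D)
    {Xf : P.Opens}
    (hXf : ∀ (U : Y.Opens) (hU : IsAffineOpen U),
      RelProj.emb p chart U hU ⁻¹ᵁ Xf = Proj.basicOpen (𝒮.deg U hU) (f U)) :
    ∃ s : Γ(L, Xf), IsGen L Xf s := by
  subst hn
  let t : ∀ (U : Y.Opens) (hU : IsAffineOpen U), Γ(GrTwist.twist (𝒮.deg U hU) (m * d), RelProj.emb p chart U hU ⁻¹ᵁ Xf) :=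
    fun U hU => tau (hf U hU) m _ (hXf U hU).le
  obtain ⟨s, hs⟩ := exists_section hP (isLocalGrModule_self 𝒮) _ (isRelTilde_of_isRelTwist hL)
    (fun U hU => (twistChartIso p chart (m * d) U hU).hom.app Xf (t U hU)) fun U D hU hD r h => by
      refine sect_ext fun z => ?_
      refine Eq.trans ?_ (chartTrans_val (selfGrModule 𝒮) hP _ hU hD r h Xf _ z.1 z.2).symm
      refine Eq.trans ?_ (GrMod.locModMap_mk _ _ _ z.1 ((f U) ^ m.toNat)
        ⟨(f U) ^ (-m).toNat, pow_notMem ((hXf U hU).le (emb_comap_mem hP hU hD r h z.2)) _⟩).symm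
      refine (LocalizedModule.mk_eq.mpr ⟨1, ?_⟩)
      show (1 : 𝒮.presheaf.obj (op D)) • (𝒮.res hU hD (le_of_basic h) ((f U) ^ (-m).toNat) * (f D) ^ m.toNat) =
        (1 : 𝒮.presheaf.obj (op D)) • ((f D) ^ (-m).toNat * 𝒮.res hU hD (le_of_basic h) ((f U) ^ m.toNat))
      rw [map_pow, map_pow, hres U D hU hD (le_of_basic h)]
  refine ⟨s, ?_⟩
  refine isGen_of_cover (fun U : Y.affineOpens => Xf ⊓ p ⁻¹ᵁ U.1) (fun U => inf_le_left) (fun x hx => ?_) fun U => ?_
  · obtain ⟨U, hU, hxU⟩ := exists_affine (p := p) x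
    exact Opens.mem_iSup.2 ⟨⟨U, hU⟩, hx, hxU⟩
  · refine isGen_of_lam hL U.2 inf_le_right ?_
    have h1 : (lam U.1 U.2).app Xf s = t U.1 U.2 :=
      (ConcreteCategory.bijective_of_isIso ((twistChartIso p chart (m * d) U.1 U.2).hom.app Xf)).1 (hs U.1 U.2)
    rw [app_resM, h1]
    exact (isGen_tau (hf U.1 U.2) m).restrict
      (((RelProj.emb p chart U.1 U.2).preimage_mono inf_le_left).trans (hXf U.1 U.2).le)

end Groth.Agent.TwistLib.G
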