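import Groth.Agent.TwistLib.G.RelMap
import Groth.Agent.TwistLib.G.Map
import Groth.Agent.Coherent.QcohOps
import Mathlib.Algebra.Homology.ShortComplex.Exact

/-!
# Exactness of relative tildes
-/

set_option autoImplicit false
set_option linter.unusedSectionVars false
set_option backward.isDefEq.respectTransparency.types false
set_option maxHeartbeats 400000

universe u

open DirectSum AlgebraicGeometry CategoryTheory TopologicalSpace Opposite
open Groth.Agent.ProjLib Groth.Agent.Coherent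
open scoped HomogeneousIdeal

namespace Groth.Agent.TwistLib.G

/-- A complex of modules which is exact on sections locally is exact. -/
theorem exact_of_locally {X : Scheme.{u}} {F₁ F₂ F₃ : X.Modules} (f : F₁ ⟶ F₂) (g : F₂ ⟶ F₃) (w : f ≫ g = 0)
    (h : ∀ (W : X.Opens) (s : Γ(F₂, W)), g.app W s = 0 → ∀ x ∈ W,
      ∃ (W' : X.Opens) (hle : W' ≤ W), x ∈ W' ∧ ∃ a : Γ(F₁, W'), f.app W' a = resM F₂ hle s) :
    (ShortComplex.mk f g w).Exact := by
  rw [ShortComplex.exact_iff_epi_kernel_lift]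
  refine epi_of_locally_surjective _ fun W k x hx => ?_
  obtain ⟨W', hle, hx', a, ha⟩ := h W ((Limits.kernel.ι g).app W k) (kernel_ι_app_zero g W k) x hx
  refine ⟨W', hle, hx', a, app_injective_of_mono (Limits.kernel.ι g) W' ?_⟩
  refine (ConcreteCategory.congr_hom
    (congrArg (fun q => Scheme.Modules.Hom.app q W') (Limits.kernel.lift_ι g f w)) a).trans ?_
  exact ha.trans (app_resM (Limits.kernel.ι g) hle k).symm

variable {Y P : Scheme.{u}} {𝒮 : RelProj.QCGrAlg Y} {p : P ⟶ Y}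
  {chart : ∀ (U : Y.Opens) (hU : IsAffineOpen U), (((p ⁻¹ᵁ U : P.Opens) : Scheme.{u}) ≅ Proj (𝒮.deg U hU))}
  {ℳ₁ ℳ₂ ℳ₃ : RelProj.GrModule 𝒮} {n : ℤ} {F₁ F₂ F₃ : P.Modules}
  {lam₁ : ∀ (U : Y.Opens) (hU : IsAffineOpen U), F₁ ⟶ chartMod p chart ℳ₁ n U hU}
  {lam₂ : ∀ (U : Y.Opens) (hU : IsAffineOpen U), F₂ ⟶ chartMod p chart ℳ₂ n U hU}
  {lam₃ : ∀ (U : Y.Opens) (hU : IsAffineOpen U), F₃ ⟶ chartMod p chart ℳ₃ n U hU}

theorem exact_relTilde (hF₁ : RelProj.IsRelTilde 𝒮 p chart ℳ₁ n F₁ lam₁)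
    (hF₂ : RelProj.IsRelTilde 𝒮 p chart ℳ₂ n F₂ lam₂)
    (u : ℳ₁.mod ⟶ ℳ₂.mod) (hu : RelProj.IsGrModHom u) (v : ℳ₂.mod ⟶ ℳ₃.mod) (hv : RelProj.IsGrModHom v)
    (hex : ∀ (U : Y.Opens) (_ : IsAffineOpen U), Function.Exact (linAt u U) (linAt v U))
    (ut : F₁ ⟶ F₂) (hut : ∀ (U : Y.Opens) (hU : IsAffineOpen U), ut ≫ lam₂ U hU = lam₁ U hU ≫ chartMap p chart n u hu U hU)
    (vt : F₂ ⟶ F₃) (hvt : ∀ (U : Y.Opens) (hU : IsAffineOpen U), vt ≫ lam₃ U hU = lam₂ U hU ≫ chartMap p chart n v hv U hU)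
    (w : ut ≫ vt = 0) : (ShortComplex.mk ut vt w).Exact := by
  refine exact_of_locally ut vt w fun W s hs x hx => ?_
  obtain ⟨U, hU, hxU⟩ := exists_affine (p := p) x
  obtain ⟨z, rfl⟩ := exists_preimage (chart := chart) hU hxU
  obtain ⟨d, f, hd, hf, hfz, hfW⟩ := exists_homogeneous_basicOpen_subset (𝒮.deg U hU)
    (RelProj.emb p chart U hU ⁻¹ᵁ W).2 (show z ∈ RelProj.emb p chart U hU ⁻¹ᵁ W from hx)
  let r : Γ(GrMod.tilde (𝒮.deg U hU) (ℳ₂.deg U hU) n, Proj.basicOpen (𝒮.deg U hU) f) :=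
    resM _ hfW (show Γ(GrMod.tilde (𝒮.deg U hU) (ℳ₂.deg U hU) n, RelProj.emb p chart U hU ⁻¹ᵁ W) from (lam₂ U hU).app W s)
  have h0 : (chartMap p chart n v hv U hU).app W ((lam₂ U hU).app W s) = 0 := by
    rw [← ut_app hvt U hU, hs, map_zero]
  have hr : (GrMod.map (𝒮.deg U hU) (linAt v U) (hv U hU) n).app (Proj.basicOpen (𝒮.deg U hU) f) r = 0 :=
    (app_resM (GrMod.map (𝒮.deg U hU) (linAt v U) (hv U hU) n) hfW _).trans
      ((congrArg (resM _ hfW) h0).trans (map_zero _))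
  obtain ⟨a, ha⟩ := (map_app_exact (linAt u U) (hu U hU) (linAt v U) (hv U hU) (hex U hU) n hd hf r).1 hr
  have hW' : RelProj.emb p chart U hU ''ᵁ Proj.basicOpen (𝒮.deg U hU) f ≤ W :=
    ((RelProj.emb p chart U hU).image_mono hfW).trans ((RelProj.emb p chart U hU).image_preimage_le W)
  have hWU : RelProj.emb p chart U hU ''ᵁ Proj.basicOpen (𝒮.deg U hU) f ≤ p ⁻¹ᵁ U :=
    ((RelProj.emb p chart U hU).image_le_opensRange _).trans (opensRange_emb (p := p) (chart := chart) U hU).le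
  have hpre := (RelProj.emb p chart U hU).preimage_image_eq (Proj.basicOpen (𝒮.deg U hU) f)
  obtain ⟨c, hc⟩ := (hF₁.bijective U hU _ hWU).2
    (show Γ(chartMod p chart ℳ₁ n U hU, RelProj.emb p chart U hU ''ᵁ Proj.basicOpen (𝒮.deg U hU) f) from
      resM _ hpre.le a)
  refine ⟨_, hW', ⟨z, hfz, rfl⟩, c, (hF₂.bijective U hU _ hWU).1 ?_⟩
  rw [ut_app hut U hU, hc, app_resM]
  refine (app_resM (GrMod.map (𝒮.deg U hU) (linAt u U) (hu U hU) n) hpre.le a).trans ?_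
  refine (congrArg (resM _ hpre.le) ha).trans ?_
  rfl

end Groth.Agent.TwistLib.G
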