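import Groth.Agent.TwistLib.G.TwistTilde
import Groth.Agent.AmpleLib.Power

/-!
# Generators of twisting sheaves and `M(p)~ ⊗ O(q) ≅ M(p + q)~`
-/

set_option autoImplicit false
set_option linter.unusedSectionVars false

universe u

open AlgebraicGeometry CategoryTheory TopologicalSpace Opposite
open Groth.Agent.ProjLib Groth.Agent.Coherent Groth.Agent.PicLib Groth.Agent.AmpleLib

namespace Groth.Agent.TwistLib.G

/-- A morphism which is bijective on the small opens of a cover is an isomorphism. -/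
theorem isIso_of_bijective_on {X : Scheme.{u}} {M N : X.Modules} (φ : M ⟶ N) {ι : Type u}
    (U : ι → X.Opens) (hcov : ∀ x : X, ∃ i, x ∈ U i)
    (h : ∀ (i : ι) (V : X.Opens), V ≤ U i → Function.Bijective (φ.app V)) : IsIso φ := by
  have hinj : ∀ V : X.Opens, Function.Injective (φ.app V) := fun V a b hab => by
    refine sec_ext M a b fun y hy => ?_
    obtain ⟨i, hi⟩ := hcov y
    refine ⟨V ⊓ U i, inf_le_left, ⟨hy, hi⟩, (h i _ inf_le_right).1 ?_⟩
    rw [app_resM, app_resM, hab]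
  refine Scheme.Modules.Hom.isIso_iff_isIso_app.mpr fun V =>
    (ConcreteCategory.isIso_iff_bijective _).mpr ⟨hinj V, fun z => ?_⟩
  choose i hi using hcov
  choose w hw using fun y : V => (h (i y.1) (V ⊓ U (i y.1)) inf_le_right).2 (resM N inf_le_left z)
  have hle : V ≤ ⨆ y : V, V ⊓ U (i y.1) := fun y hy => Opens.mem_iSup.2 ⟨⟨y, hy⟩, hy, hi y⟩
  obtain ⟨ρ, hρ, -⟩ := TopCat.Sheaf.existsUnique_gluing' (⟨M.presheaf, M.isSheaf⟩ : TopCat.Sheaf Ab X)
    (fun y : V => V ⊓ U (i y.1)) V (fun y => homOfLE inf_le_left) hle w fun a b => by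
      refine hinj _ ?_
      show φ.app _ (resM M inf_le_left (w a)) = φ.app _ (resM M inf_le_right (w b))
      rw [app_resM, app_resM, hw, hw, resM_resM, resM_resM]
  refine ⟨ρ, sec_ext N _ _ fun y hy => ⟨_, inf_le_left, ⟨hy, hi y⟩, ?_⟩⟩
  rw [← app_resM, ← hw ⟨y, hy⟩]
  exact congrArg _ (hρ ⟨y, hy⟩)

variable {A σ : Type u} [CommRing A] [SetLike σ A] [AddSubgroupClass σ A] {𝒜 : ℕ → σ}
  [GradedRing 𝒜] {d : ℕ} {t : A} (ht : t ∈ 𝒜 d)

/-- `t ^ m`, a section of `O(m d)` where `t` does not vanish. -/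
def tau (m : ℤ) (V : Opens (ProjectiveSpectrum.top 𝒜)) (hV : V ≤ ProjectiveSpectrum.basicOpen 𝒜 t) :
    GrTwist.sectN (𝒜 := 𝒜) (m * d) (op V) :=
  fracSec (m * d) V ⟨t ^ m.toNat, pow_mem_deg ht _⟩ ⟨t ^ (-m).toNat, pow_mem_deg ht _⟩
    (fun x => pow_notMem (hV x.2) _) (by
      push_cast
      linear_combination (d : ℤ) * (Int.toNat_sub_toNat_neg m))

theorem tau_val (m : ℤ) (V : Opens (ProjectiveSpectrum.top 𝒜))
    (hV : V ≤ ProjectiveSpectrum.basicOpen 𝒜 t) (x : V) :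
    ((tau ht m V hV).1 x).1 = Localization.mk (t ^ m.toNat)
      ⟨t ^ (-m).toNat, pow_notMem (hV x.2) _⟩ := rfl

theorem tau_mul_neg (m : ℤ) (V : Opens (ProjectiveSpectrum.top 𝒜))
    (hV : V ≤ ProjectiveSpectrum.basicOpen 𝒜 t) (x : V) :
    ((tau ht m V hV).1 x).1 * ((tau ht (-m) V hV).1 x).1 = 1 := by
  rw [tau_val, tau_val, Localization.mk_mul]
  exact (Localization.mk_eq_mk_iff.2 (Localization.r_iff_exists.2 ⟨1, by
    simp only [Submonoid.coe_mul, Submonoid.coe_one, neg_neg]; ring⟩)).trans Localization.mk_one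

theorem isUnit_tau (m : ℤ) (V : Opens (ProjectiveSpectrum.top 𝒜))
    (hV : V ≤ ProjectiveSpectrum.basicOpen 𝒜 t) (x : V) : IsUnit ((tau ht m V hV).1 x).1 :=
  IsUnit.of_mul_eq_one _ (tau_mul_neg ht m V hV x)

theorem smul_tau_bijective (m : ℤ) (V : Opens (ProjectiveSpectrum.top 𝒜))
    (hV : V ≤ ProjectiveSpectrum.basicOpen 𝒜 t) :
    Function.Bijective fun g : GrTwist.O (𝒜 := 𝒜) (op V) => oSmul g (tau ht m V hV) := by
  have hval : ∀ (g : GrTwist.O (𝒜 := 𝒜) (op V)) (x : V), ((oSmul g (tau ht m V hV)).1 x).1 =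
      (g.1 x).val * ((tau ht m V hV).1 x).1 := fun g x => oSmul_val g _ x
  refine ⟨fun g g' hgg => Subtype.ext (funext fun x => HomogeneousLocalization.val_injective _ ?_),
    fun f => ?_⟩
  · exact (isUnit_tau ht m V hV x).mul_right_cancel
      ((hval g x).symm.trans ((congrArg (fun z => (Subtype.val z x).1) hgg).trans (hval g' x)))
  · have key : ∀ x : V, ∃ (W : Opens (ProjectiveSpectrum.top 𝒜)) (_ : x.1 ∈ W) (hW : W ≤ V),
        ∃ (k : ℕ) (a b : 𝒜 k) (nin : ∀ y : W, b.1 ∉ y.1.asHomogeneousIdeal), ∀ y : W,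
          Localization.mk a.1 ⟨b.1, nin y⟩ * ((tau ht m V hV).1 ⟨y.1, hW y.2⟩).1 =
            (f.1 ⟨y.1, hW y.2⟩).1 := by
      intro x
      obtain ⟨W, hxW, iW, i, j, a, s, nin, hdeg, hw⟩ := f.2 x
      rcases hdeg with h | h
      · refine ⟨W, hxW, leOfHom iW, j + m.toNat * d, ⟨a.1 * t ^ (-m).toNat, ?_⟩,
          ⟨s.1 * t ^ m.toNat, SetLike.mul_mem_graded s.2 (pow_mem_deg ht _)⟩,
          fun y => Submonoid.mul_mem y.1.asHomogeneousIdeal.toIdeal.primeCompl (nin y)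
            (pow_notMem (hV (leOfHom iW y.2)) _), fun y => ?_⟩
        · rw [show j + m.toNat * d = i + (-m).toNat * d by
            zify
            linear_combination (d : ℤ) * (Int.toNat_sub_toNat_neg m) - h]
          exact SetLike.mul_mem_graded a.2 (pow_mem_deg ht _)
        · refine Eq.trans ?_ (hw y).symm
          rw [tau_val, Localization.mk_mul]
          exact Localization.mk_eq_mk_iff.2 (Localization.r_iff_exists.2 ⟨1, by
            simp only [Submonoid.coe_mul, Submonoid.coe_one]; ring⟩)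
      · refine ⟨W, hxW, leOfHom iW, 0, 0, ⟨1, SetLike.GradedOne.one_mem⟩,
          fun y hy => y.1.isPrime.ne_top ((Ideal.eq_top_iff_one _).mpr hy), fun y => ?_⟩
        refine Eq.trans ?_ (hw y).symm
        rw [h, Localization.mk_zero, ZeroMemClass.coe_zero, Localization.mk_zero, zero_mul]
    choose W hxW hW k a b nin hg using key
    let g₀ : ∀ x : V, GrTwist.A0 𝒜 x.1 := fun x =>
      HomogeneousLocalization.mk ⟨k x, a x, b x, nin x ⟨x.1, hxW x⟩⟩
    have hg₀ : ∀ x : V, (g₀ x).val * ((tau ht m V hV).1 x).1 = (f.1 x).1 := fun x => by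
      rw [HomogeneousLocalization.val_mk]
      exact hg x ⟨x.1, hxW x⟩
    refine ⟨⟨g₀, fun x => ⟨W x, hxW x, homOfLE (hW x), k x, a x, b x, fun y => nin x y,
      fun y => HomogeneousLocalization.val_injective _ ?_⟩⟩, sectN_ext fun x => ?_⟩
    · rw [HomogeneousLocalization.val_mk]
      exact (isUnit_tau ht m V hV ⟨y.1, hW x y.2⟩).mul_right_cancel
        ((hg₀ ⟨y.1, hW x y.2⟩).trans (hg x y).symm)
    · exact (hval _ x).trans (hg₀ x)

/-- `t ^ m` generates `O(m d)` on `D₊(t)`. -/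
theorem isGen_tau (m : ℤ) :
    IsGen (GrTwist.twist 𝒜 (m * d)) (Proj.basicOpen 𝒜 t) (tau ht m _ le_rfl) :=
  fun V hV => smul_tau_bijective ht m V hV

omit ht in
/-- Restriction to opens covered by degree `d` charts. -/
theorem isInvertible_twist_restrict (d : ℕ) (m : ℤ) (U : (Proj 𝒜).Opens)
    (hU : U ≤ ⨆ f : 𝒜 d, Proj.basicOpen 𝒜 (f : A)) :
    PicF.IsInvertible ((GrTwist.twist 𝒜 (m * d)).restrict U.ι) := by
  refine isInvertible_of_gens fun y => ?_
  obtain ⟨f, hf⟩ := Opens.mem_iSup.1 (hU y.2)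
  refine ⟨U.ι ⁻¹ᵁ Proj.basicOpen 𝒜 (f : A), hf, ?_⟩
  refine ⟨((GrTwist.twist 𝒜 (m * d)).restrictAppIso U.ι _).inv (resM _ ?_ (tau f.2 m _ le_rfl)), fun W hW => ?_⟩
  · rw [U.ι.image_preimage_eq_opensRange_inf]; exact inf_le_right
  · have hle : U.ι ''ᵁ W ≤ Proj.basicOpen 𝒜 (f : A) :=
      (U.ι.image_mono hW).trans (by rw [U.ι.image_preimage_eq_opensRange_inf]; exact inf_le_right)
    have hb := isGen_tau f.2 m (U.ι ''ᵁ W) hle
    have hb3 := ConcreteCategory.bijective_of_isIso (U.ι.appIso W).inv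
    have hb2 := ConcreteCategory.bijective_of_isIso ((GrTwist.twist 𝒜 (m * d)).restrictAppIso U.ι W).hom
    refine (Function.Bijective.of_comp_iff' hb2 _).1 ?_
    convert hb.comp hb3 using 1
    funext r
    refine (Scheme.Modules.smul_restrictAppIso_hom_apply U.ι (GrTwist.twist 𝒜 (m * d)) W r _).trans ?_
    rfl

variable {M τ : Type u} [AddCommGroup M] [Module A M] [SetLike τ M] [AddSubgroupClass τ M] (ℳ : ℕ → τ)
  [DirectSum.Decomposition ℳ] [SetLike.GradedSMul 𝒜 ℳ]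

/-- Multiplication of a section of `M(p)~` by a section of `O(q)`. -/
def mulSec {p q r : ℤ} (hpq : p + q = r) {U : Opens (ProjectiveSpectrum.top 𝒜)}
    (a : GrMod.sect 𝒜 ℳ p (op U)) (b : GrTwist.sectN (𝒜 := 𝒜) q (op U)) : GrMod.sect 𝒜 ℳ r (op U) :=
  ⟨fun x => ⟨(b.1 x).1 • (a.1 x).1, by
    obtain ⟨i, j, m, s, hs, e, hm⟩ := tildeAt_eq_frac p x.1 (a.1 x).2
    obtain ⟨i', j', c, s', hs', e', hc⟩ := tildeAt_eq_frac (ℳ := 𝒜) q x.1
      (mem_tildeAt_of_twistAt 𝒜 q x.1 (b.1 x).2)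
    rw [show (b.1 x).1 = Localization.mk c.1 ⟨s'.1, hs'⟩ from hc, hm, LocalizedModule.mk_smul_mk]
    exact frac_mem_tildeAt r x.1 (i' + i) (j' + j) ⟨c.1 • m.1, SetLike.GradedSMul.smul_mem c.2 m.2⟩
      ⟨s'.1 * s.1, SetLike.mul_mem_graded s'.2 s.2⟩
      (fun h => (x.1.isPrime.mem_or_mem h).elim hs' hs) (by push_cast; omega)⟩,
   fun x => by
    obtain ⟨V, hxV, iV, i, j, m, s, nin, hdeg, hv⟩ := a.2 x
    obtain ⟨W, hxW, iW, i', j', c, s', nin', hdeg', hw⟩ := b.2 x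
    refine ⟨V ⊓ W, ⟨hxV, hxW⟩, Opens.infLELeft _ _ ≫ iV, i' + i, j' + j,
      ⟨c.1 • m.1, SetLike.GradedSMul.smul_mem c.2 m.2⟩, ⟨s'.1 * s.1, SetLike.mul_mem_graded s'.2 s.2⟩,
      fun y h => (y.1.isPrime.mem_or_mem h).elim (nin' ⟨y.1, y.2.2⟩) (nin ⟨y.1, y.2.1⟩), ?_, fun y => ?_⟩
    · rcases hdeg with h | h
      · rcases hdeg' with h' | h'
        · exact Or.inl (by push_cast; omega)
        · exact Or.inr (show c.1 • m.1 = 0 by rw [h', zero_smul])
      · exact Or.inr (show c.1 • m.1 = 0 by rw [show m.1 = 0 from h, smul_zero])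
    · refine (congrArg₂ (· • ·) (hw ⟨y.1, y.2.2⟩) (hv ⟨y.1, y.2.1⟩)).trans ?_
      exact LocalizedModule.mk_smul_mk _ _ _ _⟩

theorem mulSec_val {p q r : ℤ} (hpq : p + q = r) {U : Opens (ProjectiveSpectrum.top 𝒜)}
    (a : GrMod.sect 𝒜 ℳ p (op U)) (b : GrTwist.sectN (𝒜 := 𝒜) q (op U)) (x : U) :
    ((mulSec ℳ hpq a b).1 x).1 = (b.1 x).1 • (a.1 x).1 := rfl

/-- The multiplication `M(p)~ × O(q) → M(r)~`. -/
noncomputable def mulBilin {p q r : ℤ} (hpq : p + q = r) :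
    Bilin (GrMod.tilde 𝒜 ℳ p) (GrTwist.twist 𝒜 q) (GrMod.tilde 𝒜 ℳ r) where
  app _ a b := mulSec ℳ hpq a b
  add_left _ a a' b := sect_ext fun x => smul_add _ _ _
  add_right _ a b b' := sect_ext fun x => add_smul _ _ _
  smul_left _ c a b := sect_ext fun x => by
    refine (congrArg ((b.1 x).1 • ·) (GrMod.coe_smul_val p x.1 _ _)).trans ?_
    exact (smul_comm _ _ _).trans (GrMod.coe_smul_val r x.1 _ ((mulSec ℳ hpq a b).1 x)).symm
  smul_right _ c a b := sect_ext fun x => by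
    refine (congrArg (· • (a.1 x).1) (GrTwist.coe_smul_val q x.1 _ _)).trans ?_
    exact (mul_smul _ _ _).trans (GrMod.coe_smul_val r x.1 _ ((mulSec ℳ hpq a b).1 x)).symm
  res _ _ _ _ _ := rfl

include ht in
/-- The multiplication map is bijective on opens inside `D₊(t)`. -/
theorem desc_mulBilin_bijective {p q r : ℤ} (hpq : p + q = r) {m : ℤ} (hq : q = m * d)
    {V : (Proj 𝒜).Opens} (hV : V ≤ Proj.basicOpen 𝒜 t) :
    Function.Bijective ((mulBilin ℳ hpq).desc.app V) := by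
  subst hq
  have hneg : r + (-m) * d = p := by rw [neg_mul]; omega
  let g : ∀ W : (Proj 𝒜).Opens, W ≤ Proj.basicOpen 𝒜 t → Γ(GrMod.tilde 𝒜 ℳ r, W) →
      Γ(CohB1.tensorMod (GrMod.tilde 𝒜 ℳ p) (GrTwist.twist 𝒜 (m * d)), W) := fun W hW y =>
    tmul (show Γ(GrMod.tilde 𝒜 ℳ p, W) from mulSec ℳ hneg y (tau ht (-m) W hW))
      (show Γ(GrTwist.twist 𝒜 (m * d), W) from tau ht m W hW)
  have hφg : ∀ (W : (Proj 𝒜).Opens) (hW : W ≤ Proj.basicOpen 𝒜 t) (y : Γ(GrMod.tilde 𝒜 ℳ r, W)),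
      (mulBilin ℳ hpq).desc.app W (g W hW y) = y := fun W hW y => by
    refine (Bilin.desc_tmul _ W _ _).trans (sect_ext fun x => ?_)
    refine (mulSec_val ℳ hpq _ _ x).trans ?_
    refine (smul_smul _ _ _).trans ?_
    rw [tau_mul_neg ht m W hW x, one_smul]
  have hgφ : ∀ (W : (Proj 𝒜).Opens) (z) (hW : W ≤ Proj.basicOpen 𝒜 t),
      z = g W hW ((mulBilin ℳ hpq).desc.app W z) := by
    have hgres : ∀ (W W' : (Proj 𝒜).Opens) (h : W' ≤ W) (hW : W ≤ Proj.basicOpen 𝒜 t) y,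
        resM _ h (g W hW y) = g W' (h.trans hW) (resM (GrMod.tilde 𝒜 ℳ r) h y) := fun W W' h hW y =>
      (resM_tmul h _ _).trans rfl
    have hgadd : ∀ (W : (Proj 𝒜).Opens) (hW : W ≤ Proj.basicOpen 𝒜 t) y y',
        g W hW (y + y') = g W hW y + g W hW y' := fun W hW y y' =>
      (congrArg (tmul · _) (show (show Γ(GrMod.tilde 𝒜 ℳ p, W) from
          mulSec ℳ hneg (y + y') (tau ht (-m) W hW)) =
          (show Γ(GrMod.tilde 𝒜 ℳ p, W) from mulSec ℳ hneg y (tau ht (-m) W hW)) +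
          (show Γ(GrMod.tilde 𝒜 ℳ p, W) from mulSec ℳ hneg y' (tau ht (-m) W hW)) from
        sect_ext fun x => smul_add _ _ _)).trans (tmul_add_left _ _ _)
    refine induction_local (fun W z z' hz hz' hW => ?_) (fun W hW => ?_) (fun W z hloc hW => ?_)
      fun W a b hW => ?_
    · rw [map_add, hgadd, ← hz hW, ← hz' hW]
    · rw [map_zero]
      exact (tmul_zero_left _).symm.trans (congrArg (tmul · _)
        (sect_ext (fun x => (smul_zero _).symm)))
    · refine sec_ext _ _ _ fun y hy => ?_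
      obtain ⟨W', h, hy', hz⟩ := hloc y hy
      exact ⟨W', h, hy', by rw [hgres, ← app_resM]; exact hz (h.trans hW)⟩
    · obtain ⟨c, hc⟩ := (smul_tau_bijective ht m W hW).2 b
      replace hc : (show Γ(Proj 𝒜, W) from c) • (show Γ(GrTwist.twist 𝒜 (m * d), W) from tau ht m W hW) = b := hc
      subst hc
      rw [Bilin.desc_tmul]
      refine ((tmul_smul_right _ _ _).trans (tmul_smul_left _ _ _).symm).trans
        (congrArg (tmul · _) (sect_ext fun x => ?_))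
      refine Eq.trans ?_ (mulSec_val ℳ hneg _ _ x).symm
      refine Eq.trans ?_ (congrArg (((tau ht (-m) W hW).1 x).1 • ·) (mulSec_val ℳ hpq _ _ x)).symm
      refine (GrMod.coe_smul_val p x.1 _ _).trans (Eq.trans ?_
        (congrArg (((tau ht (-m) W hW).1 x).1 • ·) (congrArg (· • (a.1 x).1) (oSmul_val c _ x))).symm)
      rw [smul_smul, mul_comm, mul_assoc, tau_mul_neg ht m W hW x, mul_one]
  exact ⟨fun z z' h => (hgφ V z hV).trans ((congrArg (g V hV) h).trans (hgφ V z' hV).symm),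
    fun y => ⟨g V hV y, hφg V hV y⟩⟩

omit ht in
/-- `M(p)~ ⊗ O(q) ≅ M(p + q)~` when degree `d` elements cover and `d ∣ q`. -/
theorem isIso_desc_mulBilin {p q r : ℤ} (hpq : p + q = r) {m : ℤ} (hq : q = m * d)
    (hcov : ∀ x : ProjectiveSpectrum 𝒜, ∃ f ∈ 𝒜 d, f ∉ x.asHomogeneousIdeal.toIdeal) :
    IsIso (mulBilin (𝒜 := 𝒜) ℳ hpq).desc := by
  choose f hf hfx using hcov
  exact isIso_of_bijective_on _ (fun x : ProjectiveSpectrum 𝒜 => Proj.basicOpen 𝒜 (f x))
    (fun x => ⟨x, hfx x⟩) fun x V hV => desc_mulBilin_bijective (hf x) ℳ hpq hq hV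

end Groth.Agent.TwistLib.G
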