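import Groth.Agent.TwistLib.G.Basics
import Groth.Agent.Coherent.QcohLocal

/-!
# Sections of `O(d)` for gradings by additive subgroups
-/

set_option autoImplicit false
set_option linter.unusedSectionVars false

universe u

open CategoryTheory CategoryTheory.Limits AlgebraicGeometry Opposite TopologicalSpace
  HomogeneousLocalization

namespace Groth.Agent.TwistLib.G

variable {A σ : Type u} [CommRing A] [SetLike σ A] [AddSubgroupClass σ A] {𝒜 : ℕ → σ}
  [GradedRing 𝒜]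

instance isPrime_top (x : ProjectiveSpectrum.top 𝒜) : x.asHomogeneousIdeal.toIdeal.IsPrime :=
  x.isPrime

theorem val_awayToSection_mk {c : ℕ} {f : A} (hf : f ∈ 𝒜 c) (k : ℕ) (P : A) (hP : P ∈ 𝒜 (k • c))
    (p : ProjectiveSpectrum.basicOpen 𝒜 f) :
    HomogeneousLocalization.val ((((ProjectiveSpectrum.Proj.awayToSection 𝒜 f).hom
      (Away.mk 𝒜 hf k P hP)) : GrTwist.O (op (ProjectiveSpectrum.basicOpen 𝒜 f))).1 p) =
      Localization.mk P ⟨f ^ k, Submonoid.pow_mem _ p.2 k⟩ := by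
  refine (ProjectiveSpectrum.Proj.awayToSection_apply 𝒜 f _ p).trans ?_
  rw [Away.val_mk, Localization.mk_eq_mk', IsLocalization.map_mk', Localization.mk_eq_mk']
  rfl

theorem val_fromZero (f : A) (a : 𝒜 0) (p : ProjectiveSpectrum.basicOpen 𝒜 f) :
    HomogeneousLocalization.val ((((ProjectiveSpectrum.Proj.awayToSection 𝒜 f).hom
      (HomogeneousLocalization.fromZeroRingHom 𝒜 (Submonoid.powers f) a)) :
        GrTwist.O (op (ProjectiveSpectrum.basicOpen 𝒜 f))).1 p) = Localization.mk a.1 1 := by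
  refine (ProjectiveSpectrum.Proj.awayToSection_apply 𝒜 f _ p).trans ?_
  have h : HomogeneousLocalization.val (HomogeneousLocalization.fromZeroRingHom 𝒜 (Submonoid.powers f) a)
      = algebraMap A (Localization (Submonoid.powers f)) a.1 := by
    rw [← Localization.mk_one_eq_algebraMap]
    rfl
  rw [h, IsLocalization.map_eq, RingHom.id_apply, Localization.mk_one_eq_algebraMap]

/-- A section of `O(d)` given by one fraction. -/
def fracSec (d : ℤ) (V : Opens (ProjectiveSpectrum.top 𝒜)) {i j : ℕ} (a : 𝒜 i) (s : 𝒜 j)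
    (nin : ∀ x : V, s.1 ∉ x.1.asHomogeneousIdeal) (h : (i : ℤ) = j + d) :
    GrTwist.sectN (𝒜 := 𝒜) d (op V) :=
  ⟨fun x => ⟨Localization.mk a.1 ⟨s.1, nin x⟩,
    Submodule.subset_span ⟨i, j, a, s, nin x, h, rfl⟩⟩,
   fun x => ⟨V, x.2, 𝟙 _, i, j, a, s, nin, Or.inl h, fun _ => rfl⟩⟩

theorem fracSec_val (d : ℤ) (V : Opens (ProjectiveSpectrum.top 𝒜)) {i j : ℕ} (a : 𝒜 i) (s : 𝒜 j)
    (nin : ∀ x : V, s.1 ∉ x.1.asHomogeneousIdeal) (h : (i : ℤ) = j + d) (x : V) :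
    ((fracSec d V a s nin h).1 x).1 = Localization.mk a.1 ⟨s.1, nin x⟩ := rfl

theorem sectN_ext {d : ℤ} {U : (Opens (ProjectiveSpectrum.top 𝒜))ᵒᵖ}
    {f g : GrTwist.sectN (𝒜 := 𝒜) d U} (h : ∀ x : U.unop, (f.1 x).1 = (g.1 x).1) : f = g :=
  Subtype.ext (funext fun x => Subtype.ext (h x))

/-- Scalar multiplication on sections of `O(d)`. -/
def oSmul {d : ℤ} {V : Opens (ProjectiveSpectrum.top 𝒜)} (g : GrTwist.O (𝒜 := 𝒜) (op V))
    (s : GrTwist.sectN (𝒜 := 𝒜) d (op V)) : GrTwist.sectN (𝒜 := 𝒜) d (op V) :=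
  ⟨fun x => g.1 x • s.1 x, GrTwist.smul_memN d (op V) g s.1 s.2⟩

theorem oSmul_val {d : ℤ} {V : Opens (ProjectiveSpectrum.top 𝒜)} (g : GrTwist.O (𝒜 := 𝒜) (op V))
    (s : GrTwist.sectN (𝒜 := 𝒜) d (op V)) (x : V) :
    ((oSmul g s).1 x).1 = (g.1 x).val * (s.1 x).1 := GrTwist.coe_smul_val d x.1 _ _

end Groth.Agent.TwistLib.G
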