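import Groth.Agent.TwistLib.G.Sections
import Groth.Agent.TwistLib.G.TwistBasics
import Groth.Agent.Coherent.QcohLocal

/-!
# `M(n)~` is quasi-coherent
-/

set_option autoImplicit false
set_option linter.unusedSectionVars false

universe u

open DirectSum HomogeneousIdeal AlgebraicGeometry CategoryTheory TopologicalSpace Opposite
  HomogeneousLocalization
open Groth.Agent.ProjLib Groth.Agent.Coherent

namespace Groth.Agent.TwistLib.G

variable {A σ : Type u} [CommRing A] [SetLike σ A] [AddSubgroupClass σ A] {𝒜 : ℕ → σ}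
  [GradedRing 𝒜]

/-- A degree-zero fraction `P / f^l` cuts out `D₊(f P)` in `D₊(f)`. -/
theorem basicOpen_away {d : ℕ} {f : A} (hf : f ∈ 𝒜 d) (l : ℕ) (P : A) (hP : P ∈ 𝒜 (l • d)) :
    (Proj 𝒜).basicOpen ((Proj.awayToSection 𝒜 f).hom (Away.mk 𝒜 hf l P hP)) =
      Proj.basicOpen 𝒜 (f * P) := by
  refine TopologicalSpace.Opens.ext (Set.ext fun x => ?_)
  rw [Proj.basicOpen_mul]
  by_cases hx : x ∈ Proj.basicOpen 𝒜 f
  · refine ((Proj 𝒜).mem_basicOpen _ x hx).trans ?_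
    have e : (Proj 𝒜).presheaf.germ (Proj.basicOpen 𝒜 f) x hx
          ((Proj.awayToSection 𝒜 f).hom (Away.mk 𝒜 hf l P hP)) =
        (Proj.stalkIso' 𝒜 x).symm
          (HomogeneousLocalization.mapId 𝒜 (Submonoid.powers_le.mpr hx) (Away.mk 𝒜 hf l P hP)) :=
      ConcreteCategory.congr_hom (ProjectiveSpectrum.Proj.awayToSection_germ 𝒜 f x hx) _
    have hval : (HomogeneousLocalization.mapId 𝒜
          (Submonoid.powers_le.mpr (hx : f ∈ x.asHomogeneousIdeal.toIdeal.primeCompl))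
          (Away.mk 𝒜 hf l P hP)).val =
        Localization.mk P (⟨f ^ l, pow_notMem hx l⟩ : x.asHomogeneousIdeal.toIdeal.primeCompl) := by
      rw [Away.mk, HomogeneousLocalization.mapId, HomogeneousLocalization.map_mk,
        HomogeneousLocalization.val_mk]
      rfl
    rw [e]
    refine (MulEquiv.isUnit_map (Proj.stalkIso' 𝒜 x).symm).trans
      ((HomogeneousLocalization.isUnit_iff_isUnit_val _ _ _).symm.trans ((iff_of_eq (congrArg IsUnit hval)).trans ?_))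
    rw [Localization.mk_eq_mk', IsLocalization.AtPrime.isUnit_mk'_iff]
    exact ⟨fun h => ⟨hx, h⟩, fun h => h.2⟩
  · exact ⟨fun h => absurd ((Proj 𝒜).basicOpen_le _ h) hx, fun h => absurd h.1 hx⟩

variable {M τ : Type u} [AddCommGroup M] [Module A M] [SetLike τ M] [AddSubgroupClass τ M] (ℳ : ℕ → τ)
  [DirectSum.Decomposition ℳ] [SetLike.GradedSMul 𝒜 ℳ] (n : ℤ)

lemma val_pow_away {d : ℕ} {f : A} (hf : f ∈ 𝒜 d) (l : ℕ) (P : A) (hP : P ∈ 𝒜 (l • d)) (N : ℕ)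
    (x : ProjectiveSpectrum.basicOpen 𝒜 f) :
    HomogeneousLocalization.val ((((ProjectiveSpectrum.Proj.awayToSection 𝒜 f).hom
      (Away.mk 𝒜 hf l P hP) : GrTwist.O (op (ProjectiveSpectrum.basicOpen 𝒜 f))) ^ N).1 x) =
      Localization.mk (P ^ N) ⟨(f ^ l) ^ N, Submonoid.pow_mem _ (Submonoid.pow_mem _ x.2 l) N⟩ := by
  refine (HomogeneousLocalization.val_pow _ N).trans ?_
  rw [val_awayToSection_mk hf l P hP x, Localization.mk_pow]
  rfl

theorem localizesOn_tilde {d : ℕ} (hd : 0 < d) {f : A} (hf : f ∈ 𝒜 d) :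
    LocalizesOn (GrMod.tilde 𝒜 ℳ n) (Proj.basicOpen 𝒜 f) := by
  have hG : ∀ G : Γ(Proj 𝒜, Proj.basicOpen 𝒜 f), ∃ (l : ℕ) (P : A) (hP : P ∈ 𝒜 (l • d)), 0 < l ∧
      (Proj.awayToSection 𝒜 f).hom (Away.mk 𝒜 hf l P hP) = G := fun G => by
    obtain ⟨q, rfl⟩ := (ConcreteCategory.bijective_of_isIso (Proj.basicOpenIsoAway 𝒜 f hf hd).hom).2 G
    obtain ⟨l, P, hP, rfl⟩ := Away.mk_surjective 𝒜 hf q
    refine ⟨l + 1, f * P, by rw [succ_nsmul']; exact SetLike.mul_mem_graded hf hP, l.succ_pos,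
      congrArg _ (HomogeneousLocalization.val_injective _ ?_)⟩
    rw [Away.val_mk, Away.val_mk, Localization.mk_eq_mk_iff, Localization.r_iff_exists]
    exact ⟨1, by ring⟩
  have hF : ∀ {l : ℕ} {P : A}, P ∈ 𝒜 (l • d) → f * P ∈ 𝒜 (d + l • d) := fun hP =>
    SetLike.mul_mem_graded hf hP
  refine ⟨fun G s => ?_, fun G t ht => ?_⟩
  · obtain ⟨l, P, hP, hl, rfl⟩ := hG G
    have e := basicOpen_away hf l P hP
    obtain ⟨k, i, m, hi, hs⟩ := exists_frac (ℳ := ℳ) (n := n) (by omega : 0 < d + l • d) (hF hP)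
      (resM (GrMod.tilde 𝒜 ℳ n) e.ge s)
    let t : GrMod.sect 𝒜 ℳ n (op (ProjectiveSpectrum.basicOpen 𝒜 f)) :=
      fracSect _ m ⟨f ^ (k * (l + 1)), pow_mem_deg hf _⟩ (fun x => pow_notMem x.2 _)
        (by rw [hi]; simp only [smul_eq_mul]; push_cast; ring)
    refine ⟨k, t, sect_ext fun x => ?_⟩
    have hx : x.1 ∈ ProjectiveSpectrum.basicOpen 𝒜 (f * P) := e.le x.2
    refine Eq.trans ?_ (GrMod.coe_smul_val n x.1 _ _).symm
    refine Eq.trans ?_ (congrArg₂ (· • ·) (val_pow_away hf l P hP k ⟨x.1, _⟩).symm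
      (hs ⟨x.1, hx⟩).symm)
    rw [LocalizedModule.mk_smul_mk]
    refine LocalizedModule.mk_eq.mpr ⟨1, ?_⟩
    show (1 : A) • ((f ^ l) ^ k * (f * P) ^ k) • m.1 = (1 : A) • f ^ (k * (l + 1)) • P ^ k • m.1
    rw [smul_smul (f ^ (k * (l + 1)))]
    congr 2
    ring
  · obtain ⟨l, P, hP, hl, rfl⟩ := hG G
    have e := basicOpen_away hf l P hP
    obtain ⟨k, i, m, hi, hs⟩ := exists_frac (ℳ := ℳ) (n := n) hd hf t
    obtain ⟨N, hN⟩ := exists_pow_smul_eq_zero m.2 (by omega : 0 < d + l • d) (hF hP) fun x hx => by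
      have hxf : x ∈ ProjectiveSpectrum.basicOpen 𝒜 f := fun h => hx (Ideal.mul_mem_right _ _ h)
      have h0 : ((t : GrMod.sect 𝒜 ℳ n (op (ProjectiveSpectrum.basicOpen 𝒜 f))).1 ⟨x, hxf⟩).1 = 0 :=
        congrArg (fun z : GrMod.sect 𝒜 ℳ n (op ((Proj 𝒜).basicOpen _)) =>
          (z.1 ⟨x, e.ge hx⟩).1) ht
      obtain ⟨⟨c, hc⟩, heq⟩ := LocalizedModule.mk_eq.mp
        (((hs ⟨x, hxf⟩).symm.trans h0).trans
          (LocalizedModule.zero_mk (1 : x.asHomogeneousIdeal.toIdeal.primeCompl)).symm)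
      exact ⟨c, hc, by simpa [Submonoid.smul_def] using heq⟩
    refine ⟨N, sect_ext fun x => ?_⟩
    refine (GrMod.coe_smul_val n x.1 _ _).trans ?_
    refine (congrArg₂ (· • ·) (val_pow_away hf l P hP N x) (hs x)).trans ?_
    rw [LocalizedModule.mk_smul_mk]
    refine (LocalizedModule.mk_eq.mpr ⟨⟨f ^ N, pow_notMem x.2 N⟩, ?_⟩).trans
      (LocalizedModule.zero_mk (1 : x.1.asHomogeneousIdeal.toIdeal.primeCompl))
    show f ^ N • (1 : A) • P ^ N • m.1 = f ^ N • ((f ^ l) ^ N * f ^ k) • (0 : M)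
    rw [one_smul, smul_zero, smul_zero, smul_smul, ← mul_pow, hN]

theorem isQCoh_tilde : Coh.IsQCoh (GrMod.tilde 𝒜 ℳ n) := by
  choose d f hd hf hfx using fun x : ProjectiveSpectrum 𝒜 => exists_pos_homogeneous_notMem 𝒜 x
  exact isQCoh_of_localizesOn _ (fun x => Proj.basicOpen 𝒜 (f x))
    (fun x => Proj.isAffineOpen_basicOpen 𝒜 (f x) (hf x) (hd x)) (fun x => ⟨x, hfx x⟩)
    (fun x => localizesOn_tilde ℳ n (hd x) (hf x))

end Groth.Agent.TwistLib.G
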