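import Groth.Agent.TwistLib.G.RelGen

/-!
# Periods of invertibility of `O_P(n)` on quasi-compact opens
-/

set_option autoImplicit false
set_option linter.unusedSectionVars false
set_option backward.isDefEq.respectTransparency.types false
set_option maxHeartbeats 400000

universe u

open DirectSum AlgebraicGeometry CategoryTheory TopologicalSpace Opposite
open Groth.Agent.ProjLib Groth.Agent.Coherent Groth.Agent.PicLib

namespace Groth.Agent.TwistLib.G

/-- A generator restricts to a generator of the restricted module. -/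
theorem isGen_restrict_open {X : Scheme.{u}} {L : X.Modules} (U : X.Opens) {O : X.Opens} {s : Γ(L, O)}
    (hs : IsGen L O s) :
    IsGen (L.restrict U.ι) (U.ι ⁻¹ᵁ O)
      ((L.restrictAppIso U.ι _).inv (resM L (U.ι.image_preimage_le O) s)) := by
  intro W hW
  have hle : U.ι ''ᵁ W ≤ O := (U.ι.image_mono hW).trans (U.ι.image_preimage_le O)
  have hb := hs (U.ι ''ᵁ W) hle
  have hb3 := ConcreteCategory.bijective_of_isIso (U.ι.appIso W).inv
  have hb2 := ConcreteCategory.bijective_of_isIso (L.restrictAppIso U.ι W).hom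
  refine (Function.Bijective.of_comp_iff' hb2 _).1 ?_
  convert hb.comp hb3 using 1
  funext r
  refine (Scheme.Modules.smul_restrictAppIso_hom_apply U.ι L W r _).trans ?_
  show _ • _ = _ • _
  rw [← resM_resM L (U.ι.image_preimage_le O) (U.ι.image_mono hW) s]
  rfl

/-- Invertibility of a restriction from generators on the ambient scheme. -/
theorem isInvertible_restrict_of_gens {X : Scheme.{u}} {L : X.Modules} (U : X.Opens)
    (h : ∀ x ∈ U, ∃ O : X.Opens, x ∈ O ∧ ∃ s : Γ(L, O), IsGen L O s) :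
    PicF.IsInvertible (L.restrict U.ι) :=
  isInvertible_of_gens fun y => by
    obtain ⟨O, hyO, s, hs⟩ := h y.1 y.2
    exact ⟨U.ι ⁻¹ᵁ O, hyO, _, isGen_restrict_open U hs⟩

variable {Y P : Scheme.{u}} {𝒮 : RelProj.QCGrAlg Y} {p : P ⟶ Y}
  {chart : ∀ (U : Y.Opens) (hU : IsAffineOpen U), (((p ⁻¹ᵁ U : P.Opens) : Scheme.{u}) ≅ Proj (𝒮.deg U hU))}

variable (𝒮 p chart) in
/-- Near every point of `U` there is a standard open whose degree divides `d`. -/
def IsPeriod (U : P.Opens) (d : ℕ) : Prop :=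
  ∀ x ∈ U, ∃ (V : Y.Opens) (hV : IsAffineOpen V) (e : ℕ) (g : 𝒮.presheaf.obj (op V)) (O : P.Opens),
    e ∣ d ∧ g ∈ 𝒮.deg V hV e ∧ x ∈ O ∧ O ≤ p ⁻¹ᵁ V ∧
      RelProj.emb p chart V hV ⁻¹ᵁ O ≤ Proj.basicOpen (𝒮.deg V hV) g

theorem exists_isPeriod {U : P.Opens} (hU : IsCompact (U : Set P)) :
    ∃ d : ℕ, 0 < d ∧ IsPeriod 𝒮 p chart U d := by
  classical
  choose V hV e g O he hg hxO hO hOg using fun x : P => exists_chart_basicOpen (p := p) (chart := chart) x
  obtain ⟨T, hT⟩ := hU.elim_finite_subcover (fun x : P => (O x : Set P)) (fun x => (O x).2)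
    fun x _ => Set.mem_iUnion.2 ⟨x, hxO x⟩
  refine ⟨T.prod e, Finset.prod_pos fun x _ => he x, fun y hy => ?_⟩
  obtain ⟨x, hxT, hyx⟩ := Set.mem_iUnion₂.1 (hT hy)
  exact ⟨V x, hV x, e x, g x, O x, Finset.dvd_prod_of_mem e hxT, hg x, hyx, hO x, hOg x⟩

theorem IsPeriod.exists_isGen {U : P.Opens} {d : ℕ} (hd : IsPeriod 𝒮 p chart U d) {n : ℤ} (hn : (d : ℤ) ∣ n)
    {L : P.Modules} {lam : ∀ (V : Y.Opens) (hV : IsAffineOpen V),
      L ⟶ (Scheme.Modules.pushforward (RelProj.emb p chart V hV)).obj (GrTwist.twist (𝒮.deg V hV) n)}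
    (hL : RelProj.IsRelTwist 𝒮 p chart n L lam) {x : P} (hx : x ∈ U) :
    ∃ O : P.Opens, x ∈ O ∧ ∃ s : Γ(L, O), IsGen L O s := by
  obtain ⟨V, hV, e, g, O, he, hg, hxO, hO, hOg⟩ := hd x hx
  obtain ⟨m, hm⟩ := (Int.natCast_dvd_natCast.2 he).trans hn
  exact ⟨O, hxO, exists_isGen_image hL hV hg (m := m) (hm.trans (mul_comm _ _)) hO hOg⟩

end Groth.Agent.TwistLib.G
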