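import Groth.Agent.TwistLib.G.Map

/-!
# `M(n)~` along a localisation at a degree zero element
-/

set_option autoImplicit false
set_option linter.unusedSectionVars false

universe u

open DirectSum AlgebraicGeometry CategoryTheory TopologicalSpace Opposite
open Groth.Agent.ProjLib
open scoped HomogeneousIdeal

namespace Groth.Agent.TwistLib.G

variable {A σ : Type u} [CommRing A] [SetLike σ A] [AddSubgroupClass σ A] {𝒜 : ℕ → σ} [GradedRing 𝒜]
variable {B σ' : Type u} [CommRing B] [SetLike σ' B] [AddSubgroupClass σ' B] {ℬ : ℕ → σ'} [GradedRing ℬ]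
variable {M τ : Type u} [AddCommGroup M] [Module A M] [SetLike τ M] [AddSubgroupClass τ M] {ℳ : ℕ → τ}
  [SetLike.GradedSMul 𝒜 ℳ] [DirectSum.Decomposition ℳ]
variable {N τ' : Type u} [AddCommGroup N] [Module B N] [SetLike τ' N] [AddSubgroupClass τ' N] {𝒩 : ℕ → τ'}
  [SetLike.GradedSMul ℬ 𝒩] [DirectSum.Decomposition 𝒩]

/-- `(ψ, v)` is the localisation of `(A, M)` at the degree zero element `c`. -/
structure IsGrLoc (ψ : 𝒜 →+*ᵍ ℬ) (v : M →ₛₗ[ψ.toRingHom] N) (c : A) : Prop where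
  mem : c ∈ 𝒜 0
  isUnit : IsUnit (ψ c)
  surjA : ∀ b : B, ∃ (a : A) (k : ℕ), ψ c ^ k * b = ψ a
  surjM : ∀ n : N, ∃ (m : M) (k : ℕ), ψ c ^ k • n = v m
  kerM : ∀ m : M, v m = 0 → ∃ k : ℕ, c ^ k • m = 0

lemma pow_zero_mem {c : A} (hc : c ∈ 𝒜 0) (k : ℕ) : c ^ k ∈ 𝒜 0 := by
  simpa using SetLike.pow_mem_graded k hc

variable {ψ : 𝒜 →+*ᵍ ℬ} {hψ : ℬ₊ ≤ (𝒜₊).map ψ} {v : M →ₛₗ[ψ.toRingHom] N}
  (hv : ∀ (i : ℕ) (m : M), m ∈ ℳ i → v m ∈ 𝒩 i) {c : A} (h : IsGrLoc ψ v c)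

include h in
lemma pow_notMem_comap (z : ProjectiveSpectrum ℬ) (k : ℕ) :
    c ^ k ∉ (ProjectiveSpectrum.comap ψ hψ z).asHomogeneousIdeal.toIdeal := fun hk =>
  z.isPrime.ne_top (Ideal.eq_top_of_isUnit_mem _ (hk : ψ (c ^ k) ∈ z.asHomogeneousIdeal.toIdeal)
    (by rw [map_pow]; exact h.isUnit.pow k))

include h in
lemma pow_map_notMem (z : ProjectiveSpectrum ℬ) (k : ℕ) : ψ c ^ k ∉ z.asHomogeneousIdeal.toIdeal := fun hk =>
  z.isPrime.ne_top (Ideal.eq_top_of_isUnit_mem _ hk (h.isUnit.pow k))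

include h in
/-- The induced maps of localised modules are injective. -/
theorem locModMap_injective (z : ProjectiveSpectrum ℬ) :
    Function.Injective (GrMod.locModMap ψ hψ v z) := by
  refine (injective_iff_map_eq_zero _).2 fun q hq => ?_
  induction q using LocalizedModule.induction_on with
  | h m s =>
    rw [GrMod.locModMap_mk] at hq
    obtain ⟨⟨e, he⟩, heq⟩ := LocalizedModule.mk_eq.mp
      (hq.trans (LocalizedModule.zero_mk (1 : z.asHomogeneousIdeal.toIdeal.primeCompl)).symm)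
    replace heq : e • v m = 0 := by simpa [Submonoid.smul_def] using heq
    obtain ⟨e', b, he'⟩ := h.surjA e
    have h0 : v (e' • m) = 0 := by
      rw [LinearMap.map_smulₛₗ]
      exact (congrArg (· • v m) he'.symm).trans (by rw [mul_smul, heq, smul_zero])
    obtain ⟨a, ha⟩ := h.kerM _ h0
    have hns : c ^ a * e' ∉ (ProjectiveSpectrum.comap ψ hψ z).asHomogeneousIdeal.toIdeal := fun hmem => by
      refine ((ProjectiveSpectrum.comap ψ hψ z).isPrime.mem_or_mem hmem).elim (pow_notMem_comap h z a) fun hm => ?_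
      replace hm : ψ e' ∈ z.asHomogeneousIdeal.toIdeal := hm
      rw [← he'] at hm
      exact (z.isPrime.mem_or_mem hm).elim (fun hb => pow_map_notMem h z b hb) he
    refine (LocalizedModule.mk_eq.mpr ⟨⟨_, hns⟩, ?_⟩).trans
      (LocalizedModule.zero_mk (1 : (ProjectiveSpectrum.comap ψ hψ z).asHomogeneousIdeal.toIdeal.primeCompl))
    show (c ^ a * e') • (1 : A) • m = (c ^ a * e') • (s : A) • (0 : M)
    rw [one_smul, smul_zero, smul_zero, mul_smul, ha]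

include hv h in
/-- A fraction upstairs is the image of a fraction downstairs. -/
theorem exists_frac_lift (n : ℤ) {i j : ℕ} {x : N} (hx : x ∈ 𝒩 i) {s : B} (hs : s ∈ ℬ j)
    (hdeg : (i : ℤ) = j + n ∨ x = 0) :
    ∃ (m : M) (t : A), m ∈ ℳ i ∧ t ∈ 𝒜 j ∧ ((i : ℤ) = j + n ∨ m = 0) ∧
      ∀ (z : ProjectiveSpectrum ℬ) (hz : s ∉ z.asHomogeneousIdeal.toIdeal),
        ∃ ht : t ∉ (ProjectiveSpectrum.comap ψ hψ z).asHomogeneousIdeal.toIdeal,
          GrMod.locModMap ψ hψ v z (LocalizedModule.mk m ⟨t, ht⟩) = LocalizedModule.mk x ⟨s, hz⟩ := by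
  obtain ⟨a₀, b, ha₀⟩ := h.surjA s
  let s' : A := decompose 𝒜 a₀ j
  have hψc : ∀ k, ψ c ^ k ∈ ℬ 0 := fun k => pow_zero_mem (ψ.map_mem h.mem) k
  have hs' : ψ s' = ψ c ^ b * s := by
    show ψ (decompose 𝒜 a₀ j : A) = _
    rw [GradedRingHom.map_directSumDecompose, ← ha₀]
    exact decompose_of_mem_same ℬ (by simpa using SetLike.mul_mem_graded (hψc b) hs)
  have hmem : ∀ a : ℕ, c ^ a * s' ∈ 𝒜 j := fun a => by
    simpa using SetLike.mul_mem_graded (pow_zero_mem h.mem a) (decompose 𝒜 a₀ j).2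
  have hnin : ∀ (a : ℕ) (z : ProjectiveSpectrum ℬ), s ∉ z.asHomogeneousIdeal.toIdeal →
      c ^ a * s' ∉ (ProjectiveSpectrum.comap ψ hψ z).asHomogeneousIdeal.toIdeal := fun a z hz hmem => by
    refine ((ProjectiveSpectrum.comap ψ hψ z).isPrime.mem_or_mem hmem).elim (pow_notMem_comap h z a) fun hm => ?_
    replace hm : ψ s' ∈ z.asHomogeneousIdeal.toIdeal := hm
    rw [hs'] at hm
    exact (z.isPrime.mem_or_mem hm).elim (fun hb => pow_map_notMem h z b hb) hz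
  by_cases hx0 : x = 0
  · refine ⟨0, c ^ 0 * s', zero_mem _, hmem 0, Or.inr rfl, fun z hz => ⟨hnin 0 z hz, ?_⟩⟩
    rw [LocalizedModule.zero_mk, map_zero, hx0, LocalizedModule.zero_mk]
  obtain ⟨m₀, a, hm₀⟩ := h.surjM x
  have hm' : v (decompose ℳ m₀ i : M) = ψ c ^ a • x := by
    rw [map_decompose v hv, ← hm₀]
    exact decompose_of_mem_same 𝒩 (show ψ c ^ a • x ∈ 𝒩 i by
      simpa using SetLike.GradedSMul.smul_mem (hψc a) hx)
  refine ⟨c ^ b • (decompose ℳ m₀ i : M), c ^ a * s', ?_, hmem a, Or.inl (hdeg.resolve_right hx0),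
    fun z hz => ⟨hnin a z hz, ?_⟩⟩
  · simpa using SetLike.GradedSMul.smul_mem (pow_zero_mem h.mem b) (decompose ℳ m₀ i).2
  rw [GrMod.locModMap_mk]
  refine LocalizedModule.mk_eq.mpr ⟨1, ?_⟩
  show (1 : B) • s • v (c ^ b • (decompose ℳ m₀ i : M)) = (1 : B) • ψ (c ^ a * s') • x
  rw [LinearMap.map_smulₛₗ, hm', map_mul ψ, hs', map_pow ψ c a, one_smul, one_smul]
  rw [smul_smul, smul_smul]
  congr 1
  show s * ψ (c ^ b) * ψ c ^ a = _
  rw [map_pow]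
  ring

include h in
/-- Sections over an open in the image of `Proj ℬ` are the sections over its preimage. -/
theorem comapApp_bijective [IsOpenImmersion (Proj.map ψ hψ)] (n : ℤ)
    (U : Opens (ProjectiveSpectrum.top 𝒜)) (V : Opens (ProjectiveSpectrum.top ℬ))
    (hUV : V.1 ⊆ ProjectiveSpectrum.comap ψ hψ ⁻¹' U.1)
    (hUr : U.1 ⊆ ProjectiveSpectrum.comap ψ hψ '' V.1) :
    Function.Bijective (GrMod.comapApp ψ hψ v hv n U V hUV) := by
  constructor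
  · intro a b hab
    refine sect_ext fun x => ?_
    obtain ⟨x, hxU⟩ := x
    obtain ⟨z, hz, rfl⟩ := hUr hxU
    exact locModMap_injective h z (congrArg (fun t : GrMod.sect ℬ 𝒩 n (op V) => (t.1 ⟨z, hz⟩).1) hab)
  · intro t
    have key : ∀ z : V, ∃ (W : Opens (ProjectiveSpectrum.top ℬ)) (_ : z.1 ∈ W) (hW : W ≤ V) (i j : ℕ)
        (m : ℳ i) (t' : 𝒜 j), ((i : ℤ) = j + n ∨ m.1 = 0) ∧ ∀ y : W,
          ∃ ht : t'.1 ∉ (ProjectiveSpectrum.comap ψ hψ y.1).asHomogeneousIdeal.toIdeal,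
            GrMod.locModMap ψ hψ v y.1 (LocalizedModule.mk m.1 ⟨t'.1, ht⟩) = (t.1 ⟨y.1, hW y.2⟩).1 := by
      intro z
      obtain ⟨W, hzW, iW, i, j, x, s, nin, hdeg, hw⟩ := t.2 z
      obtain ⟨m, t', hm, ht', hdeg', hmt⟩ := exists_frac_lift (hψ := hψ) hv h n x.2 s.2 hdeg
      exact ⟨W, hzW, leOfHom iW, i, j, ⟨m, hm⟩, ⟨t', ht'⟩, hdeg', fun y => by
        obtain ⟨ht, e⟩ := hmt y.1 (nin y)
        exact ⟨ht, e.trans (hw y).symm⟩⟩
    choose W hzW hW i j m t' hdeg hmt using key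
    let pre : ∀ x : U, V := fun x => ⟨(hUr x.2).choose, (hUr x.2).choose_spec.1⟩
    have hpre : ∀ x : U, ProjectiveSpectrum.comap ψ hψ (pre x).1 = x.1 := fun x => (hUr x.2).choose_spec.2
    have hg : ∀ x : U, ∃ q : GrMod.tildeAt 𝒜 ℳ n x.1, ∀ (z : V) (hz : ProjectiveSpectrum.comap ψ hψ z.1 = x.1),
        GrMod.locModMap ψ hψ v z.1 (hz.symm ▸ q : GrMod.tildeAt 𝒜 ℳ n (ProjectiveSpectrum.comap ψ hψ z.1)).1 =
          (t.1 z).1 := by
      rintro ⟨x, hx⟩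
      obtain ⟨z, hzV, rfl⟩ := hUr hx
      obtain ⟨ht, e⟩ := hmt ⟨z, hzV⟩ ⟨z, hzW _⟩
      refine ⟨⟨LocalizedModule.mk (m ⟨z, hzV⟩).1 ⟨_, ht⟩, ?_⟩, fun z' hz' => ?_⟩
      · rcases hdeg ⟨z, hzV⟩ with hd | hd
        · exact frac_mem_tildeAt n _ _ _ (m _) (t' _) ht hd
        · rw [hd, LocalizedModule.zero_mk]; exact zero_mem _
      · obtain ⟨z', hz'V⟩ := z'
        obtain rfl : z' = z := (Proj.map ψ hψ).isOpenEmbedding.injective hz'
        exact e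
    choose g hgv using hg
    refine ⟨⟨g, fun x => ?_⟩, sect_ext fun z => hgv ⟨_, hUV z.2⟩ z rfl⟩
    obtain ⟨x, hx⟩ := x
    obtain ⟨z, hzV, rfl⟩ := hUr hx
    let W' : Opens (ProjectiveSpectrum.top 𝒜) := Proj.map ψ hψ ''ᵁ W ⟨z, hzV⟩
    have hW'U : W' ≤ U := by
      rintro _ ⟨y, hy, rfl⟩
      exact hUV (hW _ hy)
    refine ⟨W', ⟨z, hzW _, rfl⟩, homOfLE hW'U, _, _, m ⟨z, hzV⟩, t' ⟨z, hzV⟩, ?_, hdeg _, ?_⟩
    · rintro ⟨_, y, hy, rfl⟩
      exact (hmt ⟨z, hzV⟩ ⟨y, hy⟩).1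
    · rintro ⟨_, y, hy, rfl⟩
      refine locModMap_injective (hψ := hψ) h y ?_
      exact (hgv ⟨ProjectiveSpectrum.comap ψ hψ y, hUV (hW _ hy)⟩ ⟨y, hW _ hy⟩ rfl).trans (hmt ⟨z, hzV⟩ ⟨y, hy⟩).2.symm

end Groth.Agent.TwistLib.G
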