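import Groth.Agent.TwistLib.G.QCoh

/-!
# `O(n) = A(n)~`
-/

set_option autoImplicit false
set_option linter.unusedSectionVars false

universe u

open AlgebraicGeometry CategoryTheory TopologicalSpace Opposite
open Groth.Agent.ProjLib

namespace Groth.Agent.TwistLib.G

variable {A σ : Type u} [CommRing A] [SetLike σ A] [AddSubgroupClass σ A] (𝒜 : ℕ → σ)
  [GradedRing 𝒜] (n : ℤ)

lemma mem_tildeAt_of_twistAt (x : ProjectiveSpectrum 𝒜) {q : GrTwist.Loc 𝒜 x}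
    (hq : q ∈ GrTwist.twistAt 𝒜 n x) :
    (q : GrMod.LocMod 𝒜 (M := A) x) ∈ GrMod.tildeAt 𝒜 𝒜 n x := by
  unfold GrTwist.twistAt at hq
  induction hq using Submodule.span_induction with
  | mem q hq =>
    obtain ⟨i, j, a, s, hs, e, rfl⟩ := hq
    exact Submodule.subset_span ⟨i, j, a, s, hs, e, rfl⟩
  | zero => exact zero_mem _
  | add q r _ _ hq hr => exact add_mem hq hr
  | smul c q _ hq => exact Submodule.smul_mem _ c hq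

lemma mem_twistAt_of_tildeAt (x : ProjectiveSpectrum 𝒜) {q : GrMod.LocMod 𝒜 (M := A) x}
    (hq : q ∈ GrMod.tildeAt 𝒜 𝒜 n x) : (q : GrTwist.Loc 𝒜 x) ∈ GrTwist.twistAt 𝒜 n x := by
  obtain ⟨i, j, m, s, hs, e, rfl⟩ := tildeAt_eq_frac n x hq
  exact Submodule.subset_span ⟨i, j, m, s, hs, e, rfl⟩

/-- Comparison on sections. -/
def twistSectEquiv (U : (Opens (ProjectiveSpectrum.top 𝒜))ᵒᵖ) :
    GrTwist.sectN (𝒜 := 𝒜) n U ≃ₗ[GrTwist.O (𝒜 := 𝒜) U] GrMod.sect 𝒜 𝒜 n U where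
  toFun f := ⟨fun x => ⟨(f.1 x).1, mem_tildeAt_of_twistAt 𝒜 n x.1 (f.1 x).2⟩, f.2⟩
  invFun f := ⟨fun x => ⟨(f.1 x).1, mem_twistAt_of_tildeAt 𝒜 n x.1 (f.1 x).2⟩, f.2⟩
  map_add' _ _ := rfl
  map_smul' _ _ := rfl
  left_inv _ := rfl
  right_inv _ := rfl

/-- `O(n) ≅ A(n)~`. -/
noncomputable def twistPIso : GrTwist.twistPMod 𝒜 n ≅ GrMod.tildePMod 𝒜 𝒜 n :=
  PresheafOfModules.isoMk (fun U => (twistSectEquiv 𝒜 n U).toModuleIso) fun _ _ _ => rfl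

/-- `O(n) ≅ A(n)~`. -/
noncomputable def twistIsoTilde : GrTwist.twist 𝒜 n ≅ GrMod.tilde 𝒜 𝒜 n :=
  (SheafOfModules.fullyFaithfulForget _).preimageIso
    (X := GrTwist.twist 𝒜 n) (Y := GrMod.tilde 𝒜 𝒜 n) (twistPIso 𝒜 n)

theorem isQCoh_twist : Coh.IsQCoh (GrTwist.twist 𝒜 n) :=
  haveI := isQCoh_tilde (𝒜 := 𝒜) 𝒜 n
  Groth.Agent.Coherent.isQCoh_of_iso (twistIsoTilde 𝒜 n).symm

end Groth.Agent.TwistLib.G
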