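import Groth.Agent.TwistLib.G.RelTilde
import Groth.Agent.TwistLib.G.ModLoc
import Groth.Agent.TwistLib.G.TwistTilde

/-!
# `O_P(n)` as the relative tilde of `𝒮`
-/

set_option autoImplicit false
set_option linter.unusedSectionVars false
set_option backward.isDefEq.respectTransparency.types false
set_option maxHeartbeats 400000

universe u

open DirectSum AlgebraicGeometry CategoryTheory TopologicalSpace Opposite
open Groth.Agent.ProjLib Groth.Agent.Coherent
open scoped HomogeneousIdeal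

namespace Groth.Agent.TwistLib.G

/-- The map of localisations as the map of localised modules. -/
theorem locModMap_eq_locMap {A σ : Type u} [CommRing A] [SetLike σ A] [AddSubgroupClass σ A] {𝒜 : ℕ → σ}
    [GradedRing 𝒜] {B σ' : Type u} [CommRing B] [SetLike σ' B] [AddSubgroupClass σ' B] {ℬ : ℕ → σ'} [GradedRing ℬ]
    (ψ : 𝒜 →+*ᵍ ℬ) (hψ : ℬ₊ ≤ (𝒜₊).map ψ) (v : A →ₛₗ[ψ.toRingHom] B) (hv : ∀ a, v a = ψ a)
    (y : ProjectiveSpectrum ℬ) (q : GrTwist.Loc 𝒜 (ProjectiveSpectrum.comap ψ hψ y)) :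
    GrTwist.locMap ψ hψ y q = GrMod.locModMap ψ hψ v y q := by
  induction q using Localization.induction_on with
  | H p =>
    obtain ⟨a, s⟩ := p
    refine (GrTwist.locMap_mk ψ hψ y a s).trans ?_
    refine Eq.trans ?_ (GrMod.locModMap_mk ψ hψ v y a s).symm
    exact congrArg (fun b : B => (LocalizedModule.mk b ⟨ψ (s : A), s.2⟩ : GrMod.LocMod ℬ (M := B) y)) (hv a).symm

theorem val_twistIsoTilde {A σ : Type u} [CommRing A] [SetLike σ A] [AddSubgroupClass σ A] {𝒜 : ℕ → σ}
    [GradedRing 𝒜] (n : ℤ) {V : (Proj 𝒜).Opens} (s : Γ(GrTwist.twist 𝒜 n, V)) (y : V) :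
    GrMod.val (V := V) ((twistIsoTilde 𝒜 n).hom.app V s) y = GrTwist.val (V := V) s y := rfl

theorem bijective_comp_app {X : Scheme.{u}} {F G H : X.Modules} (φ : F ⟶ G) (ψ : G ⟶ H) (W : X.Opens)
    (h₁ : Function.Bijective (φ.app W)) (h₂ : Function.Bijective (ψ.app W)) : Function.Bijective ((φ ≫ ψ).app W) :=
  h₂.comp h₁

variable {Y P : Scheme.{u}} {𝒮 : RelProj.QCGrAlg Y} {p : P ⟶ Y}
  {chart : ∀ (U : Y.Opens) (hU : IsAffineOpen U), (((p ⁻¹ᵁ U : P.Opens) : Scheme.{u}) ≅ Proj (𝒮.deg U hU))}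
  {n : ℤ}

variable (p chart n) in
/-- One chart of `O_P(n)` and one chart of `(𝒮(n))~` agree. -/
noncomputable def twistChartIso (U : Y.Opens) (hU : IsAffineOpen U) :
    (Scheme.Modules.pushforward (RelProj.emb p chart U hU)).obj (GrTwist.twist (𝒮.deg U hU) n) ≅
      chartMod p chart (selfGrModule 𝒮) n U hU :=
  (Scheme.Modules.pushforward (RelProj.emb p chart U hU)).mapIso (twistIsoTilde (𝒮.deg U hU) n)

theorem twistChartIso_bijective (U : Y.Opens) (hU : IsAffineOpen U) (W : P.Opens) :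
    Function.Bijective ((twistChartIso p chart n U hU).hom.app W) :=
  ConcreteCategory.bijective_of_isIso _

/-- A relative twist is a relative tilde of `𝒮`. -/
theorem isRelTilde_of_isRelTwist {L : P.Modules}
    {lam : ∀ (U : Y.Opens) (hU : IsAffineOpen U),
      L ⟶ (Scheme.Modules.pushforward (RelProj.emb p chart U hU)).obj (GrTwist.twist (𝒮.deg U hU) n)}
    (hL : RelProj.IsRelTwist 𝒮 p chart n L lam) :
    RelProj.IsRelTilde 𝒮 p chart (selfGrModule 𝒮) n L (fun U hU => lam U hU ≫ (twistChartIso p chart n U hU).hom) where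
  bijective U hU W hW := bijective_comp_app _ _ W (hL.bijective U hU W hW) (twistChartIso_bijective U hU W)
  compat U hU r W s y hy hy' := by
    have h := (hL.compat U hU r W s y hy hy').trans
      (locModMap_eq_locMap (𝒮.res hU (hU.basicOpen r) (Y.basicOpen_le r)) (𝒮.irrelevant_le_map U hU r)
        ((selfGrModule 𝒮).res hU (hU.basicOpen r) (Y.basicOpen_le r)) (fun _ => rfl) y _)
    exact (val_twistIsoTilde n ((lam (Y.basicOpen r) (hU.basicOpen r)).app W s) ⟨y, hy⟩).trans
      (h.trans (congrArg _ (val_twistIsoTilde n ((lam U hU).app W s) ⟨_, hy'⟩).symm))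

/-- A relative tilde of `𝒮` is a relative twist. -/
theorem isRelTwist_of_isRelTilde {L : P.Modules}
    {lam : ∀ (U : Y.Opens) (hU : IsAffineOpen U), L ⟶ chartMod p chart (selfGrModule 𝒮) n U hU}
    (hL : RelProj.IsRelTilde 𝒮 p chart (selfGrModule 𝒮) n L lam) :
    RelProj.IsRelTwist 𝒮 p chart n L (fun U hU => lam U hU ≫ (twistChartIso p chart n U hU).inv) where
  bijective U hU W hW := bijective_comp_app _ _ W (hL.bijective U hU W hW)
    (ConcreteCategory.bijective_of_isIso ((twistChartIso p chart n U hU).inv.app W))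
  compat U hU r W s y hy hy' :=
    (hL.compat U hU r W s y hy hy').trans
      (locModMap_eq_locMap (𝒮.res hU (hU.basicOpen r) (Y.basicOpen_le r)) (𝒮.irrelevant_le_map U hU r)
        ((selfGrModule 𝒮).res hU (hU.basicOpen r) (Y.basicOpen_le r)) (fun _ => rfl) y _).symm

theorem exists_isRelTwist (hP : RelProj.IsRelProj 𝒮 p chart) :
    ∃ (L : P.Modules) (lam : ∀ (U : Y.Opens) (hU : IsAffineOpen U),
      L ⟶ (Scheme.Modules.pushforward (RelProj.emb p chart U hU)).obj (GrTwist.twist (𝒮.deg U hU) n)),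
      RelProj.IsRelTwist 𝒮 p chart n L lam :=
  ⟨_, _, isRelTwist_of_isRelTilde (isRelTilde_relTilde (hP := hP) (n := n) (isLocalGrModule_self 𝒮))⟩

theorem isQCoh_of_isRelTwist {L : P.Modules}
    {lam : ∀ (U : Y.Opens) (hU : IsAffineOpen U),
      L ⟶ (Scheme.Modules.pushforward (RelProj.emb p chart U hU)).obj (GrTwist.twist (𝒮.deg U hU) n)}
    (hL : RelProj.IsRelTwist 𝒮 p chart n L lam) : Coh.IsQCoh L :=
  isQCoh_of_bijective _ (isRelTilde_of_isRelTwist hL).bijective

end Groth.Agent.TwistLib.G
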