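import Groth.Agent.TwistLib.G.Loc
import Groth.Agent.ProjLib.RelProjExist
import Groth.Agent.ProjLib.RelProjBasics
import Groth.Agent.ProjLib.AffineGlue

/-!
# Transition maps between the charts of `(ℳ(n))~` on a relative Proj
-/

set_option autoImplicit false
set_option linter.unusedSectionVars false
set_option backward.isDefEq.respectTransparency.types false

universe u

open DirectSum AlgebraicGeometry CategoryTheory TopologicalSpace Opposite
open Groth.Agent.ProjLib Groth.Agent.Coherent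
open scoped HomogeneousIdeal

namespace Groth.Agent.TwistLib.G

/-- A map over `f` seen after direct image along `g`. -/
noncomputable def pushTrans {X' X Z : Scheme.{u}} (f : X' ⟶ X) (g : X ⟶ Z) (h : X' ⟶ Z) (e : f ≫ g = h)
    {M : X.Modules} {N : X'.Modules} (φ : M ⟶ (Scheme.Modules.pushforward f).obj N) :
    (Scheme.Modules.pushforward g).obj M ⟶ (Scheme.Modules.pushforward h).obj N :=
  (Scheme.Modules.pushforward g).map φ ≫ ((Scheme.Modules.pushforwardComp f g).app N).hom ≫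
    ((Scheme.Modules.pushforwardCongr e).app N).hom

variable {Y P : Scheme.{u}} {𝒮 : RelProj.QCGrAlg Y}

/-- Composites of the induced maps on two fractions with the same numerator and denominator agree. -/
theorem locModMap_comp_eq {A σ : Type u} [CommRing A] [SetLike σ A] [AddSubgroupClass σ A] {𝒜 : ℕ → σ} [GradedRing 𝒜]
    {B σ' : Type u} [CommRing B] [SetLike σ' B] [AddSubgroupClass σ' B] {ℬ : ℕ → σ'} [GradedRing ℬ]
    {C σ'' : Type u} [CommRing C] [SetLike σ'' C] [AddSubgroupClass σ'' C] {𝒞 : ℕ → σ''} [GradedRing 𝒞]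
    {M : Type u} [AddCommGroup M] [Module A M] {N : Type u} [AddCommGroup N] [Module B N]
    {L : Type u} [AddCommGroup L] [Module C L]
    (ψ : 𝒜 →+*ᵍ ℬ) (hψ : ℬ₊ ≤ (𝒜₊).map ψ) (v : M →ₛₗ[ψ.toRingHom] N)
    (ψ' : ℬ →+*ᵍ 𝒞) (hψ' : 𝒞₊ ≤ (ℬ₊).map ψ') (v' : N →ₛₗ[ψ'.toRingHom] L)
    (ψ'' : 𝒜 →+*ᵍ 𝒞) (hψ'' : 𝒞₊ ≤ (𝒜₊).map ψ'') (v'' : M →ₛₗ[ψ''.toRingHom] L)
    (hc : ∀ a, ψ'' a = ψ' (ψ a)) (hvc : ∀ m, v'' m = v' (v m)) (z : ProjectiveSpectrum 𝒞)
    {q₁ : GrMod.LocMod 𝒜 (M := M) (ProjectiveSpectrum.comap ψ hψ (ProjectiveSpectrum.comap ψ' hψ' z))}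
    {q₂ : GrMod.LocMod 𝒜 (M := M) (ProjectiveSpectrum.comap ψ'' hψ'' z)} {m : M} {t : A}
    {ht : t ∉ (ProjectiveSpectrum.comap ψ hψ (ProjectiveSpectrum.comap ψ' hψ' z)).asHomogeneousIdeal.toIdeal}
    {ht' : t ∉ (ProjectiveSpectrum.comap ψ'' hψ'' z).asHomogeneousIdeal.toIdeal}
    (e : q₁ = LocalizedModule.mk m ⟨t, ht⟩) (e' : q₂ = LocalizedModule.mk m ⟨t, ht'⟩) :
    GrMod.locModMap ψ' hψ' v' z (GrMod.locModMap ψ hψ v _ q₁) = GrMod.locModMap ψ'' hψ'' v'' z q₂ := by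
  subst e e'
  exact congrArg₂ LocalizedModule.mk (hvc m).symm (Subtype.ext (hc t).symm)

/-- The restriction of `𝒮` to a basic open satisfies the hypothesis on irrelevant ideals. -/
theorem irr_basic {U D : Y.Opens} (hU : IsAffineOpen U) (hD : IsAffineOpen D) (r : Γ(Y, U))
    (h : D = Y.basicOpen r) :
    (𝒮.deg D hD)₊ ≤ ((𝒮.deg U hU)₊).map (𝒮.res hU hD (h ▸ Y.basicOpen_le r)) := by
  subst h
  exact 𝒮.irrelevant_le_map U hU r

theorem le_of_basic {U D : Y.Opens} {r : Γ(Y, U)} (h : D = Y.basicOpen r) : D ≤ U := h ▸ Y.basicOpen_le r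

/-- `ℳ` localises on basic opens of affines. -/
def IsLocalGrModule (ℳ : RelProj.GrModule 𝒮) : Prop :=
  ∀ (U : Y.Opens) (hU : IsAffineOpen U) (r : Γ(Y, U)),
    IsGrLoc (𝒮.res hU (hU.basicOpen r) (Y.basicOpen_le r)) (ℳ.res hU (hU.basicOpen r) (Y.basicOpen_le r))
      ((𝒮.str.app (op U)).hom r)

variable {ℳ : RelProj.GrModule 𝒮}

theorem IsLocalGrModule.isGrLoc (hℳ : IsLocalGrModule ℳ) {U D : Y.Opens} (hU : IsAffineOpen U)
    (hD : IsAffineOpen D) (r : Γ(Y, U)) (h : D = Y.basicOpen r) :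
    IsGrLoc (𝒮.res hU hD (le_of_basic h)) (ℳ.res hU hD (le_of_basic h)) ((𝒮.str.app (op U)).hom r) := by
  subst h
  exact hℳ U hU r

variable {p : P ⟶ Y}
  {chart : ∀ (U : Y.Opens) (hU : IsAffineOpen U), (((p ⁻¹ᵁ U : P.Opens) : Scheme.{u}) ≅ Proj (𝒮.deg U hU))}
  (hP : RelProj.IsRelProj 𝒮 p chart)

include hP

theorem map_emb {U D : Y.Opens} (hU : IsAffineOpen U) (hD : IsAffineOpen D) (r : Γ(Y, U))
    (h : D = Y.basicOpen r) :
    Proj.map (𝒮.res hU hD (le_of_basic h)) (irr_basic hU hD r h) ≫ RelProj.emb p chart U hU =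
      RelProj.emb p chart D hD := by
  subst h
  exact RelProj.map_res_emb hP U hU r

theorem emb_comap {U D : Y.Opens} (hU : IsAffineOpen U) (hD : IsAffineOpen D) (r : Γ(Y, U))
    (h : D = Y.basicOpen r) (z : ProjectiveSpectrum (𝒮.deg D hD)) :
    (RelProj.emb p chart U hU).base
        (ProjectiveSpectrum.comap (𝒮.res hU hD (le_of_basic h)) (irr_basic hU hD r h) z) =
      (RelProj.emb p chart D hD).base z :=
  congrArg (fun q : Proj (𝒮.deg D hD) ⟶ P => q.base z) (map_emb hP hU hD r h)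

omit hP in
theorem opensRange_emb (U : Y.Opens) (hU : IsAffineOpen U) :
    (RelProj.emb p chart U hU).opensRange = p ⁻¹ᵁ U := by
  unfold RelProj.emb
  rw [Scheme.Hom.opensRange_comp_of_isIso, Scheme.Opens.opensRange_ι]

omit hP in
theorem emb_mem (U : Y.Opens) (hU : IsAffineOpen U) (z : ProjectiveSpectrum (𝒮.deg U hU)) :
    p.base ((RelProj.emb p chart U hU).base z) ∈ U :=
  (opensRange_emb (p := p) (chart := chart) U hU).le ⟨z, rfl⟩

omit hP in
theorem exists_preimage {U : Y.Opens} (hU : IsAffineOpen U) {x : P} (hx : p.base x ∈ U) :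
    ∃ z : ProjectiveSpectrum (𝒮.deg U hU), (RelProj.emb p chart U hU).base z = x :=
  (opensRange_emb (p := p) (chart := chart) U hU).ge hx

theorem exists_comap_eq {U D : Y.Opens} (hU : IsAffineOpen U) (hD : IsAffineOpen D) (r : Γ(Y, U))
    (h : D = Y.basicOpen r) {y : ProjectiveSpectrum (𝒮.deg U hU)}
    (hy : p.base ((RelProj.emb p chart U hU).base y) ∈ D) :
    ∃ z, ProjectiveSpectrum.comap (𝒮.res hU hD (le_of_basic h)) (irr_basic hU hD r h) z = y := by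
  obtain ⟨z, hz⟩ := exists_preimage (chart := chart) hD hy
  exact ⟨z, (RelProj.emb p chart U hU).isOpenEmbedding.injective ((emb_comap hP hU hD r h z).trans hz)⟩

theorem isOpenImmersion_map_res {U D : Y.Opens} (hU : IsAffineOpen U) (hD : IsAffineOpen D) (r : Γ(Y, U))
    (h : D = Y.basicOpen r) : IsOpenImmersion (Proj.map (𝒮.res hU hD (le_of_basic h)) (irr_basic hU hD r h)) := by
  have : IsOpenImmersion (Proj.map (𝒮.res hU hD (le_of_basic h)) (irr_basic hU hD r h) ≫ RelProj.emb p chart U hU) := by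
    rw [map_emb hP hU hD r h]; infer_instance
  exact IsOpenImmersion.of_comp _ (RelProj.emb p chart U hU)

theorem emb_comap_mem {U D : Y.Opens} (hU : IsAffineOpen U) (hD : IsAffineOpen D) (r : Γ(Y, U))
    (h : D = Y.basicOpen r) {W : P.Opens} {z : ProjectiveSpectrum (𝒮.deg D hD)}
    (hz : (RelProj.emb p chart D hD).base z ∈ W) :
    (RelProj.emb p chart U hU).base
        (ProjectiveSpectrum.comap (𝒮.res hU hD (le_of_basic h)) (irr_basic hU hD r h) z) ∈ W := by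
  rw [emb_comap hP hU hD r h z]; exact hz

set_option maxHeartbeats 200000
variable (ℳ) (n : ℤ)

set_option maxHeartbeats 100000 in
noncomputable def chartTrans {U D : Y.Opens} (hU : IsAffineOpen U) (hD : IsAffineOpen D) (r : Γ(Y, U))
    (h : D = Y.basicOpen r) :
    (Scheme.Modules.pushforward (RelProj.emb p chart U hU)).obj (GrMod.tilde (𝒮.deg U hU) (ℳ.deg U hU) n) ⟶
      (Scheme.Modules.pushforward (RelProj.emb p chart D hD)).obj (GrMod.tilde (𝒮.deg D hD) (ℳ.deg D hD) n) :=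
  pushTrans (Proj.map (𝒮.res hU hD (le_of_basic h)) (irr_basic hU hD r h)) (RelProj.emb p chart U hU)
    (RelProj.emb p chart D hD) (map_emb hP hU hD r h) (M := GrMod.tilde (𝒮.deg U hU) (ℳ.deg U hU) n)
    (N := GrMod.tilde (𝒮.deg D hD) (ℳ.deg D hD) n)
    (GrMod.comap (𝒮.res hU hD (le_of_basic h)) (irr_basic hU hD r h) (ℳ.res hU hD (le_of_basic h))
      (ℳ.res_mem hU hD (le_of_basic h)) n)

theorem chartTrans_val {U D : Y.Opens} (hU : IsAffineOpen U) (hD : IsAffineOpen D) (r : Γ(Y, U))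
    (h : D = Y.basicOpen r) (W : P.Opens)
    (s : Γ((Scheme.Modules.pushforward (RelProj.emb p chart U hU)).obj
      (GrMod.tilde (𝒮.deg U hU) (ℳ.deg U hU) n), W))
    (z : ProjectiveSpectrum (𝒮.deg D hD)) (hz : (RelProj.emb p chart D hD).base z ∈ W) :
    GrMod.val (V := RelProj.emb p chart D hD ⁻¹ᵁ W) ((chartTrans ℳ hP n hU hD r h).app W s) ⟨z, hz⟩ =
      GrMod.locModMap _ (irr_basic hU hD r h) (ℳ.res hU hD (le_of_basic h)) z
        (GrMod.val (V := RelProj.emb p chart U hU ⁻¹ᵁ W) s ⟨_, emb_comap_mem hP hU hD r h hz⟩) := rfl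

theorem chartTrans_bijective (hℳ : IsLocalGrModule ℳ) {U D : Y.Opens} (hU : IsAffineOpen U) (hD : IsAffineOpen D)
    (r : Γ(Y, U)) (h : D = Y.basicOpen r) (W : P.Opens) (hW : W ≤ p ⁻¹ᵁ D) :
    Function.Bijective ((chartTrans ℳ hP n hU hD r h).app W) := by
  have := isOpenImmersion_map_res hP hU hD r h
  exact comapApp_bijective (ℳ.res_mem hU hD (le_of_basic h)) (hℳ.isGrLoc hU hD r h) n
    (RelProj.emb p chart U hU ⁻¹ᵁ W) (RelProj.emb p chart D hD ⁻¹ᵁ W)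
    (fun z hz => emb_comap_mem hP hU hD r h hz)
    (fun y hy => by
      obtain ⟨z, hz⟩ := exists_comap_eq hP hU hD r h (hW hy)
      refine ⟨z, ?_, hz⟩
      show (RelProj.emb p chart D hD).base z ∈ W
      rw [← emb_comap hP hU hD r h z, hz]
      exact hy)

omit hP in
theorem res_res_apply {U D E : Y.Opens} (hU : IsAffineOpen U) (hD : IsAffineOpen D) (hE : IsAffineOpen E)
    (h₁ : D ≤ U) (h₂ : E ≤ D) (x : 𝒮.presheaf.obj (op U)) :
    𝒮.res hU hE (h₂.trans h₁) x = 𝒮.res hD hE h₂ (𝒮.res hU hD h₁ x) :=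
  ConcreteCategory.congr_hom (𝒮.presheaf.map_comp (homOfLE h₁).op (homOfLE h₂).op) x

omit hP in
theorem mres_mres_apply {U D E : Y.Opens} (hU : IsAffineOpen U) (hD : IsAffineOpen D) (hE : IsAffineOpen E)
    (h₁ : D ≤ U) (h₂ : E ≤ D) (x : ℳ.mod.val.obj (op U)) :
    ℳ.res hU hE (h₂.trans h₁) x = ℳ.res hD hE h₂ (ℳ.res hU hD h₁ x) :=
  ConcreteCategory.congr_hom (ℳ.mod.val.map_comp (homOfLE h₁).op (homOfLE h₂).op) x

omit hP in
/-- A basic open of a basic open is basic. -/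
theorem exists_basic_trans {U D : Y.Opens} (hU : IsAffineOpen U) {r : Γ(Y, U)} (h : D = Y.basicOpen r)
    (s : Γ(Y, D)) : ∃ t : Γ(Y, U), Y.basicOpen s = Y.basicOpen t := by
  subst h
  obtain ⟨t, ht⟩ := hU.basicOpen_basicOpen_is_basicOpen r s
  exact ⟨t, ht.symm⟩

/-- The comparisons compose. -/
theorem chartTrans_trans {U D E : Y.Opens} (hU : IsAffineOpen U) (hD : IsAffineOpen D) (hE : IsAffineOpen E)
    (r : Γ(Y, U)) (h : D = Y.basicOpen r) (s : Γ(Y, D)) (h' : E = Y.basicOpen s)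
    (t : Γ(Y, U)) (h'' : E = Y.basicOpen t) :
    chartTrans ℳ hP n hU hD r h ≫ chartTrans ℳ hP n hD hE s h' = chartTrans ℳ hP n hU hE t h'' := by
  refine Scheme.Modules.hom_ext _ _ fun W => ?_
  ext a
  refine sect_ext fun z => ?_
  obtain ⟨z, hz⟩ := z
  show GrMod.val (V := RelProj.emb p chart E hE ⁻¹ᵁ W)
      ((chartTrans ℳ hP n hD hE s h').app W ((chartTrans ℳ hP n hU hD r h).app W a)) ⟨z, hz⟩ =
    GrMod.val (V := RelProj.emb p chart E hE ⁻¹ᵁ W) ((chartTrans ℳ hP n hU hE t h'').app W a) ⟨z, hz⟩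
  rw [chartTrans_val, chartTrans_val, chartTrans_val]
  have hcomap : ProjectiveSpectrum.comap (𝒮.res hU hD (le_of_basic h)) (irr_basic hU hD r h)
      (ProjectiveSpectrum.comap (𝒮.res hD hE (le_of_basic h')) (irr_basic hD hE s h') z) =
      ProjectiveSpectrum.comap (𝒮.res hU hE (le_of_basic h'')) (irr_basic hU hE t h'') z := by
    refine (RelProj.emb p chart U hU).isOpenEmbedding.injective ?_
    rw [emb_comap hP hU hD r h, emb_comap hP hD hE s h', emb_comap hP hU hE t h'']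
  have key : ∀ (x₁ x₂ : ProjectiveSpectrum (𝒮.deg U hU)) (hx : x₁ = x₂)
      (h₁ : x₁ ∈ RelProj.emb p chart U hU ⁻¹ᵁ W) (h₂ : x₂ ∈ RelProj.emb p chart U hU ⁻¹ᵁ W)
      (i j : ℕ) (m : ℳ.deg U hU i) (t₀ : 𝒮.deg U hU j) (ht : t₀.1 ∉ x₁.asHomogeneousIdeal.toIdeal),
      GrMod.val (V := RelProj.emb p chart U hU ⁻¹ᵁ W) a ⟨x₁, h₁⟩ = LocalizedModule.mk m.1 ⟨t₀.1, ht⟩ →
      ∃ ht' : t₀.1 ∉ x₂.asHomogeneousIdeal.toIdeal,
        GrMod.val (V := RelProj.emb p chart U hU ⁻¹ᵁ W) a ⟨x₂, h₂⟩ = LocalizedModule.mk m.1 ⟨t₀.1, ht'⟩ := by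
    rintro x₁ x₂ rfl h₁ h₂ i j m t₀ ht e
    exact ⟨ht, e⟩
  have hx₁ : (RelProj.emb p chart U hU).base (ProjectiveSpectrum.comap (𝒮.res hU hD (le_of_basic h))
      (irr_basic hU hD r h) (ProjectiveSpectrum.comap (𝒮.res hD hE (le_of_basic h')) (irr_basic hD hE s h') z)) ∈ W := by
    rw [emb_comap hP hU hD r h, emb_comap hP hD hE s h']; exact hz
  obtain ⟨i, j, m, t₀, ht, -, e⟩ := tildeAt_eq_frac n _
    (q := GrMod.val (V := RelProj.emb p chart U hU ⁻¹ᵁ W) a ⟨_, hx₁⟩)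
    ((a : GrMod.sect (𝒮.deg U hU) (ℳ.deg U hU) n (op (RelProj.emb p chart U hU ⁻¹ᵁ W))).1 ⟨_, hx₁⟩).2
  have hx₂ := emb_comap_mem hP hU hE t h'' (W := W) hz
  obtain ⟨ht', e'⟩ := key _ _ hcomap hx₁ hx₂ i j m t₀ ht e
  exact locModMap_comp_eq _ _ _ _ _ _ _ _ _ (res_res_apply hU hD hE _ _) (mres_mres_apply ℳ hU hD hE _ _)
    z e e'

end Groth.Agent.TwistLib.G
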