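import Groth.Agent.TwistLib.G.Map
import Groth.Agent.TwistLib.G.Sections
import Groth.Agent.Coherent.FiniteType
import Groth.Agent.ProjLib.GradedGen

/-!
# Graded modules with finitely generated tail: finiteness and vanishing of the associated sheaf
-/

set_option autoImplicit false
set_option linter.unusedSectionVars false
set_option backward.isDefEq.respectTransparency.types false
set_option maxHeartbeats 400000

universe u

open DirectSum AlgebraicGeometry CategoryTheory TopologicalSpace Opposite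
open Groth.Agent.ProjLib Groth.Agent.Coherent
open scoped HomogeneousIdeal

namespace Groth.Agent.TwistLib.G

section algebra

variable {A σ : Type u} [CommRing A] [SetLike σ A] [AddSubgroupClass σ A] {𝒜 : ℕ → σ} [GradedRing 𝒜]

/-- Every element of the algebra generated by finitely many homogeneous elements is a sum of monomials. -/
theorem mem_closure_monomials {s : Finset A} (hs : Algebra.adjoin (𝒜 0) (s : Set A) = ⊤) (a : A) :
    a ∈ AddSubgroup.closure {x : A | ∃ (a₀ : A) (c : A → ℕ), a₀ ∈ 𝒜 0 ∧ x = a₀ * ∏ g ∈ s, g ^ c g} := by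
  classical
  have hmon : ∀ y ∈ Submonoid.closure (s : Set A), ∃ c : A → ℕ, y = ∏ g ∈ s, g ^ c g := by
    intro y hy
    induction hy using Submonoid.closure_induction with
    | mem y hy =>
      refine ⟨fun g => if g = y then 1 else 0, ?_⟩
      simp [pow_ite, Finset.prod_ite_eq', Finset.mem_coe.1 hy]
    | one => exact ⟨0, by simp⟩
    | mul y y' _ _ hy hy' =>
      obtain ⟨c, rfl⟩ := hy
      obtain ⟨c', rfl⟩ := hy'
      exact ⟨c + c', by simp [pow_add, Finset.prod_mul_distrib]⟩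
  have hmem : a ∈ Subalgebra.toSubmodule (Algebra.adjoin (𝒜 0) (s : Set A)) := by rw [hs]; trivial
  rw [Algebra.adjoin_eq_span] at hmem
  refine Submodule.span_induction (p := fun x _ => x ∈ AddSubgroup.closure _)
    (fun y hy => ?_) (zero_mem _) (fun x y _ _ hx hy => add_mem hx hy) (fun r x _ hx => ?_) hmem
  · obtain ⟨c, rfl⟩ := hmon y hy
    exact AddSubgroup.subset_closure ⟨1, c, SetLike.GradedOne.one_mem, (one_mul _).symm⟩
  · rename_i h; clear h
    induction hx using AddSubgroup.closure_induction with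
    | mem y hy =>
      obtain ⟨a₀, c, ha₀, rfl⟩ := hy
      refine AddSubgroup.subset_closure ⟨r.1 * a₀, c, ?_, (mul_assoc r.1 a₀ _).symm⟩
      simpa using SetLike.mul_mem_graded r.2 ha₀
    | zero => rw [smul_zero]; exact zero_mem _
    | add y z _ _ hy hz => rw [smul_add]; exact add_mem hy hz
    | neg y _ hy => rw [smul_neg]; exact neg_mem hy

/-- Homogeneous elements are sums of monomials of the same degree. -/
theorem mem_closure_monomials_deg {s : Finset A} {δ : A → ℕ} (hδ : ∀ g ∈ s, g ∈ 𝒜 (δ g))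
    (hs : Algebra.adjoin (𝒜 0) (s : Set A) = ⊤) {q : ℕ} {a : A} (ha : a ∈ 𝒜 q) :
    a ∈ AddSubgroup.closure {x : A | ∃ (a₀ : A) (c : A → ℕ),
      a₀ ∈ 𝒜 0 ∧ ∑ g ∈ s, c g * δ g = q ∧ x = a₀ * ∏ g ∈ s, g ^ c g} := by
  classical
  suffices h : ∀ x : A, (decompose 𝒜 x q : A) ∈ AddSubgroup.closure {x : A | ∃ (a₀ : A) (c : A → ℕ),
      a₀ ∈ 𝒜 0 ∧ ∑ g ∈ s, c g * δ g = q ∧ x = a₀ * ∏ g ∈ s, g ^ c g} by
    simpa [decompose_of_mem_same 𝒜 ha] using h a
  intro x
  induction mem_closure_monomials hs x using AddSubgroup.closure_induction with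
  | mem y hy =>
    obtain ⟨a₀, c, ha₀, rfl⟩ := hy
    have hdeg : a₀ * ∏ g ∈ s, g ^ c g ∈ 𝒜 (∑ g ∈ s, c g * δ g) := by
      simpa using SetLike.mul_mem_graded ha₀
        (SetLike.prod_mem_graded 𝒜 (fun g => c g * δ g) (fun g => g ^ c g) fun g hg => pow_mem_deg (hδ g hg) _)
    by_cases h : ∑ g ∈ s, c g * δ g = q
    · rw [h] at hdeg
      rw [decompose_of_mem_same 𝒜 hdeg]
      exact AddSubgroup.subset_closure ⟨a₀, c, ha₀, h, rfl⟩
    · rw [decompose_of_mem_ne 𝒜 hdeg h]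
      exact zero_mem _
  | zero => simp
  | add y z _ _ hy hz => simpa [decompose_add] using add_mem hy hz
  | neg y _ hy => rw [decompose_neg]; exact neg_mem hy

/-- Finitely many multipliers reduce every element to degrees divisible by `d`. -/
theorem exists_multipliers (hfg : (HomogeneousIdeal.irrelevant 𝒜).toIdeal.FG) {d : ℕ} (hd : 0 < d) :
    ∃ (I : Type u) (_ : Fintype I) (γ : I → A) (e : I → ℕ), (∀ i, γ i ∈ 𝒜 (e i)) ∧
      ∀ (q : ℕ) (a : A), a ∈ 𝒜 q →
        a ∈ AddSubgroup.closure {x : A | ∃ (i : I) (p : ℕ) (b : A), b ∈ 𝒜 p ∧ d ∣ p ∧ p + e i = q ∧ x = b * γ i} := by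
  classical
  obtain ⟨s, hs, hspan⟩ := exists_finset_homogeneous_span_eq_irrelevant 𝒜 hfg
  have hadj := adjoin_eq_top_of_irrelevant_le_span 𝒜 (E := (s : Set A)) hs hspan.le
  choose! δ hδ0 hδ using hs
  let γ : ({g // g ∈ s} → Fin d) → A := fun c => ∏ g : {g // g ∈ s}, g.1 ^ (c g : ℕ)
  let e : ({g // g ∈ s} → Fin d) → ℕ := fun c => ∑ g : {g // g ∈ s}, (c g : ℕ) * δ g.1
  refine ⟨_, inferInstance, γ, e, fun c =>
    SetLike.prod_mem_graded 𝒜 _ _ fun g _ => pow_mem_deg (hδ g.1 g.2) _, fun q a ha => ?_⟩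
  refine (AddSubgroup.closure_le _).2 ?_ (mem_closure_monomials_deg hδ hadj ha)
  rintro _ ⟨a₀, c, ha₀, hq, rfl⟩
  refine AddSubgroup.subset_closure ⟨fun g => ⟨c g.1 % d, Nat.mod_lt _ hd⟩,
    d * ∑ g : {g // g ∈ s}, c g.1 / d * δ g.1, a₀ * (∏ g : {g // g ∈ s}, g.1 ^ (c g.1 / d)) ^ d, ?_,
    dvd_mul_right _ _, ?_, ?_⟩
  · simpa using SetLike.mul_mem_graded ha₀ (pow_mem_deg
      (SetLike.prod_mem_graded 𝒜 (fun g : {g // g ∈ s} => c g.1 / d * δ g.1) (fun g => g.1 ^ (c g.1 / d))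
        fun g _ => pow_mem_deg (hδ g.1 g.2) _) d)
  · show d * _ + ∑ g : {g // g ∈ s}, c g.1 % d * δ g.1 = q
    rw [← hq, Finset.mul_sum, ← Finset.sum_add_distrib, Finset.sum_coe_sort s (fun g => d * (c g / d * δ g) + c g % d * δ g)]
    exact Finset.sum_congr rfl fun g _ => by rw [← mul_assoc, ← add_mul, Nat.div_add_mod]
  · show a₀ * _ = a₀ * _ * ∏ g : {g // g ∈ s}, g.1 ^ (c g.1 % d)
    rw [mul_assoc, ← Finset.prod_pow, ← Finset.prod_mul_distrib,
      Finset.prod_coe_sort s (fun g => (g ^ (c g / d)) ^ d * g ^ (c g % d))]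
    refine congrArg _ (Finset.prod_congr rfl fun g _ => ?_)
    rw [← pow_mul, ← pow_add, mul_comm, Nat.div_add_mod]

/-- Degree one generators: elements of degree `q` lie in the `q`-th power of their ideal. -/
theorem mem_span_pow_of_deg {s : Finset A} (hs1 : ∀ g ∈ s, g ∈ 𝒜 1)
    (hs : Algebra.adjoin (𝒜 0) (s : Set A) = ⊤) {q : ℕ} {a : A} (ha : a ∈ 𝒜 q) :
    a ∈ Ideal.span (s : Set A) ^ q := by
  classical
  refine (AddSubgroup.closure_le (K := (Ideal.span (s : Set A) ^ q).toAddSubgroup)).2 ?_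
    (mem_closure_monomials_deg (δ := fun _ => 1) hs1 hs ha)
  rintro _ ⟨a₀, c, -, hq, rfl⟩
  refine Ideal.mul_mem_left _ _ ?_
  simp only [mul_one] at hq
  rw [← hq, ← Finset.prod_pow_eq_pow_sum]
  exact Ideal.prod_mem_prod fun g hg => Ideal.pow_mem_pow (Ideal.subset_span hg) _

variable {M τ : Type u} [AddCommGroup M] [Module A M] [SetLike τ M] [AddSubgroupClass τ M] {ℳ : ℕ → τ}
  [DirectSum.Decomposition ℳ] [SetLike.GradedSMul 𝒜 ℳ]

/-- A finitely generated tail has finitely many homogeneous generators. -/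
theorem exists_tail_gens {n₀ : ℕ} (hTF : (Submodule.span A (⋃ k ∈ Set.Ici n₀, (ℳ k : Set M))).FG) :
    ∃ (J : Type u) (_ : Fintype J) (m : J → M) (e : J → ℕ), (∀ j, m j ∈ ℳ (e j)) ∧
      ∀ (q : ℕ) (x : M), n₀ ≤ q → x ∈ ℳ q →
        x ∈ AddSubgroup.closure {y : M | ∃ (j : J) (p : ℕ) (a : A), a ∈ 𝒜 p ∧ p + e j = q ∧ y = a • m j} := by
  classical
  obtain ⟨T, hT, hspan⟩ := (Submodule.fg_span_iff_fg_span_finset_subset _).1 hTF
  have hdeg : ∀ t ∈ T, ∃ e : ℕ, t ∈ ℳ e := fun t ht => by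
    obtain ⟨k, -, hk⟩ := Set.mem_iUnion₂.1 (hT ht)
    exact ⟨k, hk⟩
  choose! e he using hdeg
  refine ⟨{t // t ∈ T}, inferInstance, fun t => t.1, fun t => e t.1, fun t => he t.1 t.2, fun q x hq hx => ?_⟩
  have hxs : x ∈ Submodule.span A (T : Set M) := hspan ▸ Submodule.subset_span (Set.mem_biUnion hq hx)
  rw [← decompose_of_mem_same ℳ hx]
  clear hx hq
  induction hxs using Submodule.span_induction generalizing q with
  | mem t ht =>
    by_cases h : e t = q
    · subst h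
      rw [decompose_of_mem_same ℳ (he t ht)]
      exact AddSubgroup.subset_closure ⟨⟨t, ht⟩, 0, 1, SetLike.GradedOne.one_mem, zero_add _, (one_smul _ _).symm⟩
    · rw [decompose_of_mem_ne ℳ (he t ht) h]
      exact zero_mem _
  | zero => simp
  | add y z _ _ hy hz => simpa [decompose_add] using add_mem (hy q) (hz q)
  | smul c y hym hy =>
    clear hym
    induction c using DirectSum.Decomposition.inductionOn (ℳ := 𝒜) with
    | zero => simp
    | @homogeneous p c =>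
      by_cases hpq : p ≤ q
      · obtain ⟨r, rfl⟩ := Nat.exists_eq_add_of_le hpq
        rw [decompose_homogeneous_smul c.2]
        have h := hy r
        generalize ((decompose ℳ y r : ℳ r) : M) = w at h ⊢
        induction h using AddSubgroup.closure_induction with
        | mem z hz =>
          obtain ⟨t, p', a, ha, rfl, rfl⟩ := hz
          exact AddSubgroup.subset_closure
            ⟨t, p + p', c * a, SetLike.mul_mem_graded c.2 ha, add_assoc _ _ _, (mul_smul _ _ _).symm⟩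
        | zero => simp
        | add z w _ _ hz hw => rw [smul_add]; exact add_mem hz hw
        | neg z _ hz => rw [smul_neg]; exact neg_mem hz
      · clear hy
        suffices h : (decompose ℳ ((c : A) • y) q : M) = 0 by rw [h]; exact zero_mem _
        induction y using DirectSum.Decomposition.inductionOn (ℳ := ℳ) with
        | zero => simp
        | @homogeneous r y =>
          exact decompose_of_mem_ne ℳ (SetLike.GradedSMul.smul_mem c.2 y.2) (show p + r ≠ q by omega)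
        | add y z hy hz => simp [decompose_add, smul_add, hy, hz]
    | add c c' hc hc' => simpa [decompose_add, add_smul] using add_mem hc hc'

end algebra

section sheaf

variable {A σ : Type u} [CommRing A] [SetLike σ A] [AddSubgroupClass σ A] {𝒜 : ℕ → σ} [GradedRing 𝒜]
  {M τ : Type u} [AddCommGroup M] [Module A M] [SetLike τ M] [AddSubgroupClass τ M] {ℳ : ℕ → τ}
  [DirectSum.Decomposition ℳ] [SetLike.GradedSMul 𝒜 ℳ]

/-- A section of the structure sheaf given by one fraction. -/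
def fracFun (V : Opens (ProjectiveSpectrum.top 𝒜)) {i : ℕ} (a s : 𝒜 i)
    (nin : ∀ x : V, s.1 ∉ x.1.asHomogeneousIdeal.toIdeal) : GrTwist.O (𝒜 := 𝒜) (op V) :=
  ⟨fun x => HomogeneousLocalization.mk ⟨i, a, s, nin x⟩,
   fun x => ⟨V, x.2, 𝟙 _, i, a, s, fun y => nin y, fun _ => rfl⟩⟩

theorem fracFun_val (V : Opens (ProjectiveSpectrum.top 𝒜)) {i : ℕ} (a s : 𝒜 i)
    (nin : ∀ x : V, s.1 ∉ x.1.asHomogeneousIdeal.toIdeal) (x : V) :
    ((fracFun V a s nin).1 x).val = Localization.mk a.1 ⟨s.1, nin x⟩ := HomogeneousLocalization.val_mk _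

/-- With finitely generated `A₊` and tail, `M(n)~` has finitely many generators on each `D₊(f)`. -/
theorem exists_genOn_basicOpen (hfg : (HomogeneousIdeal.irrelevant 𝒜).toIdeal.FG) {n₀ : ℕ}
    (hTF : (Submodule.span A (⋃ k ∈ Set.Ici n₀, (ℳ k : Set M))).FG) (n : ℤ) {d : ℕ} (hd : 0 < d) {f : A}
    (hf : f ∈ 𝒜 d) :
    ∃ (I : Type u) (_ : Fintype I) (g : I → Γ(GrMod.tilde 𝒜 ℳ n, Proj.basicOpen 𝒜 f)),
      GenOn (GrMod.tilde 𝒜 ℳ n) (Proj.basicOpen 𝒜 f) g := by
  classical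
  obtain ⟨I₁, _, γ, e, hγ, hA⟩ := exists_multipliers hfg hd
  obtain ⟨J, _, m, e', hm, hM⟩ := exists_tail_gens (𝒜 := 𝒜) hTF
  let L := n.natAbs
  let κ := {ij : I₁ × J // (d : ℤ) ∣ (e ij.1 : ℤ) + e' ij.2 - n}
  let k : κ → ℕ := fun ij => (((e ij.1.1 : ℤ) + e' ij.1.2 - n) / d + L).toNat
  have hLd : (n.natAbs : ℤ) ≤ (L : ℤ) * d := by
    have := Nat.le_mul_of_pos_right L hd
    exact_mod_cast this
  have hk : ∀ ij : κ, (k ij : ℤ) * d = (e ij.1.1 : ℤ) + e' ij.1.2 - n + L * d := fun ij => by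
    obtain ⟨c, hc⟩ := ij.2
    have hd' : (d : ℤ) ≠ 0 := by exact_mod_cast hd.ne'
    show ((((e ij.1.1 : ℤ) + e' ij.1.2 - n) / d + L).toNat : ℤ) * d = _
    rw [hc, Int.mul_ediv_cancel_left _ hd', Int.toNat_of_nonneg]
    · ring
    · have h1 : (0 : ℤ) ≤ (c + L) * d := by
        rw [add_mul, mul_comm c, ← hc]
        omega
      exact le_of_mul_le_mul_right (by rw [zero_mul]; exact h1) (by exact_mod_cast hd)
  refine ⟨κ, inferInstance, fun ij => (fracSect (n := n) _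
    (⟨f ^ L • γ ij.1.1 • m ij.1.2, SetLike.GradedSMul.smul_mem (pow_mem_deg hf L)
      (SetLike.GradedSMul.smul_mem (hγ _) (hm _))⟩ : ℳ (L * d + (e ij.1.1 + e' ij.1.2)))
    ⟨f ^ k ij, pow_mem_deg hf _⟩ (fun x => pow_notMem x.2 _) (by
      have := hk ij
      push_cast
      linarith) : GrMod.sect 𝒜 ℳ n (op (Proj.basicOpen 𝒜 f))), fun W hW a y hy => ?_⟩
  obtain ⟨V, hyV, iV, i, j, x, s, nin, hdeg, hv⟩ := (a : GrMod.sect 𝒜 ℳ n (op W)).2 ⟨y, hy⟩
  rcases hdeg with hdeg | hx0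
  swap
  · refine ⟨V, leOfHom iV, hyV, 0, ?_⟩
    simp only [Pi.zero_apply, zero_smul, Finset.sum_const_zero]
    refine sect_ext fun z => (hv z).trans ?_
    rw [show x.1 = 0 from hx0]
    exact (LocalizedModule.zero_mk _).trans rfl
  obtain ⟨d', rfl⟩ : ∃ d', d = d' + 1 := ⟨d - 1, by omega⟩
  let N := n₀ + n.natAbs
  let D := (d' + 1) * (j + N)
  let q := d' * j + N * (d' + 1) + i
  have hDq : (q : ℤ) = D + n := by
    simp only [q, D]
    push_cast
    change (i : ℤ) = j + n at hdeg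
    linear_combination hdeg
  have hq : n₀ ≤ q := (Nat.le_add_right n₀ n.natAbs).trans ((Nat.le_mul_of_pos_right N (Nat.succ_pos d')).trans
    ((Nat.le_add_left _ (d' * j)).trans (Nat.le_add_right _ i)))
  have hnum : (s.1 ^ d' * f ^ N) • x.1 ∈ ℳ q :=
    SetLike.GradedSMul.smul_mem (SetLike.mul_mem_graded (by simpa [mul_comm] using pow_mem_deg s.2 d')
      (pow_mem_deg hf N)) x.2
  have hden : s.1 ^ (d' + 1) * f ^ N ∈ 𝒜 D := by
    have h := SetLike.mul_mem_graded (pow_mem_deg s.2 (d' + 1)) (pow_mem_deg hf N)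
    have heq : (d' + 1) * j + N * (d' + 1) = D := by simp only [D]; ring
    rwa [heq] at h
  have hnin : ∀ z : V, s.1 ^ (d' + 1) * f ^ N ∉ z.1.asHomogeneousIdeal.toIdeal := fun z h =>
    (z.1.isPrime.mem_or_mem h).elim (pow_notMem (nin z) _) (pow_notMem (hW (leOfHom iV z.2)) _)
  have hVf : V ≤ Proj.basicOpen 𝒜 f := (leOfHom iV).trans hW
  let G : κ → Γ(GrMod.tilde 𝒜 ℳ n, V) := fun ij => resM _ hVf (fracSect (n := n) _
    (⟨f ^ L • γ ij.1.1 • m ij.1.2, SetLike.GradedSMul.smul_mem (pow_mem_deg hf L)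
      (SetLike.GradedSMul.smul_mem (hγ _) (hm _))⟩ : ℳ (L * (d' + 1) + (e ij.1.1 + e' ij.1.2)))
    ⟨f ^ k ij, pow_mem_deg hf _⟩ (fun x => pow_notMem x.2 _) (by
      have := hk ij
      push_cast at this ⊢
      linarith) : GrMod.sect 𝒜 ℳ n (op (Proj.basicOpen 𝒜 f)))
  let Q : M → Prop := fun w => ∃ z ∈ Submodule.span Γ(Proj 𝒜, V) (Set.range G), ∀ t : V,
    GrMod.val (V := V) z t = LocalizedModule.mk w ⟨s.1 ^ (d' + 1) * f ^ N, hnin t⟩
  have hQ0 : Q 0 := ⟨0, zero_mem _, fun t => Eq.trans rfl (LocalizedModule.zero_mk _).symm⟩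
  have hQadd : ∀ w w', Q w → Q w' → Q (w + w') := by
    rintro w w' ⟨z, hz, hzv⟩ ⟨z', hz', hzv'⟩
    refine ⟨z + z', add_mem hz hz', fun t => ?_⟩
    refine (congrArg₂ (· + ·) (hzv t) (hzv' t)).trans ?_
    rw [LocalizedModule.mk_add_mk]
    refine LocalizedModule.mk_eq.mpr ⟨1, ?_⟩
    simp only [Submonoid.smul_def, Submonoid.coe_mul, Submonoid.coe_one, smul_add, smul_smul]
  have hQneg : ∀ w, Q w → Q (-w) := by
    rintro w ⟨z, hz, hzv⟩
    refine ⟨-z, neg_mem hz, fun t => ?_⟩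
    exact (congrArg Neg.neg (hzv t)).trans (LocalizedModule.mk_neg).symm
  have hgenQ : ∀ (i₁ : I₁) (j₁ : J) (p : ℕ) (b : A), b ∈ 𝒜 p → d' + 1 ∣ p → p + e i₁ + e' j₁ = q →
      Q ((b * γ i₁) • m j₁) := by
    intro i₁ j₁ p b hb hp hpq
    have hdvd : ((d' + 1 : ℕ) : ℤ) ∣ (e i₁ : ℤ) + e' j₁ - n := by
      have h : (e i₁ : ℤ) + e' j₁ - n = (D : ℤ) - p := by
        have : ((p + e i₁ + e' j₁ : ℕ) : ℤ) = q := congrArg _ hpq
        push_cast at this
        linarith
      rw [h]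
      exact dvd_sub (Int.natCast_dvd_natCast.2 (dvd_mul_right _ _)) (Int.natCast_dvd_natCast.2 hp)
    let ij : κ := ⟨(i₁, j₁), hdvd⟩
    have hdeg' : p + k ij * (d' + 1) = D + L * (d' + 1) := by
      have h1 := hk ij
      have h2 : ((p + e i₁ + e' j₁ : ℕ) : ℤ) = q := congrArg _ hpq
      zify
      push_cast at h1 h2 ⊢
      linarith
    let c := fracFun V (⟨b * f ^ k ij, hdeg' ▸ SetLike.mul_mem_graded hb (pow_mem_deg hf _)⟩ : 𝒜 (D + L * (d' + 1)))
      ⟨s.1 ^ (d' + 1) * f ^ N * f ^ L, SetLike.mul_mem_graded hden (pow_mem_deg hf L)⟩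
      (fun z h => (z.1.isPrime.mem_or_mem h).elim (hnin z) (pow_notMem (hVf z.2) L))
    refine ⟨(show Γ(Proj 𝒜, V) from c) • G ij, Submodule.smul_mem _ _ (Submodule.subset_span ⟨ij, rfl⟩), fun t => ?_⟩
    refine (GrMod.coe_smul_val n t.1 _ _).trans ?_
    refine (congrArg (· • _) (fracFun_val V _ _ _ t)).trans ?_
    refine (LocalizedModule.mk_smul_mk _ _ _ _).trans (LocalizedModule.mk_eq.mpr ⟨1, ?_⟩)
    simp only [Submonoid.smul_def, Submonoid.coe_mul, Submonoid.coe_one, one_smul, smul_smul]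
    refine congrArg (· • m j₁) ?_
    show _ = _
    ring
  have hQnum : Q ((s.1 ^ d' * f ^ N) • x.1) := by
    have h := hM q _ hq hnum
    generalize (s.1 ^ d' * f ^ N) • x.1 = w at h ⊢
    induction h using AddSubgroup.closure_induction with
    | mem w hw =>
      obtain ⟨j₁, p₁, a₁, ha₁, hp₁, rfl⟩ := hw
      have h := hA p₁ a₁ ha₁
      clear ha₁
      induction h using AddSubgroup.closure_induction with
      | mem u hu =>
        obtain ⟨i₁, p, b, hb, hp, hpe, rfl⟩ := hu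
        exact hgenQ i₁ j₁ p b hb hp (by omega)
      | zero => rw [zero_smul]; exact hQ0
      | add u u' _ _ hu hu' => rw [add_smul]; exact hQadd _ _ hu hu'
      | neg u _ hu => rw [neg_smul]; exact hQneg _ hu
    | zero => exact hQ0
    | add w w' _ _ hw hw' => exact hQadd _ _ hw hw'
    | neg w _ hw => exact hQneg _ hw
  obtain ⟨z, hz, hzv⟩ := hQnum
  obtain ⟨c, hc⟩ := (Submodule.mem_span_range_iff_exists_fun Γ(Proj 𝒜, V)).1 hz
  refine ⟨V, leOfHom iV, hyV, c, ?_⟩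
  refine Eq.trans ?_ hc.symm
  refine sect_ext fun t => Eq.trans ?_ (hzv t).symm
  refine (hv t).trans (LocalizedModule.mk_eq.mpr ⟨1, ?_⟩)
  simp only [Submonoid.smul_def, Submonoid.coe_one, one_smul, smul_smul]
  refine congrArg (· • x.1) ?_
  show _ = _
  ring

/-- With finitely generated `A₊` and tail, `M(n)~` is of finite type. -/
theorem isFT_tilde (hfg : (HomogeneousIdeal.irrelevant 𝒜).toIdeal.FG) {n₀ : ℕ}
    (hTF : (Submodule.span A (⋃ k ∈ Set.Ici n₀, (ℳ k : Set M))).FG) (n : ℤ) :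
    CohB1.IsFT (GrMod.tilde 𝒜 ℳ n) := by
  refine isFT_of_locallyFinGen fun x => ?_
  obtain ⟨d, f, hd, hf, hfx⟩ := exists_pos_homogeneous_notMem 𝒜 x
  obtain ⟨I, hI, g, hg⟩ := exists_genOn_basicOpen hfg hTF n hd hf
  exact ⟨_, I, hI, g, hfx, hg⟩

/-- If `M~ = 0` and degree one elements generate, the large degree pieces vanish. -/
theorem exists_bound_of_zero {s : Finset A} (hs1 : ∀ g ∈ s, g ∈ 𝒜 1)
    (hs : (HomogeneousIdeal.irrelevant 𝒜).toIdeal = Ideal.span (s : Set A)) {n₀ : ℕ}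
    (hTF : (Submodule.span A (⋃ k ∈ Set.Ici n₀, (ℳ k : Set M))).FG)
    (hzero : ∀ (V : (Proj 𝒜).Opens) (z : Γ(GrMod.tilde 𝒜 ℳ 0, V)), z = 0) :
    ∃ K : ℕ, ∀ k, K ≤ k → ∀ x ∈ ℳ k, x = 0 := by
  classical
  obtain ⟨J, _, m, e, hm, hM⟩ := exists_tail_gens (𝒜 := 𝒜) hTF
  have hrad : ∀ j, ∃ K, Ideal.span (s : Set A) ^ K ≤ LinearMap.ker (LinearMap.toSpanSingleton A M (m j)) := fun j => by
    refine Ideal.exists_pow_le_of_le_radical_of_fg (Ideal.span_le.2 fun g hg => ?_) ⟨s, rfl⟩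
    obtain ⟨N, hN⟩ := exists_pow_smul_eq_zero_of_frac one_pos (hs1 g hg) (k := e j) (hm j) fun z => by
      exact congrArg (fun q : GrMod.sect 𝒜 ℳ 0 (op (ProjectiveSpectrum.basicOpen 𝒜 g)) => (q.1 z).1)
        (hzero (Proj.basicOpen 𝒜 g) (fracSect (n := 0) _ (⟨m j, hm j⟩ : ℳ (e j))
          ⟨g ^ e j, pow_mem_deg (hs1 g hg) _⟩ (fun x => pow_notMem x.2 _) (by simp) :
            GrMod.sect 𝒜 ℳ 0 (op (ProjectiveSpectrum.basicOpen 𝒜 g))))
    exact ⟨N, LinearMap.mem_ker.2 hN⟩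
  choose K hK using hrad
  refine ⟨n₀ + Finset.univ.sum fun j => e j + K j, fun k hk x hx => ?_⟩
  have h := hM k x (by omega) hx
  clear hx
  induction h using AddSubgroup.closure_induction with
  | mem y hy =>
    obtain ⟨j, p, a, ha, hp, rfl⟩ := hy
    refine LinearMap.mem_ker.1 (hK j ?_)
    have hj : e j + K j ≤ Finset.univ.sum fun j => e j + K j :=
      Finset.single_le_sum (f := fun j => e j + K j) (fun _ _ => Nat.zero_le _) (Finset.mem_univ j)
    exact Ideal.pow_le_pow_right (show K j ≤ p by omega)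
      (mem_span_pow_of_deg hs1 (adjoin_eq_top_of_irrelevant_le_span 𝒜 (fun g hg => ⟨1, one_pos, hs1 g hg⟩) hs.le) ha)
  | zero => rfl
  | add y z _ _ hy hz => rw [hy, hz, add_zero]
  | neg y _ hy => rw [hy, neg_zero]

end sheaf

end Groth.Agent.TwistLib.G
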