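import Groth.Agent.TwistLib.G.BaseChangeDeg15
import Groth.Agent.TwistLib.G.TwistTilde
import Groth.Agent.Coherent.PullUnit
import Groth.Agent.CohExch.IsoCrit

/-!
# `A(n)~` on `Proj` commutes with base change of the base ring
-/

set_option autoImplicit false
set_option linter.unusedSectionVars false
set_option backward.isDefEq.respectTransparency.types false
set_option maxHeartbeats 800000

universe u

open DirectSum AlgebraicGeometry CategoryTheory TopologicalSpace Opposite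
open Groth.Agent.ProjLib Groth.Agent.Coherent Groth.Agent.PicLib
open scoped HomogeneousIdeal

namespace Groth.Agent.TwistLib.G

variable {R R' A B σ σ' : Type u} [CommRing R] [CommRing R'] [CommRing A] [CommRing B]
  [SetLike σ A] [AddSubgroupClass σ A] {𝒜 : ℕ → σ} [GradedRing 𝒜]
  [SetLike σ' B] [AddSubgroupClass σ' B] {ℬ : ℕ → σ'} [GradedRing ℬ]
  [Algebra R R'] [Algebra R A] [Algebra R' B] [Algebra A B] [Algebra R B] [IsScalarTower R R' B]
  [IsScalarTower R A B] [Algebra.IsPushout R R' A B]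
  (ψ : 𝒜 →+*ᵍ ℬ) (hψ : ℬ₊ ≤ (𝒜₊).map ψ) (hψA : ∀ a, ψ a = algebraMap A B a)
  (hA0 : ∀ r : R, algebraMap R A r ∈ 𝒜 0) (hB0 : ∀ r : R', algebraMap R' B r ∈ ℬ 0) (n : ℤ)

include hψA hA0 hB0 in
/-- `Φ^* A(n)~ = B(n)~` for `B = A ⊗_R R'`. -/
theorem nonempty_pullback_tilde_iso :
    Nonempty ((Scheme.Modules.pullback (Proj.map ψ hψ)).obj (GrMod.tilde 𝒜 𝒜 n) ≅ GrMod.tilde ℬ ℬ n) := by
  let v : A →ₛₗ[ψ.toRingHom] B := { toFun := ψ, map_add' := map_add ψ, map_smul' := map_mul ψ }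
  let hv : ∀ (i : ℕ) (m : A), m ∈ 𝒜 i → v m ∈ ℬ i := fun _ _ hm => ψ.map_mem hm
  let Φ := Proj.map ψ hψ
  let θ := GrMod.comap ψ hψ v hv n
  let ν := ((Scheme.Modules.pullbackPushforwardAdjunction Φ).homEquiv _ _).symm θ
  have : Coh.IsQCoh (GrMod.tilde 𝒜 𝒜 n) := isQCoh_tilde 𝒜 n
  have : Coh.IsQCoh (GrMod.tilde ℬ ℬ n) := isQCoh_tilde ℬ n
  have := EGA43.InjFibre.isQCoh_pullback Φ (GrMod.tilde 𝒜 𝒜 n)
  suffices IsIso ν from ⟨asIso ν⟩
  have hbase := (inferInstance : Algebra.IsPushout R R' A B).out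
  have hspan : ∀ x : B,
      x ∈ AddSubmonoid.closure (Set.range fun q : R' × A => algebraMap R' B q.1 * ψ q.2) := fun x => by
    obtain ⟨t, rfl⟩ := hbase.equiv.surjective x
    induction t using TensorProduct.induction_on with
    | zero => rw [map_zero]; exact zero_mem _
    | tmul r a =>
      rw [IsBaseChange.equiv_tmul, Algebra.smul_def]
      exact AddSubmonoid.subset_closure ⟨(r, a), congrArg (_ * ·) (hψA a)⟩
    | add a b ha hb => rw [map_add]; exact add_mem ha hb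
  have hsq : ∀ r, ψ (algebraMap R A r) = algebraMap R' B (algebraMap R R' r) := fun r => by
    rw [hψA, ← IsScalarTower.algebraMap_apply, ← IsScalarTower.algebraMap_apply]
  refine CohExch.isIso_of_bijective_affine_cover ν fun x => ?_
  obtain ⟨d, f, hd, hf, hfx⟩ := exists_pos_homogeneous_notMem 𝒜 (ProjectiveSpectrum.comap ψ hψ x)
  let Df := Proj.basicOpen 𝒜 f
  let Dg := Proj.basicOpen ℬ (ψ f)
  have hDf : IsAffineOpen Df := Proj.isAffineOpen_basicOpen _ f hf hd
  have hDg : IsAffineOpen Dg := Proj.isAffineOpen_basicOpen _ (ψ f) (ψ.map_mem hf) hd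
  refine ⟨Dg, hDg, hfx, ?_⟩
  have hle : Dg ≤ Φ ⁻¹ᵁ Df := le_rfl
  let P := (Scheme.Modules.pullback Φ).obj (GrMod.tilde 𝒜 𝒜 n)
  let μ : Γ(GrMod.tilde 𝒜 𝒜 n, Df) →+ Γ(P, Dg) := (resM P hle).comp
    (((Scheme.Modules.pullbackPushforwardAdjunction Φ).unit.app _).app Df).hom
  have hμl : ∀ c s, μ (c • s) = Φ.appLE Df Dg hle c • μ s := fun c s => by
    show resM P hle (pullSec Φ (c • s)) = _
    rw [pullSec_smul]
    exact resM_smul P hle _ _
  let νV : Γ(P, Dg) →+ Γ(GrMod.tilde ℬ ℬ n, Dg) := (ν.app Dg).hom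
  have hνl : ∀ c q, νV (c • q) = c • νV q := fun c q => Scheme.Modules.Hom.app_smul ν c q
  have hkey : ∀ s, νV (μ s) = comapD ψ hψ v hv n s := fun s => by
    show ν.app Dg (resM P hle (pullSec Φ s)) = _
    rw [app_resM ν, homEquiv_symm_app_pullSec]
    exact sect_ext fun y => rfl
  obtain ⟨β, hβl, hβ⟩ := comapD_lift ψ hψ v hv hd hf n (algebraMap R R') (algebraMap R A) (algebraMap R' B)
    hA0 hB0 hsq hspan hspan (fun Q _ _ w' hw' => by
      let _ : Module R Q := Module.compHom Q (algebraMap R R')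
      have : IsScalarTower R R' Q := .of_algebraMap_smul fun _ _ => rfl
      let wl : A →ₗ[R] Q :=
        { toFun := w', map_add' := map_add w'
          map_smul' := fun r m => (congrArg w' (Algebra.smul_def r m)).trans (hw' r m) }
      exact ⟨(hbase.lift wl).toAddMonoidHom,
        fun r y => (congrArg (hbase.lift wl) (Algebra.smul_def r y).symm).trans (map_smul (hbase.lift wl) r y),
        fun m => (congrArg (hbase.lift wl) (hψA m)).trans (hbase.lift_eq wl m)⟩) Γ(P, Dg) μ hμl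
  have hgen : ∀ q, β (νV q) = q := by
    let _ := (Φ.appLE Df Dg hle).hom.toAlgebra
    let _ : Module Γ(Proj 𝒜, Df) Γ(P, Dg) := Module.compHom _ (Φ.appLE Df Dg hle).hom
    have : IsScalarTower Γ(Proj 𝒜, Df) Γ(Proj ℬ, Dg) Γ(P, Dg) := .of_algebraMap_smul fun _ _ => rfl
    obtain ⟨μ', hμ', hμe⟩ := EGA43.InjFibre.pullMap_isBaseChange Φ hDf hDg hle (GrMod.tilde 𝒜 𝒜 n)
    intro q
    induction q using hμ'.inductionOn with
    | zero => rw [map_zero, map_zero]
    | tmul s =>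
      have e : μ' s = μ s := (hμe s).trans (pullMap_eq_resM_pullSec Φ _ _ hle _ s)
      rw [e, hkey, hβ]
    | smul r q hq => rw [hνl, hβl, hq]
    | add a b ha hb => rw [map_add, map_add, ha, hb]
  refine ⟨fun a b e => (hgen a).symm.trans ((congrArg β e).trans (hgen b)), fun t => ?_⟩
  have ht := comapD_span ψ hψ v hv hd hf n (algebraMap R' B) hB0 hspan t
  induction ht using AddSubmonoid.closure_induction with
  | mem t ht =>
    obtain ⟨⟨c, s⟩, rfl⟩ := ht
    refine ⟨c • μ s, ?_⟩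
    show νV (c • μ s) = _
    rw [hνl, hkey]
  | zero => exact ⟨0, map_zero νV⟩
  | add a b _ _ ha hb =>
    obtain ⟨a, rfl⟩ := ha
    obtain ⟨b, rfl⟩ := hb
    exact ⟨a + b, map_add νV a b⟩

end Groth.Agent.TwistLib.G
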