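import Groth.Agent.TwistLib.G.RelMul

/-!
# Isomorphisms from the multiplication maps
-/

set_option autoImplicit false
set_option linter.unusedSectionVars false
set_option backward.isDefEq.respectTransparency.types false
set_option maxHeartbeats 400000

universe u

open DirectSum AlgebraicGeometry CategoryTheory TopologicalSpace Opposite
open Groth.Agent.ProjLib Groth.Agent.Coherent Groth.Agent.PicLib Groth.Agent.AmpleLib
open scoped HomogeneousIdeal

namespace Groth.Agent.TwistLib.G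

/-- The image of a generator under a locally bijective map. -/
theorem isGen_app_of_bijective {X : Scheme.{u}} {M N : X.Modules} (φ : M ⟶ N) {O : X.Opens}
    (hφ : ∀ V : X.Opens, V ≤ O → Function.Bijective (φ.app V)) {s : Γ(M, O)} (hs : IsGen M O s) :
    IsGen N O (φ.app O s) := fun V hV => by
  have h : ∀ r : Γ(X, V), r • resM N hV (φ.app O s) = φ.app V (r • resM M hV s) := fun r => by
    rw [Scheme.Modules.Hom.app_smul, app_resM]
  rw [funext h]
  exact (hφ V hV).comp (hs V hV)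

/-- A map sending generators to generators is an isomorphism. -/
theorem isIso_of_gen_to_gen {X : Scheme.{u}} {M N : X.Modules} (φ : M ⟶ N) {ι : Type u} (W : ι → X.Opens)
    (hcov : ∀ x : X, ∃ i, x ∈ W i) (g : ∀ i, Γ(M, W i)) (hg : ∀ i, IsGen M (W i) (g i))
    (hg' : ∀ i, IsGen N (W i) (φ.app (W i) (g i))) : IsIso φ := by
  refine isIso_of_bijective_on φ W hcov fun i V hV => ?_
  have h : ∀ r : Γ(X, V), φ.app V (r • resM M hV (g i)) = r • resM N hV (φ.app (W i) (g i)) := fun r => by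
    rw [Scheme.Modules.Hom.app_smul, app_resM]
  refine (Function.Bijective.of_comp_iff (φ.app V) (hg i V hV)).1 ?_
  show Function.Bijective fun r : Γ(X, V) => φ.app V (r • resM M hV (g i))
  rw [funext h]
  exact hg' i V hV

variable {Y P : Scheme.{u}} {𝒮 : RelProj.QCGrAlg Y} {p : P ⟶ Y}
  {chart : ∀ (U : Y.Opens) (hU : IsAffineOpen U), (((p ⁻¹ᵁ U : P.Opens) : Scheme.{u}) ≅ Proj (𝒮.deg U hU))}

/-- `(ℳ(a))~ ⊗ O_P(b) ≅ (ℳ(a + b))~` when `𝒮` is generated in degree one. -/
theorem nonempty_mulIso (hgen : 𝒮.IsGenDegOne) (hP : RelProj.IsRelProj 𝒮 p chart) {ℳ : RelProj.GrModule 𝒮}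
    (hℳ : IsLocalGrModule ℳ) {a b r : ℤ} (hab : a + b = r) {F L F' : P.Modules}
    (lamF : ∀ (U : Y.Opens) (hU : IsAffineOpen U), F ⟶ chartMod p chart ℳ a U hU)
    (hF : RelProj.IsRelTilde 𝒮 p chart ℳ a F lamF)
    (lamL : ∀ (U : Y.Opens) (hU : IsAffineOpen U),
      L ⟶ (Scheme.Modules.pushforward (RelProj.emb p chart U hU)).obj (GrTwist.twist (𝒮.deg U hU) b))
    (hL : RelProj.IsRelTwist 𝒮 p chart b L lamL)
    (lam' : ∀ (U : Y.Opens) (hU : IsAffineOpen U), F' ⟶ chartMod p chart ℳ r U hU)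
    (hF' : RelProj.IsRelTilde 𝒮 p chart ℳ r F' lam') :
    Nonempty (CohB1.tensorMod F L ≅ F') := by
  obtain ⟨φ, hφ⟩ := exists_mulMap hP hℳ hab lamF hF lamL hL lam' hF'
  choose U hU g O hg hxO hO hOg using fun x : P => exists_chart_basicOpen_one (p := p) (chart := chart) hgen x
  have : IsIso φ := isIso_of_bijective_on φ O (fun x => ⟨x, hxO x⟩)
    fun x V hV => hφ (U x) (hU x) 1 (g x) (hg x) b (by simp) (O x) (hO x) (hOg x) V hV
  exact ⟨asIso φ⟩

/-- `O_P(0)` has a generator on everything. -/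
theorem exists_isGen_top (hP : RelProj.IsRelProj 𝒮 p chart) {L : P.Modules}
    {lam : ∀ (U : Y.Opens) (hU : IsAffineOpen U),
      L ⟶ (Scheme.Modules.pushforward (RelProj.emb p chart U hU)).obj (GrTwist.twist (𝒮.deg U hU) 0)}
    (hL : RelProj.IsRelTwist 𝒮 p chart 0 L lam) : ∃ s : Γ(L, ⊤), IsGen L ⊤ s :=
  exists_isGen_glued hP (d := 0) (m := 0) (by simp) hL (fun _ => 1)
    (fun U hU => SetLike.GradedOne.one_mem) (fun U D hU hD h => map_one _)
    fun U hU => (Proj.basicOpen_one _).symm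

/-- `O_P(-n)` is inverse to `O_P(n)` on opens of period dividing `n`. -/
theorem nonempty_restrict_tensor_iso (hP : RelProj.IsRelProj 𝒮 p chart) {U : P.Opens} {d : ℕ}
    (hd : IsPeriod 𝒮 p chart U d) {n : ℤ} (hn : (d : ℤ) ∣ n) {L L' : P.Modules}
    (lam : ∀ (V : Y.Opens) (hV : IsAffineOpen V),
      L ⟶ (Scheme.Modules.pushforward (RelProj.emb p chart V hV)).obj (GrTwist.twist (𝒮.deg V hV) n))
    (hL : RelProj.IsRelTwist 𝒮 p chart n L lam)
    (lam' : ∀ (V : Y.Opens) (hV : IsAffineOpen V),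
      L' ⟶ (Scheme.Modules.pushforward (RelProj.emb p chart V hV)).obj (GrTwist.twist (𝒮.deg V hV) (-n)))
    (hL' : RelProj.IsRelTwist 𝒮 p chart (-n) L' lam') :
    Nonempty (CohB1.tensorMod (L.restrict U.ι) (L'.restrict U.ι) ≅ Coh.structureModule (U : Scheme.{u})) := by
  obtain ⟨L₀, lam₀, hL₀⟩ := exists_isRelTwist (n := (0 : ℤ)) hP
  obtain ⟨φ, hφ⟩ := exists_mulMap (a := n) (b := -n) (r := 0) hP (isLocalGrModule_self 𝒮) (by omega) _
    (isRelTilde_of_isRelTwist hL) lam' hL' _ (isRelTilde_of_isRelTwist hL₀)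
  let ψ : CohB1.tensorMod (L.restrict U.ι) (L'.restrict U.ι) ⟶ L₀.restrict U.ι :=
    restrictTensorHom U.ι L L' ≫ (Scheme.Modules.restrictFunctor U.ι).map φ
  have key : ∀ y : U, ∃ (W : (U : Scheme.{u}).Opens) (g : Γ(CohB1.tensorMod (L.restrict U.ι) (L'.restrict U.ι), W)),
      y ∈ W ∧ IsGen _ W g ∧ IsGen _ W (ψ.app W g) := by
    intro y
    obtain ⟨V, hV, e, g, O, he, hg, hyO, hO, hOg⟩ := hd y.1 y.2
    obtain ⟨m, hm⟩ := (Int.natCast_dvd_natCast.2 he).trans hn
    have hm' : n = m * e := hm.trans (mul_comm _ _)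
    have hm'' : -n = (-m) * e := by rw [hm']; ring
    obtain ⟨s, hs⟩ := exists_isGen_image hL hV hg hm' hO hOg
    obtain ⟨t, ht⟩ := exists_isGen_image hL' hV hg hm'' hO hOg
    have hst := isGen_app_of_bijective φ (hφ V hV e g hg (-m) hm'' O hO hOg) (isGen_tmul hs ht)
    let W : (U : Scheme.{u}).Opens := U.ι ⁻¹ᵁ O
    refine ⟨W, _, hyO, isGen_tmul (isGen_restrict_open U hs) (isGen_restrict_open U ht), ?_⟩
    have he' : ψ.app W (tmul ((L.restrictAppIso U.ι W).inv (resM L (U.ι.image_preimage_le O) s))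
        ((L'.restrictAppIso U.ι W).inv (resM L' (U.ι.image_preimage_le O) t))) =
        (L₀.restrictAppIso U.ι W).inv (resM L₀ (U.ι.image_preimage_le O) (φ.app O (tmul s t))) := by
      refine (congrArg (fun z => ((Scheme.Modules.restrictFunctor U.ι).map φ).app W z)
        (restrictTensorHom_tmul U.ι L L' W _ _)).trans ?_
      rw [← ConcreteCategory.comp_apply _ (L.restrictAppIso U.ι W).hom,
        ← ConcreteCategory.comp_apply _ (L'.restrictAppIso U.ι W).hom, Iso.inv_hom_id, Iso.inv_hom_id,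
        ← app_resM φ, resM_tmul]
      rfl
    rw [he']
    exact isGen_restrict_open U hst
  choose W g hy hg hg' using key
  have : IsIso ψ := isIso_of_gen_to_gen ψ W (fun y => ⟨y, hy y⟩) g hg hg'
  obtain ⟨s, hs⟩ := exists_isGen_top hP hL₀
  obtain ⟨e⟩ := nonempty_restrict_iso (hs.restrict (le_top : U ≤ ⊤))
  exact ⟨asIso ψ ≪≫ e⟩

end Groth.Agent.TwistLib.G
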