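import Groth.Agent.TwistLib.G.TF
import Groth.Agent.TwistLib.G.RelMap
import Groth.Agent.RelConeLib.RetrFibre

/-!
# (TF) modules on a relative Proj
-/

set_option autoImplicit false
set_option linter.unusedSectionVars false
set_option backward.isDefEq.respectTransparency.types false
set_option maxHeartbeats 400000

universe u

open DirectSum AlgebraicGeometry CategoryTheory TopologicalSpace Opposite
open Groth.Agent.ProjLib Groth.Agent.Coherent Groth.Agent.PicLib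
open scoped HomogeneousIdeal

namespace Groth.Agent.TwistLib.G

/-- Generators seen through an identification over an open immersion are generators. -/
theorem genOn_of_bijective_app {X Z : Scheme.{u}} (e : Z ⟶ X) [IsOpenImmersion e] {L : X.Modules} {N : Z.Modules}
    (φ : L ⟶ (Scheme.Modules.pushforward e).obj N)
    (hφ : ∀ V : X.Opens, V ≤ e.opensRange → Function.Bijective (φ.app V)) {O : X.Opens} (hO : O ≤ e.opensRange)
    {I : Type u} [Fintype I] {s : I → Γ(L, O)}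
    (hs : GenOn N (e ⁻¹ᵁ O) (fun i => φ.app O (s i))) : GenOn L O s := by
  intro W hW a y hy
  obtain ⟨z, rfl⟩ := hO (hW hy)
  obtain ⟨W'', hW'', hzW'', c, hc⟩ := hs (e ⁻¹ᵁ W) (e.preimage_mono hW) (φ.app W a) z hy
  let W' : X.Opens := e ''ᵁ W''
  have hW' : W' ≤ W := (e.image_mono hW'').trans (e.image_preimage_le W)
  have hW'r : W' ≤ e.opensRange := e.image_le_opensRange W''
  have hpre : e ⁻¹ᵁ W' = W'' := e.preimage_image_eq W''
  have : IsIso (e.app W') := e.isIso_app _ hW'r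
  choose c' hc' using fun i => (ConcreteCategory.bijective_of_isIso (e.app W')).2
    ((Z.presheaf.map (homOfLE hpre.le).op) (c i))
  refine ⟨W', hW', ⟨z, hzW'', rfl⟩, c', (hφ W' hW'r).1 ?_⟩
  rw [app_resM φ hW' a, map_sum]
  show resM N (e.preimage_mono hW') (φ.app W a) = _
  rw [← resM_resM N hW'' hpre.le, hc]
  rw [map_sum]
  refine Finset.sum_congr rfl fun i _ => ?_
  rw [Scheme.Modules.Hom.app_smul, app_resM φ (hW'.trans hW) (s i)]
  refine (resM_smul N hpre.le (c i) _).trans ?_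
  exact congrArg₂ (· • ·) (hc' i).symm (resM_resM N _ hpre.le (φ.app O (s i)))

variable {Y P : Scheme.{u}} {𝒮 : RelProj.QCGrAlg Y} {p : P ⟶ Y}
  {chart : ∀ (U : Y.Opens) (hU : IsAffineOpen U), (((p ⁻¹ᵁ U : P.Opens) : Scheme.{u}) ≅ Proj (𝒮.deg U hU))}
  {ℳ : RelProj.GrModule 𝒮} {n : ℤ} {F : P.Modules}
  {lam : ∀ (U : Y.Opens) (hU : IsAffineOpen U), F ⟶ chartMod p chart ℳ n U hU}

/-- With `𝒮₁` of finite type generating, `A₊` has finitely many generators of degree one. -/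
theorem exists_degOne_gens (hgen : 𝒮.IsGenDegOne) (hft : 𝒮.IsFTDeg 1) (U : Y.Opens) (hU : IsAffineOpen U) :
    ∃ s : Finset (𝒮.presheaf.obj (op U)), (∀ g ∈ s, g ∈ 𝒮.deg U hU 1) ∧
      (HomogeneousIdeal.irrelevant (𝒮.deg U hU)).toIdeal = Ideal.span (s : Set (𝒮.presheaf.obj (op U))) := by
  obtain ⟨T, hT, hspan⟩ := hft U hU
  refine ⟨T, fun g hg => hT hg, le_antisymm ?_ (Ideal.span_le.2 fun g hg => mem_irrelevant_of_pos _ one_pos (hT hg))⟩
  refine (RelConeLib.irrelevant_le_span_degOne 𝒮 hgen U hU).trans (Ideal.span_le.2 fun x hx => ?_)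
  obtain ⟨c, hc⟩ := hspan x hx
  rw [SetLike.mem_coe, hc]
  exact sum_mem fun t ht => Ideal.mul_mem_left _ _ (Ideal.subset_span ht)

/-- `(ℳ(n))~` of a (TF) module is of finite type. -/
theorem isFT_relTilde (hgen : 𝒮.IsGenDegOne) (hft : 𝒮.IsFTDeg 1) (hTF : ℳ.IsTF)
    (hF : RelProj.IsRelTilde 𝒮 p chart ℳ n F lam) : CohB1.IsFT F := by
  obtain ⟨n₀, hn₀⟩ := hTF
  refine isFT_of_locallyFinGen fun x => ?_
  obtain ⟨U, hU, hxU⟩ := exists_affine (p := p) x
  obtain ⟨z, rfl⟩ := exists_preimage (chart := chart) hU hxU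
  obtain ⟨d, f, hd, hf, hfz⟩ := exists_pos_homogeneous_notMem (𝒮.deg U hU) z
  obtain ⟨s, hs1, hs⟩ := exists_degOne_gens hgen hft U hU
  obtain ⟨I, hI, g, hg⟩ := exists_genOn_basicOpen ⟨s, hs.symm⟩ (hn₀ U hU) n hd hf
  let O : P.Opens := RelProj.emb p chart U hU ''ᵁ Proj.basicOpen (𝒮.deg U hU) f
  have hO : O ≤ p ⁻¹ᵁ U :=
    ((RelProj.emb p chart U hU).image_le_opensRange _).trans (opensRange_emb (p := p) (chart := chart) U hU).le
  have hpre : RelProj.emb p chart U hU ⁻¹ᵁ O = Proj.basicOpen (𝒮.deg U hU) f :=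
    (RelProj.emb p chart U hU).preimage_image_eq _
  choose t ht using fun i => (hF.bijective U hU O hO).2
    (resM (GrMod.tilde (𝒮.deg U hU) (ℳ.deg U hU) n) hpre.le (g i))
  refine ⟨O, I, hI, t, ⟨z, hfz, rfl⟩, genOn_of_bijective_app (RelProj.emb p chart U hU) (lam U hU)
    (fun V hV => hF.bijective U hU V (hV.trans (opensRange_emb (p := p) (chart := chart) U hU).le))
    ((RelProj.emb p chart U hU).image_le_opensRange _) ?_⟩
  exact (funext ht : (fun i => (lam U hU).app O (t i)) = _) ▸ hg.res hpre.le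

/-- A (TF) module with zero sheaf satisfies (TN) over a quasi-compact base. -/
theorem isTN_of_isZero [CompactSpace Y] (hℳ : IsLocalGrModule ℳ) (hgen : 𝒮.IsGenDegOne) (hft : 𝒮.IsFTDeg 1)
    (hTF : ℳ.IsTF) {lam₀ : ∀ (U : Y.Opens) (hU : IsAffineOpen U), F ⟶ chartMod p chart ℳ 0 U hU}
    (hF : RelProj.IsRelTilde 𝒮 p chart ℳ 0 F lam₀) (h0 : Limits.IsZero F) : ℳ.IsTN := by
  classical
  obtain ⟨n₀, hn₀⟩ := hTF
  have hzero : ∀ (U : Y.Opens) (hU : IsAffineOpen U) (V : (Proj (𝒮.deg U hU)).Opens)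
      (z : Γ(GrMod.tilde (𝒮.deg U hU) (ℳ.deg U hU) 0, V)), z = 0 := by
    intro U hU V z
    let e := RelProj.emb p chart U hU
    have hpre : e ⁻¹ᵁ (e ''ᵁ V) = V := e.preimage_image_eq V
    obtain ⟨c, hc⟩ := (hF.bijective U hU _ ((e.image_le_opensRange V).trans
      (opensRange_emb (p := p) (chart := chart) U hU).le)).2 (resM (GrMod.tilde (𝒮.deg U hU) (ℳ.deg U hU) 0) hpre.le z)
    have hc0 : c = 0 := congrArg (fun q : F ⟶ F => q.app (e ''ᵁ V) c) (h0.eq_of_src (𝟙 F) 0)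
    rw [hc0, map_zero] at hc
    have := congrArg (resM (GrMod.tilde (𝒮.deg U hU) (ℳ.deg U hU) 0) hpre.ge) hc.symm
    refine (Eq.trans ?_ this).trans (map_zero _)
    exact ((resM_resM _ hpre.le hpre.ge z).trans (resM_self _ _ z)).symm
  have hb : ∀ U : Y.affineOpens, ∃ K : ℕ, ∀ k, K ≤ k → ∀ x ∈ ℳ.deg U.1 U.2 k, x = 0 := fun U => by
    obtain ⟨s, hs1, hs⟩ := exists_degOne_gens hgen hft U.1 U.2
    exact exists_bound_of_zero hs1 hs (hn₀ U.1 U.2) (hzero U.1 U.2)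
  choose K hK using hb
  obtain ⟨T, hT⟩ := isCompact_univ.elim_finite_subcover (fun U : Y.affineOpens => (U.1 : Set Y)) (fun U => U.1.2)
    fun y _ => by
      obtain ⟨V, hV, hyV, -⟩ := Opens.isBasis_iff_nbhd.mp Y.isBasis_affineOpens (Opens.mem_top y)
      exact Set.mem_iUnion.2 ⟨⟨V, hV⟩, hyV⟩
  refine ⟨T.sup K, fun V hV k hk m hm => ?_⟩
  let J : Ideal Γ(Y, V) := Ideal.comap (𝒮.str.app (op V)).hom
    (LinearMap.ker (LinearMap.toSpanSingleton (𝒮.presheaf.obj (op V)) (ℳ.mod.val.obj (op V)) m) :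
      Ideal (𝒮.presheaf.obj (op V)))
  suffices hJ : J.radical = ⊤ by
    have h1 : (𝒮.str.app (op V)).hom 1 • m = 0 :=
      LinearMap.mem_ker.1 ((Ideal.radical_eq_top.1 hJ).ge (Submodule.mem_top (x := (1 : Γ(Y, V)))))
    rwa [map_one, one_smul] at h1
  refine (Ideal.span_eq _).symm.trans (hV.self_le_iSup_basicOpen_iff.1 fun y hy => ?_)
  obtain ⟨U, hUT, hyU⟩ := Set.mem_iUnion₂.1 (hT (Set.mem_univ y))
  obtain ⟨r, r', hrr, hyr⟩ := exists_basicOpen_le_affine_inter hV U.2 y ⟨hy, hyU⟩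
  refine Opens.mem_iSup.2 ⟨⟨r, ?_⟩, hyr⟩
  have hE := hV.basicOpen r
  have hloc := hℳ.isGrLoc U.2 hE r' hrr
  obtain ⟨m', j, hm'⟩ := hloc.surjM (ℳ.res hV hE (Y.basicOpen_le r) m)
  have hKk : K U ≤ k := (Finset.le_sup (f := K) hUT).trans hk
  have hmk : ℳ.res hV hE (Y.basicOpen_le r) m ∈ ℳ.deg (Y.basicOpen r) hE k := ℳ.res_mem hV hE _ k m hm
  have hw := SetLike.GradedSMul.smul_mem (A := fun i => 𝒮.deg (Y.basicOpen r) hE i)
    (pow_zero_mem ((𝒮.res U.2 hE (le_of_basic hrr)).map_mem hloc.mem) j) hmk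
  have hzero' : ℳ.res U.2 hE (le_of_basic hrr) (decompose (ℳ.deg U.1 U.2) m' k : ℳ.mod.val.obj (op U.1)) = 0 := by
    rw [hK U k hKk _ (decompose (ℳ.deg U.1 U.2) m' k).2, map_zero]
  rw [map_decompose (ℳ.res U.2 hE (le_of_basic hrr)) (ℳ.res_mem U.2 hE _) m' k, ← hm'] at hzero'
  have hz : ℳ.res hV hE (Y.basicOpen_le r) m = 0 := by
    rw [decompose_of_mem_same _ (by simpa using hw)] at hzero'
    exact (hloc.isUnit.pow j).smul_eq_zero.1 hzero'
  obtain ⟨l, hl⟩ := (hℳ V hV r).kerM m hz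
  refine ⟨l, LinearMap.mem_ker.2 ?_⟩
  show (𝒮.str.app (op V)).hom (r ^ l) • m = 0
  rw [map_pow]
  exact hl

end Groth.Agent.TwistLib.G
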