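import Groth.Agent.TwistLib.G.RelTildeTrans
import Groth.Agent.TwistLib.G.QCoh
import Groth.Agent.TwistLib.Glue

/-!
# `(ℳ(n))~` on a relative Proj: existence, quasi-coherence, uniqueness
-/

set_option autoImplicit false
set_option linter.unusedSectionVars false
set_option backward.isDefEq.respectTransparency.types false
set_option maxHeartbeats 400000

universe u

open DirectSum AlgebraicGeometry CategoryTheory TopologicalSpace Opposite
open Groth.Agent.ProjLib Groth.Agent.Coherent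
open scoped HomogeneousIdeal

namespace Groth.Agent.TwistLib.G

variable {Y P : Scheme.{u}} {𝒮 : RelProj.QCGrAlg Y} {p : P ⟶ Y}
  {chart : ∀ (U : Y.Opens) (hU : IsAffineOpen U), (((p ⁻¹ᵁ U : P.Opens) : Scheme.{u}) ≅ Proj (𝒮.deg U hU))}

/-- An affine open, and a basic open of it. -/
structure BasicPair (Y : Scheme.{u}) : Type u where
  U : Y.affineOpens
  D : Y.affineOpens
  r : Γ(Y, U.1)
  eq : D.1 = Y.basicOpen r

variable (ℳ : RelProj.GrModule 𝒮) (hP : RelProj.IsRelProj 𝒮 p chart) (n : ℤ)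

variable (p chart) in
/-- The module over one chart, pushed to `P`. -/
noncomputable abbrev chartMod (U : Y.Opens) (hU : IsAffineOpen U) : P.Modules :=
  (Scheme.Modules.pushforward (RelProj.emb p chart U hU)).obj (GrMod.tilde (𝒮.deg U hU) (ℳ.deg U hU) n)

/-- `(ℳ(n))~` on `P`. -/
noncomputable def relTilde : P.Modules :=
  glued (fun U : Y.affineOpens => chartMod p chart ℳ n U.1 U.2) (fun k : BasicPair Y => chartMod p chart ℳ n k.D.1 k.D.2)
    BasicPair.D BasicPair.U (fun k => 𝟙 (chartMod p chart ℳ n k.D.1 k.D.2))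
    (fun k => chartTrans ℳ hP n k.U.2 k.D.2 k.r k.eq)

/-- The chart identifications. -/
noncomputable def relTildeLam (U : Y.Opens) (hU : IsAffineOpen U) : relTilde ℳ hP n ⟶ chartMod p chart ℳ n U hU :=
  gluedπ (fun U : Y.affineOpens => chartMod p chart ℳ n U.1 U.2) (fun k : BasicPair Y => chartMod p chart ℳ n k.D.1 k.D.2)
    BasicPair.D BasicPair.U (fun k => 𝟙 (chartMod p chart ℳ n k.D.1 k.D.2))
    (fun k => chartTrans ℳ hP n k.U.2 k.D.2 k.r k.eq) ⟨U, hU⟩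

theorem relTildeLam_trans {U D : Y.Opens} (hU : IsAffineOpen U) (hD : IsAffineOpen D) (r : Γ(Y, U))
    (h : D = Y.basicOpen r) :
    relTildeLam ℳ hP n D hD = relTildeLam ℳ hP n U hU ≫ chartTrans ℳ hP n hU hD r h :=
  (Category.comp_id _).symm.trans (glued_condition (fun U : Y.affineOpens => chartMod p chart ℳ n U.1 U.2)
    (fun k : BasicPair Y => chartMod p chart ℳ n k.D.1 k.D.2) BasicPair.D BasicPair.U
    (fun k => 𝟙 (chartMod p chart ℳ n k.D.1 k.D.2))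
    (fun k => chartTrans ℳ hP n k.U.2 k.D.2 k.r k.eq) ⟨⟨U, hU⟩, ⟨D, hD⟩, r, h⟩)

/-- `a` over `V` has the same transforms as `t` over `U` on the common basic opens. -/
def Rel {U : Y.Opens} (hU : IsAffineOpen U) {W : P.Opens} (t : Γ(chartMod p chart ℳ n U hU, W)) {V : Y.Opens}
    (hV : IsAffineOpen V) {O : P.Opens} (hO : O ≤ W) (a : Γ(chartMod p chart ℳ n V hV, O)) : Prop :=
  ∀ (E : Y.Opens) (hE : IsAffineOpen E) (r : Γ(Y, U)) (h : E = Y.basicOpen r) (r' : Γ(Y, V))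
    (h' : E = Y.basicOpen r') (O' : P.Opens) (h₁ : O' ≤ O) (_ : O' ≤ p ⁻¹ᵁ E),
    (chartTrans ℳ hP n hV hE r' h').app O' (resM _ h₁ a) =
      (chartTrans ℳ hP n hU hE r h).app O' (resM _ (h₁.trans hO) t)

variable {ℳ} {hP} {n}

theorem exists_common {U V : Y.Opens} (hU : IsAffineOpen U) (hV : IsAffineOpen V) {x : P}
    (hxU : p.base x ∈ U) (hxV : p.base x ∈ V) :
    ∃ (E : Y.Opens) (_ : IsAffineOpen E) (r : Γ(Y, U)) (_ : E = Y.basicOpen r) (r' : Γ(Y, V))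
      (_ : E = Y.basicOpen r'), p.base x ∈ E := by
  obtain ⟨r, r', e, hx⟩ := exists_basicOpen_le_affine_inter hU hV (p.base x) ⟨hxU, hxV⟩
  exact ⟨_, hU.basicOpen r, r, rfl, r', e, hx⟩

variable (hℳ : IsLocalGrModule ℳ)
include hℳ

theorem Rel.unique {U : Y.Opens} {hU : IsAffineOpen U} {W : P.Opens} {t : Γ(chartMod p chart ℳ n U hU, W)}
    (hW : W ≤ p ⁻¹ᵁ U) {V : Y.Opens} {hV : IsAffineOpen V} {O : P.Opens} {hO : O ≤ W}
    (hOV : O ≤ p ⁻¹ᵁ V) {a b : Γ(chartMod p chart ℳ n V hV, O)}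
    (ha : Rel ℳ hP n hU t hV hO a) (hb : Rel ℳ hP n hU t hV hO b) : a = b := by
  refine Groth.Agent.AmpleLib.sec_ext _ a b fun x hx => ?_
  obtain ⟨E, hE, r, h, r', h', hxE⟩ := exists_common hU hV (hW (hO hx)) (hOV hx)
  refine ⟨O ⊓ p ⁻¹ᵁ E, inf_le_left, ⟨hx, hxE⟩,
    (chartTrans_bijective ℳ hP n hℳ hV hE r' h' _ inf_le_right).1 ?_⟩
  exact (ha E hE r h r' h' _ inf_le_left inf_le_right).trans (hb E hE r h r' h' _ inf_le_left inf_le_right).symm

theorem Rel.exists {U : Y.Opens} {hU : IsAffineOpen U} {W : P.Opens} (t : Γ(chartMod p chart ℳ n U hU, W))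
    (hW : W ≤ p ⁻¹ᵁ U) (V : Y.Opens) (hV : IsAffineOpen V) :
    ∃ a : Γ(chartMod p chart ℳ n V hV, W ⊓ p ⁻¹ᵁ V), Rel ℳ hP n hU t hV inf_le_left a := by
  have key : ∀ x : (W ⊓ p ⁻¹ᵁ V : P.Opens), ∃ (O : P.Opens) (hO : O ≤ W ⊓ p ⁻¹ᵁ V) (_ : x.1 ∈ O)
      (a : Γ(chartMod p chart ℳ n V hV, O)), Rel ℳ hP n hU t hV (hO.trans inf_le_left) a := by
    rintro ⟨x, hxW, hxV⟩
    obtain ⟨D, hD, r, h, r', h', hxD⟩ := exists_common hU hV (hW hxW) hxV
    let O : P.Opens := (W ⊓ p ⁻¹ᵁ V) ⊓ p ⁻¹ᵁ D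
    obtain ⟨a, ha⟩ := (chartTrans_bijective ℳ hP n hℳ hV hD r' h' O inf_le_right).2
      ((chartTrans ℳ hP n hU hD r h).app O (resM _ (inf_le_left.trans inf_le_left) t))
    refine ⟨O, inf_le_left, ⟨⟨hxW, hxV⟩, hxD⟩, a, fun E hE e he e' he' O' h₁ h₂ => ?_⟩
    refine Groth.Agent.AmpleLib.sec_ext _ _ _ fun y hy => ?_
    obtain ⟨F, hF, s, hs, s', hs', hyF⟩ := exists_common hD hE ((h₁ hy).2) (h₂ hy)
    refine ⟨O' ⊓ p ⁻¹ᵁ F, inf_le_left, ⟨hy, hyF⟩,
      (chartTrans_bijective ℳ hP n hℳ hE hF s' hs' _ inf_le_right).1 ?_⟩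
    obtain ⟨u, hu⟩ := exists_basic_trans hU h s
    obtain ⟨u', hu'⟩ := exists_basic_trans hV h' s
    have hcomp : ∀ {G G' : Y.Opens} (hG : IsAffineOpen G) (hG' : IsAffineOpen G') (g : Γ(Y, G))
        (hg : G' = Y.basicOpen g) (g' : Γ(Y, G')) (hg' : F = Y.basicOpen g') (g'' : Γ(Y, G))
        (hg'' : F = Y.basicOpen g'') (Q : P.Opens) (z : Γ(chartMod p chart ℳ n G hG, Q)),
        (chartTrans ℳ hP n hG' hF g' hg').app Q ((chartTrans ℳ hP n hG hG' g hg).app Q z) =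
          (chartTrans ℳ hP n hG hF g'' hg'').app Q z :=
      fun hG hG' g hg g' hg' g'' hg'' Q z => ConcreteCategory.congr_hom
        (congrArg (fun φ => Scheme.Modules.Hom.app φ Q) (chartTrans_trans ℳ hP n hG hG' hF g hg g' hg' g'' hg'')) z
    have hO' : O' ⊓ p ⁻¹ᵁ F ≤ O := inf_le_left.trans h₁
    rw [← app_resM, ← app_resM, resM_resM, resM_resM,
      hcomp hV hE e' he' s' hs' u' (hs.trans hu') _, hcomp hU hE e he s' hs' u (hs.trans hu) _,
      ← hcomp hV hD r' h' s hs u' (hs.trans hu') _, ← hcomp hU hD r h s hs u (hs.trans hu) _,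
      app_resM _ hO' a, ha, ← app_resM _ hO', resM_resM]
  choose O hO hxO a ha using key
  have hcov : W ⊓ p ⁻¹ᵁ V ≤ ⨆ x, O x := fun x hx => Opens.mem_iSup.2 ⟨⟨x, hx⟩, hxO ⟨x, hx⟩⟩
  obtain ⟨ρ, hρ, -⟩ := TopCat.Sheaf.existsUnique_gluing'
    (⟨(chartMod p chart ℳ n V hV).presheaf, (chartMod p chart ℳ n V hV).isSheaf⟩ : TopCat.Sheaf Ab P)
    O _ (fun x => homOfLE (hO x)) hcov a fun x y => by
      refine Rel.unique hℳ (hP := hP) (t := t) hW (hO := (inf_le_left.trans (hO x)).trans inf_le_left)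
        ((inf_le_left.trans (hO x)).trans inf_le_right) ?_ ?_
      · intro E hE r h r' h' O' h₁ h₂
        refine Eq.trans ?_ (ha x E hE r h r' h' O' (h₁.trans inf_le_left) h₂)
        exact congrArg _ (resM_resM _ inf_le_left h₁ _)
      · intro E hE r h r' h' O' h₁ h₂
        refine Eq.trans ?_ (ha y E hE r h r' h' O' (h₁.trans inf_le_right) h₂)
        exact congrArg _ (resM_resM _ inf_le_right h₁ _)
  refine ⟨ρ, fun E hE r h r' h' O' h₁ h₂ => Groth.Agent.AmpleLib.sec_ext _ _ _ fun y hy => ?_⟩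
  obtain ⟨x, hyx⟩ := Opens.mem_iSup.1 (hcov (h₁ hy))
  refine ⟨O' ⊓ O x, inf_le_left, ⟨hy, hyx⟩, ?_⟩
  rw [← app_resM, ← app_resM, resM_resM, resM_resM,
    ← ha x E hE r h r' h' (O' ⊓ O x) inf_le_right (inf_le_left.trans h₂)]
  refine congrArg _ ?_
  rw [← resM_resM _ (hO x) (inf_le_right : O' ⊓ O x ≤ O x)]
  exact congrArg _ (hρ x)

theorem relTildeLam_bijective (U : Y.Opens) (hU : IsAffineOpen U) (W : P.Opens) (hW : W ≤ p ⁻¹ᵁ U) :
    Function.Bijective ((relTildeLam ℳ hP n U hU).app W) := by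
  have hrel : ∀ (s : Γ(relTilde ℳ hP n, W)) (V : Y.Opens) (hV : IsAffineOpen V),
      Rel ℳ hP n hU ((relTildeLam ℳ hP n U hU).app W s) hV (O := W ⊓ p ⁻¹ᵁ V) inf_le_left
        (resM _ inf_le_left ((relTildeLam ℳ hP n V hV).app W s)) := fun s V hV E hE r h r' h' O' h₁ h₂ => by
    rw [resM_resM, ← app_resM, ← app_resM]
    exact (ConcreteCategory.congr_hom (congrArg (fun φ => Scheme.Modules.Hom.app φ O')
      ((relTildeLam_trans ℳ hP n hV hE r' h').symm.trans (relTildeLam_trans ℳ hP n hU hE r h)))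
      (resM _ (h₁.trans inf_le_left) s))
  have hsupp : ∀ (V : Y.Opens) (hV : IsAffineOpen V) (Q Q' : P.Opens) (hQ : Q' ≤ Q)
      (_ : ∀ x ∈ Q, p.base x ∈ V → x ∈ Q') (a b : Γ(chartMod p chart ℳ n V hV, Q)),
      resM _ hQ a = resM _ hQ b → a = b := fun V hV Q Q' hQ hsub a b e => by
    refine sect_ext fun z => ?_
    have hz : z.1 ∈ RelProj.emb p chart V hV ⁻¹ᵁ Q' := hsub _ z.2 (emb_mem V hV z.1)
    exact congrArg (fun q : GrMod.sect (𝒮.deg V hV) (ℳ.deg V hV) n (op (RelProj.emb p chart V hV ⁻¹ᵁ Q')) =>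
      (q.1 ⟨z.1, hz⟩).1) e
  constructor
  · intro s s' e
    refine glued_ext _ _ _ _ _ _ fun V => hsupp V.1 V.2 W (W ⊓ p ⁻¹ᵁ V.1) inf_le_left (fun x hx hxV => ⟨hx, hxV⟩) _ _ ?_
    exact Rel.unique hℳ hW inf_le_right (hrel s V.1 V.2) (e ▸ hrel s' V.1 V.2)
  · intro t
    choose a ha using fun V : Y.affineOpens => Rel.exists hℳ (hP := hP) t hW V.1 V.2
    have hext : ∀ V : Y.affineOpens, ∃ b : Γ(chartMod p chart ℳ n V.1 V.2, W),
        resM _ (inf_le_left : W ⊓ p ⁻¹ᵁ V.1 ≤ W) b = a V := fun V => by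
      have hpre : RelProj.emb p chart V.1 V.2 ⁻¹ᵁ W ≤ RelProj.emb p chart V.1 V.2 ⁻¹ᵁ (W ⊓ p ⁻¹ᵁ V.1) :=
        fun z hz => ⟨hz, emb_mem V.1 V.2 z⟩
      refine ⟨resM (GrMod.tilde (𝒮.deg V.1 V.2) (ℳ.deg V.1 V.2) n) hpre (a V), sect_ext fun z => ?_⟩
      rfl
    choose b hb using hext
    obtain ⟨s, hs⟩ := glued_surj (fun U : Y.affineOpens => chartMod p chart ℳ n U.1 U.2)
      (fun k : BasicPair Y => chartMod p chart ℳ n k.D.1 k.D.2) BasicPair.D BasicPair.U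
      (fun k => 𝟙 (chartMod p chart ℳ n k.D.1 k.D.2)) (fun k => chartTrans ℳ hP n k.U.2 k.D.2 k.r k.eq) b
      fun k => by
        obtain ⟨⟨V, hV⟩, ⟨D, hD⟩, r, h⟩ := k
        refine hsupp D hD W (W ⊓ p ⁻¹ᵁ D) inf_le_left (fun x hx hxV => ⟨hx, hxV⟩) _ _ ?_
        show resM _ inf_le_left (b ⟨D, hD⟩) = _
        rw [hb]
        refine Rel.unique hℳ hW inf_le_right (ha ⟨D, hD⟩) fun E hE e he e' he' O' h₁ h₂ => ?_
        obtain ⟨u, hu⟩ := exists_basic_trans hV h e'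
        have hO'V : O' ≤ W ⊓ p ⁻¹ᵁ V :=
          h₁.trans (le_inf inf_le_left (inf_le_right.trans (p.preimage_mono (le_of_basic h))))
        rw [resM_resM, ← app_resM, ← resM_resM _ inf_le_left hO'V (b ⟨V, hV⟩), hb]
        refine Eq.trans ?_ (ha ⟨V, hV⟩ E hE e he u (he'.trans hu) O' hO'V h₂)
        exact ConcreteCategory.congr_hom (congrArg (fun φ => Scheme.Modules.Hom.app φ O')
          (chartTrans_trans ℳ hP n hV hD hE r h e' he' u (he'.trans hu))) _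
    refine ⟨s, hsupp U hU W (W ⊓ p ⁻¹ᵁ U) inf_le_left (fun x hx hxV => ⟨hx, hxV⟩) _ _ ?_⟩
    show resM _ inf_le_left ((relTildeLam ℳ hP n U hU).app W s) = _
    refine (congrArg _ (hs ⟨U, hU⟩)).trans ((hb ⟨U, hU⟩).trans ?_)
    refine Rel.unique hℳ hW inf_le_right (ha ⟨U, hU⟩) fun E hE e he e' he' O' h₁ h₂ => ?_
    rw [resM_resM]
    rfl

omit hℳ

/-- The basic properties. -/
theorem isRelTilde_relTilde (hℳ : IsLocalGrModule ℳ) :
    RelProj.IsRelTilde 𝒮 p chart ℳ n (relTilde ℳ hP n) (relTildeLam ℳ hP n) where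
  bijective U hU W hW := relTildeLam_bijective hℳ U hU W hW
  compat U hU r W s y hy hy' := by
    rw [relTildeLam_trans ℳ hP n hU (hU.basicOpen r) r rfl]
    exact chartTrans_val ℳ hP n hU (hU.basicOpen r) r rfl W ((relTildeLam ℳ hP n U hU).app W s) y hy

/-- Quasi-coherence. -/
theorem isQCoh_of_bijective {F : P.Modules}
    (lam : ∀ (U : Y.Opens) (hU : IsAffineOpen U), F ⟶ chartMod p chart ℳ n U hU)
    (hbij : ∀ (U : Y.Opens) (hU : IsAffineOpen U) (W : P.Opens), W ≤ p ⁻¹ᵁ U →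
      Function.Bijective ((lam U hU).app W)) : Coh.IsQCoh F := by
  refine isQCoh_of_openImmersion_cover F (fun U : Y.affineOpens => RelProj.emb p chart U.1 U.2) (fun x => ?_) fun U => ?_
  · obtain ⟨V, hV, hxV, -⟩ := Opens.isBasis_iff_nbhd.mp Y.isBasis_affineOpens (Opens.mem_top (p.base x))
    exact ⟨⟨V, hV⟩, (opensRange_emb (p := p) (chart := chart) V hV).ge hxV⟩
  · let φ := (Scheme.Modules.restrictFunctor (RelProj.emb p chart U.1 U.2)).map (lam U.1 U.2) ≫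
      (Scheme.Modules.restrictAdjunction (RelProj.emb p chart U.1 U.2)).counit.app _
    have hφ : IsIso ((Scheme.Modules.restrictFunctor (RelProj.emb p chart U.1 U.2)).map (lam U.1 U.2)) := by
      refine Scheme.Modules.Hom.isIso_iff_isIso_app.mpr fun O => (ConcreteCategory.isIso_iff_bijective _).mpr ?_
      refine hbij U.1 U.2 _ ?_
      rw [← opensRange_emb (p := p) (chart := chart) U.1 U.2]
      exact (RelProj.emb p chart U.1 U.2).image_le_opensRange O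
    have : IsIso φ := inferInstance
    have := isQCoh_tilde (𝒜 := 𝒮.deg U.1 U.2) (ℳ.deg U.1 U.2) n
    exact @isQCoh_of_iso _ _ _ (asIso φ).symm this

/-- Uniqueness. -/
theorem existsUnique_hom {F F' : P.Modules}
    (lam : ∀ (U : Y.Opens) (hU : IsAffineOpen U), F ⟶ chartMod p chart ℳ n U hU)
    (hF : RelProj.IsRelTilde 𝒮 p chart ℳ n F lam)
    (lam' : ∀ (U : Y.Opens) (hU : IsAffineOpen U), F' ⟶ chartMod p chart ℳ n U hU)
    (hF' : RelProj.IsRelTilde 𝒮 p chart ℳ n F' lam') (hℳ : IsLocalGrModule ℳ)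
    (hP' : RelProj.IsRelProj 𝒮 p chart) :
    ∃ e : F ≅ F', ∀ (U : Y.Opens) (hU : IsAffineOpen U), e.hom ≫ lam' U hU = lam U hU := by
  have hlift : ∀ {G : P.Modules} (μ : ∀ (U : Y.Opens) (hU : IsAffineOpen U), G ⟶ chartMod p chart ℳ n U hU),
      RelProj.IsRelTilde 𝒮 p chart ℳ n G μ →
      ∃ (φ : G ⟶ relTilde ℳ hP' n), IsIso φ ∧
        ∀ (U : Y.Opens) (hU : IsAffineOpen U), φ ≫ relTildeLam ℳ hP' n U hU = μ U hU := by
    intro G μ hμ
    have hcond : ∀ k : BasicPair Y, μ k.D.1 k.D.2 = μ k.U.1 k.U.2 ≫ chartTrans ℳ hP' n k.U.2 k.D.2 k.r k.eq := by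
      rintro ⟨⟨U, hU⟩, ⟨D, hD⟩, r, h⟩
      change D = Y.basicOpen r at h
      subst h
      refine Scheme.Modules.hom_ext _ _ fun W => ?_
      ext s
      refine sect_ext fun z => ?_
      refine (hμ.compat U hU r W s z.1 z.2 (emb_comap_mem hP' hU hD r rfl z.2)).trans ?_
      exact (chartTrans_val ℳ hP' n hU hD r rfl W ((μ U hU).app W s) z.1 z.2).symm
    let ψ : G ⟶ ∏ᶜ fun U : Y.affineOpens => chartMod p chart ℳ n U.1 U.2 := Limits.Pi.lift fun U => μ U.1 U.2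
    have hψ : ψ ≫ glueDiff (fun U : Y.affineOpens => chartMod p chart ℳ n U.1 U.2)
        (fun k : BasicPair Y => chartMod p chart ℳ n k.D.1 k.D.2) BasicPair.D BasicPair.U
        (fun k => 𝟙 (chartMod p chart ℳ n k.D.1 k.D.2))
        (fun k => chartTrans ℳ hP' n k.U.2 k.D.2 k.r k.eq) = 0 := by
      refine Limits.Pi.hom_ext _ _ fun k => ?_
      simp only [ψ, glueDiff, Category.assoc, Limits.Pi.lift_π, Preadditive.comp_sub,
        Limits.zero_comp, Limits.Pi.lift_π_assoc, Category.comp_id, sub_eq_zero]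
      exact hcond k
    let φ : G ⟶ relTilde ℳ hP' n := Limits.kernel.lift _ ψ hψ
    have hφ : ∀ (U : Y.Opens) (hU : IsAffineOpen U), φ ≫ relTildeLam ℳ hP' n U hU = μ U hU := fun U hU => by
      refine (Category.assoc _ _ _).symm.trans ?_
      refine (congrArg (fun q => q ≫ Limits.Pi.π (fun U : Y.affineOpens => chartMod p chart ℳ n U.1 U.2) ⟨U, hU⟩)
        (Limits.kernel.lift_ι _ ψ hψ)).trans ?_
      exact Limits.Pi.lift_π _ _
    refine ⟨φ, ?_, hφ⟩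
    refine isIso_of_bijective_on φ (fun U : Y.affineOpens => p ⁻¹ᵁ U.1) (fun x => ?_) fun U W hW => ?_
    · obtain ⟨V, hV, hxV, -⟩ := Opens.isBasis_iff_nbhd.mp Y.isBasis_affineOpens (Opens.mem_top (p.base x))
      exact ⟨⟨V, hV⟩, hxV⟩
    · have h := hμ.bijective U.1 U.2 W hW
      rw [← hφ U.1 U.2] at h
      exact (Function.Bijective.of_comp_iff' (relTildeLam_bijective hℳ U.1 U.2 W hW) (φ.app W)).1 h
  obtain ⟨φ, hφi, hφ⟩ := hlift lam hF
  obtain ⟨φ', hφ'i, hφ'⟩ := hlift lam' hF'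
  refine ⟨asIso φ ≪≫ (asIso φ').symm, fun U hU => ?_⟩
  rw [Iso.trans_hom, Iso.symm_hom, asIso_hom, asIso_inv, ← hφ U hU, ← hφ' U hU, Category.assoc, IsIso.inv_hom_id_assoc]

/-- A map into `(ℳ(n))~` is determined by its components. -/
theorem hom_ext_lam {G F : P.Modules}
    (lam : ∀ (U : Y.Opens) (hU : IsAffineOpen U), F ⟶ chartMod p chart ℳ n U hU)
    (hbij : ∀ (U : Y.Opens) (hU : IsAffineOpen U) (W : P.Opens), W ≤ p ⁻¹ᵁ U →
      Function.Bijective ((lam U hU).app W)) {φ φ' : G ⟶ F}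
    (h : ∀ (U : Y.Opens) (hU : IsAffineOpen U), φ ≫ lam U hU = φ' ≫ lam U hU) : φ = φ' := by
  refine Scheme.Modules.hom_ext _ _ fun W => ?_
  ext s
  refine Groth.Agent.AmpleLib.sec_ext _ _ _ fun x hx => ?_
  obtain ⟨V, hV, hxV, -⟩ := Opens.isBasis_iff_nbhd.mp Y.isBasis_affineOpens (Opens.mem_top (p.base x))
  refine ⟨W ⊓ p ⁻¹ᵁ V, inf_le_left, ⟨hx, hxV⟩, (hbij V hV _ inf_le_right).1 ?_⟩
  rw [← app_resM φ, ← app_resM φ']
  exact ConcreteCategory.congr_hom (congrArg (fun q => Scheme.Modules.Hom.app q (W ⊓ p ⁻¹ᵁ V)) (h V hV)) _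

end Groth.Agent.TwistLib.G
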