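import Groth.Agent.TwistLib.G.BaseChangeDeg15
import Groth.Agent.TwistLib.G.RelTwist
import Groth.Agent.TwistLib.G.QCoh
import Groth.Agent.Coherent.PullUnit
import Groth.Agent.CohExch.IsoCrit

/-!
# `O(n)` of a relative Proj commutes with base change
-/

set_option autoImplicit false
set_option linter.unusedSectionVars false
set_option backward.isDefEq.respectTransparency.types false
set_option maxHeartbeats 800000

universe u

open DirectSum AlgebraicGeometry CategoryTheory TopologicalSpace Opposite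
open Groth.Agent.ProjLib Groth.Agent.Coherent Groth.Agent.PicLib
open scoped HomogeneousIdeal

namespace Groth.Agent.TwistLib.G

theorem resM_bijective {X : Scheme.{u}} (M : X.Modules) {U V : X.Opens} (h : V ≤ U) (h' : U ≤ V) :
    Function.Bijective (resM M h) := by
  obtain rfl := le_antisymm h h'
  exact ⟨fun a b e => (resM_refl M a).symm.trans (e.trans (resM_refl M b)), fun b => ⟨b, resM_refl M b⟩⟩

theorem locModMap_square {A σ : Type u} [CommRing A] [SetLike σ A] [AddSubgroupClass σ A] {𝒜 : ℕ → σ} [GradedRing 𝒜]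
    {A' σ₁ : Type u} [CommRing A'] [SetLike σ₁ A'] [AddSubgroupClass σ₁ A'] {𝒜' : ℕ → σ₁} [GradedRing 𝒜']
    {B σ' : Type u} [CommRing B] [SetLike σ' B] [AddSubgroupClass σ' B] {ℬ : ℕ → σ'} [GradedRing ℬ]
    {B' σ₂ : Type u} [CommRing B'] [SetLike σ₂ B'] [AddSubgroupClass σ₂ B'] {ℬ' : ℕ → σ₂} [GradedRing ℬ']
    (a : 𝒜 →+*ᵍ 𝒜') (ha : 𝒜'₊ ≤ (𝒜₊).map a) (va : A →ₛₗ[a.toRingHom] A')
    (b : ℬ →+*ᵍ ℬ') (hb : ℬ'₊ ≤ (ℬ₊).map b) (vb : B →ₛₗ[b.toRingHom] B')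
    (f : 𝒜 →+*ᵍ ℬ) (hf : ℬ₊ ≤ (𝒜₊).map f) (vf : A →ₛₗ[f.toRingHom] B)
    (f' : 𝒜' →+*ᵍ ℬ') (hf' : ℬ'₊ ≤ (𝒜'₊).map f') (vf' : A' →ₛₗ[f'.toRingHom] B')
    (hc : ∀ x, f' (a x) = b (f x)) (hvc : ∀ x, vf' (va x) = vb (vf x)) {n : ℤ}
    {V : Opens (ProjectiveSpectrum.top 𝒜)} (t : GrMod.sect 𝒜 𝒜 n (op V)) (z : ProjectiveSpectrum ℬ')
    (hpt : ProjectiveSpectrum.comap a ha (ProjectiveSpectrum.comap f' hf' z) =
      ProjectiveSpectrum.comap f hf (ProjectiveSpectrum.comap b hb z))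
    (h₁ : ProjectiveSpectrum.comap a ha (ProjectiveSpectrum.comap f' hf' z) ∈ V)
    (h₂ : ProjectiveSpectrum.comap f hf (ProjectiveSpectrum.comap b hb z) ∈ V) :
    GrMod.locModMap f' hf' vf' z (GrMod.locModMap a ha va _ (t.1 ⟨_, h₁⟩).1) =
      GrMod.locModMap b hb vb z (GrMod.locModMap f hf vf _ (t.1 ⟨_, h₂⟩).1) := by
  have key : ∀ (x₁ x₂ : ProjectiveSpectrum 𝒜) (_ : x₁ = x₂) (k₁ : x₁ ∈ V) (k₂ : x₂ ∈ V),
      ∃ (m s : A) (l₁ : s ∉ x₁.asHomogeneousIdeal.toIdeal) (l₂ : s ∉ x₂.asHomogeneousIdeal.toIdeal),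
        (t.1 ⟨x₁, k₁⟩).1 = LocalizedModule.mk m ⟨s, l₁⟩ ∧ (t.1 ⟨x₂, k₂⟩).1 = LocalizedModule.mk m ⟨s, l₂⟩ := by
    rintro x₁ _ rfl k₁ k₂
    obtain ⟨i, j, m, s, hs, -, e⟩ := tildeAt_eq_frac n x₁ (t.1 ⟨x₁, k₁⟩).2
    exact ⟨m, s, hs, hs, e, e⟩
  obtain ⟨m, s, l₁, l₂, e₁, e₂⟩ := key _ _ hpt h₁ h₂
  rw [e₁, e₂, GrMod.locModMap_mk, GrMod.locModMap_mk, GrMod.locModMap_mk, GrMod.locModMap_mk]
  exact congrArg₂ LocalizedModule.mk (hvc m) (Subtype.ext (hc s))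

variable {Y Y' P P' : Scheme.{u}} (ψ : Y' ⟶ Y) {𝒮 : RelProj.QCGrAlg Y} {𝒮' : RelProj.QCGrAlg Y'}
  {p : P ⟶ Y}
  {chart : ∀ (U : Y.Opens) (hU : IsAffineOpen U), (((p ⁻¹ᵁ U : P.Opens) : Scheme.{u}) ≅ Proj (𝒮.deg U hU))}
  (hP : RelProj.IsRelProj 𝒮 p chart) {p' : P' ⟶ Y'}
  {chart' : ∀ (U' : Y'.Opens) (hU' : IsAffineOpen U'), (((p' ⁻¹ᵁ U' : P'.Opens) : Scheme.{u}) ≅ Proj (𝒮'.deg U' hU'))}
  (hP' : RelProj.IsRelProj 𝒮' p' chart')
  (φ : ∀ (U : Y.Opens) (hU : IsAffineOpen U) (U' : Y'.Opens) (hU' : IsAffineOpen U') (_ : U' ≤ ψ ⁻¹ᵁ U),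
    𝒮.deg U hU →+*ᵍ 𝒮'.deg U' hU')
  (hirr : ∀ (U : Y.Opens) (hU : IsAffineOpen U) (U' : Y'.Opens) (hU' : IsAffineOpen U') (hle : U' ≤ ψ ⁻¹ᵁ U),
    (𝒮'.deg U' hU')₊ ≤ ((𝒮.deg U hU)₊).map (φ U hU U' hU' hle))
  (hnat : ∀ (U : Y.Opens) (hU : IsAffineOpen U) (U' : Y'.Opens) (hU' : IsAffineOpen U') (hle : U' ≤ ψ ⁻¹ᵁ U)
    (D : Y.Opens) (hD : IsAffineOpen D) (D' : Y'.Opens) (hD' : IsAffineOpen D') (hle' : D' ≤ ψ ⁻¹ᵁ D)
    (i : D ≤ U) (i' : D' ≤ U') (x : 𝒮.presheaf.obj (op U)),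
      φ D hD D' hD' hle' (𝒮.res hU hD i x) = 𝒮'.res hU' hD' i' (φ U hU U' hU' hle x))
  (g : P' ⟶ P)
  (hg : ∀ (U : Y.Opens) (hU : IsAffineOpen U) (U' : Y'.Opens) (hU' : IsAffineOpen U') (hle : U' ≤ ψ ⁻¹ᵁ U),
    Proj.map (φ U hU U' hU' hle) (hirr U hU U' hU' hle) ≫ RelProj.emb p chart U hU =
      RelProj.emb p' chart' U' hU' ≫ g)
  {n : ℤ} {L : P.Modules}
  (lam : ∀ (U : Y.Opens) (hU : IsAffineOpen U), L ⟶ chartMod p chart (selfGrModule 𝒮) n U hU)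
  (hL : RelProj.IsRelTilde 𝒮 p chart (selfGrModule 𝒮) n L lam) {L' : P'.Modules}
  (lam' : ∀ (U' : Y'.Opens) (hU' : IsAffineOpen U'), L' ⟶ chartMod p' chart' (selfGrModule 𝒮') n U' hU')
  (hL' : RelProj.IsRelTilde 𝒮' p' chart' (selfGrModule 𝒮') n L' lam')

/-- A chart of the base change. -/
structure BCPair where
  U : Y.Opens
  hU : IsAffineOpen U
  U' : Y'.Opens
  hU' : IsAffineOpen U'
  hle : U' ≤ ψ ⁻¹ᵁ U

/-- `φ` as a semilinear map. -/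
noncomputable def bcV (k : BCPair ψ) :
    𝒮.presheaf.obj (op k.U) →ₛₗ[(φ k.U k.hU k.U' k.hU' k.hle).toRingHom] 𝒮'.presheaf.obj (op k.U') where
  toFun x := φ k.U k.hU k.U' k.hU' k.hle x
  map_add' := map_add _
  map_smul' a x := map_mul (φ k.U k.hU k.U' k.hU' k.hle) a x

/-- The comparison on one chart. -/
noncomputable def bcMu (k : BCPair ψ) :
    L ⟶ (Scheme.Modules.pushforward g).obj (chartMod p' chart' (selfGrModule 𝒮') n k.U' k.hU') :=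
  lam k.U k.hU ≫ pushTrans (Proj.map (φ k.U k.hU k.U' k.hU' k.hle) (hirr k.U k.hU k.U' k.hU' k.hle))
      (RelProj.emb p chart k.U k.hU) (RelProj.emb p' chart' k.U' k.hU' ≫ g) (hg k.U k.hU k.U' k.hU' k.hle)
      (M := GrMod.tilde (𝒮.deg k.U k.hU) ((selfGrModule 𝒮).deg k.U k.hU) n)
      (N := GrMod.tilde (𝒮'.deg k.U' k.hU') ((selfGrModule 𝒮').deg k.U' k.hU') n)
      (GrMod.comap (φ k.U k.hU k.U' k.hU' k.hle) (hirr k.U k.hU k.U' k.hU' k.hle) (bcV ψ φ k)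
        (fun _ _ hm => (φ k.U k.hU k.U' k.hU' k.hle).map_mem hm) n) ≫
    ((Scheme.Modules.pushforwardComp (RelProj.emb p' chart' k.U' k.hU') g).app _).inv

include hg in
theorem bc_mem (k : BCPair ψ) {W : P.Opens} {y : ProjectiveSpectrum (𝒮'.deg k.U' k.hU')}
    (hy : (RelProj.emb p' chart' k.U' k.hU').base y ∈ g ⁻¹ᵁ W) :
    (RelProj.emb p chart k.U k.hU).base
      (ProjectiveSpectrum.comap (φ k.U k.hU k.U' k.hU' k.hle) (hirr k.U k.hU k.U' k.hU' k.hle) y) ∈ W :=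
  Eq.mpr (congrArg (· ∈ W) (congrArg (fun q : Proj (𝒮'.deg k.U' k.hU') ⟶ P => q.base y)
    (hg k.U k.hU k.U' k.hU' k.hle))) hy

theorem bcMu_val (k : BCPair ψ) (W : P.Opens) (s : Γ(L, W)) (y : ProjectiveSpectrum (𝒮'.deg k.U' k.hU'))
    (hy : (RelProj.emb p' chart' k.U' k.hU').base y ∈ g ⁻¹ᵁ W) :
    GrMod.val (V := RelProj.emb p' chart' k.U' k.hU' ⁻¹ᵁ (g ⁻¹ᵁ W)) ((bcMu ψ φ hirr g hg lam k).app W s) ⟨y, hy⟩ =
      GrMod.locModMap (φ k.U k.hU k.U' k.hU' k.hle) (hirr k.U k.hU k.U' k.hU' k.hle) (bcV ψ φ k) y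
        (GrMod.val (V := RelProj.emb p chart k.U k.hU ⁻¹ᵁ W) ((lam k.U k.hU).app W s) ⟨_, bc_mem ψ φ hirr g hg k hy⟩) :=
  rfl

/-- `t` is the image of `s` on the chart `k`. -/
def IsBCImg (k : BCPair ψ) {W : P.Opens} (s : Γ(L, W)) {O : P'.Opens} (hO : O ≤ g ⁻¹ᵁ W) (t : Γ(L', O)) : Prop :=
  (lam' k.U' k.hU').app O t = resM _ hO ((bcMu ψ φ hirr g hg lam k).app W s)

theorem IsBCImg.res {k : BCPair ψ} {W : P.Opens} {s : Γ(L, W)} {O O₁ : P'.Opens} {hO : O ≤ g ⁻¹ᵁ W} {t : Γ(L', O)}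
    (h : IsBCImg ψ φ hirr g hg lam lam' k s hO t) (i : O₁ ≤ O) :
    IsBCImg ψ φ hirr g hg lam lam' k s (i.trans hO) (resM L' i t) := by
  unfold IsBCImg at h ⊢
  rw [app_resM, h, resM_resM]

include hP hP' hnat hL hL' in
theorem IsBCImg.basic {k k₁ : BCPair ψ} (r : Γ(Y, k.U)) (r' : Γ(Y', k.U')) (e : k₁.U = Y.basicOpen r)
    (e' : k₁.U' = Y'.basicOpen r') {W : P.Opens} {s : Γ(L, W)} {O : P'.Opens} {hO : O ≤ g ⁻¹ᵁ W} {t : Γ(L', O)}
    (h : IsBCImg ψ φ hirr g hg lam lam' k s hO t) : IsBCImg ψ φ hirr g hg lam lam' k₁ s hO t := by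
  obtain ⟨U, hU, U', hU', hle⟩ := k
  obtain ⟨D, hD, D', hD', hle'⟩ := k₁
  dsimp only at r r' e e'
  subst e e'
  refine sect_ext fun z => ?_
  obtain ⟨z, hz⟩ := z
  have hzW : (RelProj.emb p' chart' (Y'.basicOpen r') hD').base z ∈ g ⁻¹ᵁ W := hO hz
  have hzU := emb_comap_mem hP' hU' hD' r' rfl (W := O) hz
  have hzA := bc_mem ψ φ hirr g hg ⟨Y.basicOpen r, hD, Y'.basicOpen r', hD', hle'⟩ hzW
  have hzAA := emb_comap_mem hP hU hD r rfl (W := W) hzA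
  have hzBA := bc_mem ψ φ hirr g hg ⟨U, hU, U', hU', hle⟩ (hO hzU)
  refine (hL'.compat U' hU' r' O t z hz hzU).trans ?_
  refine Eq.trans ?_ (bcMu_val ψ φ hirr g hg lam ⟨Y.basicOpen r, hD, Y'.basicOpen r', hD', hle'⟩ W s z hzW).symm
  refine (congrArg (GrMod.locModMap _ _ _ z)
    ((congrArg (fun q => GrMod.val (V := RelProj.emb p' chart' U' hU' ⁻¹ᵁ O) q ⟨_, hzU⟩) h).trans
      (bcMu_val ψ φ hirr g hg lam ⟨U, hU, U', hU', hle⟩ W s _ (hO hzU)))).trans ?_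
  refine Eq.trans ?_ (congrArg (GrMod.locModMap _ _ _ z) (hL.compat U hU r W s _ hzA hzAA)).symm
  refine (locModMap_square (𝒮.res hU hD (Y.basicOpen_le r)) _ ((selfGrModule 𝒮).res hU hD (Y.basicOpen_le r))
    (𝒮'.res hU' hD' (Y'.basicOpen_le r')) _ ((selfGrModule 𝒮').res hU' hD' (Y'.basicOpen_le r'))
    (φ U hU U' hU' hle) (hirr U hU U' hU' hle) (bcV ψ φ ⟨U, hU, U', hU', hle⟩)
    (φ (Y.basicOpen r) hD (Y'.basicOpen r') hD' hle') (hirr _ hD _ hD' hle')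
    (bcV ψ φ ⟨Y.basicOpen r, hD, Y'.basicOpen r', hD', hle'⟩)
    (hnat U hU U' hU' hle _ hD _ hD' hle' _ _) (hnat U hU U' hU' hle _ hD _ hD' hle' _ _)
    ((lam U hU).app W s) z ?_ hzAA hzBA).symm
  refine (RelProj.emb p chart U hU).isOpenEmbedding.injective ?_
  exact ((emb_comap hP hU hD r rfl _).trans (congrArg (fun q : Proj (𝒮'.deg (Y'.basicOpen r') hD') ⟶ P => q.base z)
    (hg (Y.basicOpen r) hD (Y'.basicOpen r') hD' hle'))).trans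
      ((congrArg g.base (emb_comap hP' hU' hD' r' rfl z).symm).trans
        (congrArg (fun q : Proj (𝒮'.deg U' hU') ⟶ P => q.base
          (ProjectiveSpectrum.comap (𝒮'.res hU' hD' (Y'.basicOpen_le r')) (irr_basic hU' hD' r' rfl) z))
          (hg U hU U' hU' hle)).symm)

include hP hP' hnat hL hL' in
/-- Images on different charts agree. -/
theorem IsBCImg.agree {k₁ k₂ : BCPair ψ} {W : P.Opens} {s : Γ(L, W)} {O : P'.Opens} {hO : O ≤ g ⁻¹ᵁ W}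
    (hO₁ : O ≤ p' ⁻¹ᵁ k₁.U') (hO₂ : O ≤ p' ⁻¹ᵁ k₂.U') {t₁ t₂ : Γ(L', O)}
    (h₁ : IsBCImg ψ φ hirr g hg lam lam' k₁ s hO t₁) (h₂ : IsBCImg ψ φ hirr g hg lam lam' k₂ s hO t₂) : t₁ = t₂ := by
  refine AmpleLib.sec_ext L' _ _ fun x hx => ?_
  let y' := p'.base x
  have hy₁ : y' ∈ k₁.U' := hO₁ hx
  have hy₂ : y' ∈ k₂.U' := hO₂ hx
  obtain ⟨r₁, r₂, e, hr⟩ := exists_basicOpen_le_affine_inter k₁.hU k₂.hU (ψ.base y') ⟨k₁.hle hy₁, k₂.hle hy₂⟩
  obtain ⟨a, ha, hya⟩ := k₁.hU'.exists_basicOpen_le (V := k₂.U' ⊓ ψ ⁻¹ᵁ Y.basicOpen r₁) ⟨y', hy₂, hr⟩ hy₁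
  obtain ⟨b, b₂, e', hb⟩ :=
    exists_basicOpen_le_affine_inter (k₁.hU'.basicOpen a) k₂.hU' y' ⟨hya, hy₂⟩
  obtain ⟨b₁, hb₁⟩ := exists_basic_trans k₁.hU' (D := Y'.basicOpen a) rfl b
  let k : BCPair ψ := ⟨Y.basicOpen r₁, k₁.hU.basicOpen r₁, Y'.basicOpen b, (k₁.hU'.basicOpen a).basicOpen b,
    (Y'.basicOpen_le b).trans (ha.trans inf_le_right)⟩
  let O₁ : P'.Opens := O ⊓ p' ⁻¹ᵁ k.U'
  refine ⟨O₁, inf_le_left, ⟨hx, hb⟩, (hL'.bijective k.U' k.hU' O₁ inf_le_right).1 ?_⟩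
  exact ((h₁.res ψ φ hirr g hg lam lam' inf_le_left).basic ψ hP hP' φ hirr hnat g hg lam hL lam' hL' (k₁ := k) r₁ b₁ rfl hb₁).trans
    ((h₂.res ψ φ hirr g hg lam lam' inf_le_left).basic ψ hP hP' φ hirr hnat g hg lam hL lam' hL' (k₁ := k) r₂ b₂ e e').symm

/-- `t` is the image of `s` on every chart. -/
def IsBCImgAll {W : P.Opens} (s : Γ(L, W)) (t : Γ(L', g ⁻¹ᵁ W)) : Prop :=
  ∀ (k : BCPair ψ) (O : P'.Opens) (hO : O ≤ g ⁻¹ᵁ W), O ≤ p' ⁻¹ᵁ k.U' →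
    IsBCImg ψ φ hirr g hg lam lam' k s hO (resM L' hO t)

theorem exists_pair (x : P') : ∃ k : BCPair ψ, p'.base x ∈ k.U' := by
  obtain ⟨U, hU, hyU, -⟩ := exists_isAffineOpen_mem_and_subset (x := ψ.base (p'.base x)) (U := ⊤) trivial
  obtain ⟨U', hU', hyU', hle⟩ := exists_isAffineOpen_mem_and_subset (x := p'.base x) (U := ψ ⁻¹ᵁ U) hyU
  exact ⟨⟨U, hU, U', hU', hle⟩, hyU'⟩

include hP hP' hnat hL hL' in
theorem existsUnique_img (W : P.Opens) (s : Γ(L, W)) :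
    ∃! t : Γ(L', g ⁻¹ᵁ W), IsBCImgAll ψ φ hirr g hg lam lam' s t := by
  let V : BCPair ψ → P'.Opens := fun k => g ⁻¹ᵁ W ⊓ p' ⁻¹ᵁ k.U'
  have hex : ∀ k : BCPair ψ, ∃ t : Γ(L', V k), IsBCImg ψ φ hirr g hg lam lam' k s (O := V k) inf_le_left t :=
    fun k => (hL'.bijective k.U' k.hU' (V k) inf_le_right).2 _
  choose T hT using hex
  have hcov : g ⁻¹ᵁ W ≤ ⨆ k, V k := fun x hx => by
    obtain ⟨k, hk⟩ := exists_pair ψ (p' := p') x
    exact Opens.mem_iSup.2 ⟨k, hx, hk⟩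
  obtain ⟨t, ht, htu⟩ := TopCat.Sheaf.existsUnique_gluing' (⟨L'.presheaf, L'.isSheaf⟩ : TopCat.Sheaf Ab P')
    V (g ⁻¹ᵁ W) (fun k => homOfLE inf_le_left) hcov T fun a b =>
      IsBCImg.agree ψ hP hP' φ hirr hnat g hg lam hL lam' hL' (k₁ := a) (k₂ := b) (O := V a ⊓ V b)
        (hO := inf_le_left.trans inf_le_left) (inf_le_left.trans inf_le_right) (inf_le_right.trans inf_le_right)
        ((hT a).res ψ φ hirr g hg lam lam' inf_le_left) ((hT b).res ψ φ hirr g hg lam lam' inf_le_right)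
  refine ⟨t, fun k O hO hO' => ?_, fun t' ht' => htu t' fun k => ?_⟩
  · have hOV : O ≤ V k := le_inf hO hO'
    have e : resM L' hO t = resM L' hOV (T k) := by
      rw [show T k = resM L' (inf_le_left : V k ≤ g ⁻¹ᵁ W) t from (ht k).symm, resM_resM]
    rw [e]
    exact (hT k).res ψ φ hirr g hg lam lam' hOV
  · exact (hL'.bijective k.U' k.hU' (V k) inf_le_right).1 ((ht' k (V k) inf_le_left inf_le_right).trans (hT k).symm)

theorem IsBCImg.add {k : BCPair ψ} {W : P.Opens} {s₁ s₂ : Γ(L, W)} {O : P'.Opens} {hO : O ≤ g ⁻¹ᵁ W} {t₁ t₂ : Γ(L', O)}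
    (h₁ : IsBCImg ψ φ hirr g hg lam lam' k s₁ hO t₁) (h₂ : IsBCImg ψ φ hirr g hg lam lam' k s₂ hO t₂) :
    IsBCImg ψ φ hirr g hg lam lam' k (s₁ + s₂) hO (t₁ + t₂) := by
  unfold IsBCImg at h₁ h₂ ⊢
  refine (map_add ((lam' k.U' k.hU').app O).hom t₁ t₂).trans ((congrArg₂ (· + ·) h₁ h₂).trans ?_)
  refine (map_add (resM _ hO) _ _).symm.trans (congrArg (resM _ hO) ?_)
  exact (map_add ((bcMu ψ φ hirr g hg lam k).app W).hom s₁ s₂).symm

theorem IsBCImg.res_source {k : BCPair ψ} {W W₁ : P.Opens} (i : W₁ ≤ W) {s : Γ(L, W)} {O : P'.Opens}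
    {hO : O ≤ g ⁻¹ᵁ W₁} {t : Γ(L', O)}
    (h : IsBCImg ψ φ hirr g hg lam lam' k s (hO.trans (g.preimage_mono i)) t) :
    IsBCImg ψ φ hirr g hg lam lam' k (resM L i s) hO t := by
  unfold IsBCImg at h ⊢
  refine h.trans (Eq.trans ?_ (congrArg (resM _ hO) (app_resM (bcMu ψ φ hirr g hg lam k) i s)).symm)
  exact (resM_resM (chartMod p' chart' (selfGrModule 𝒮') n k.U' k.hU') (g.preimage_mono i) hO
    ((bcMu ψ φ hirr g hg lam k).app W s)).symm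

theorem IsBCImg.smul {k : BCPair ψ} {W : P.Opens} (r : Γ(P, W)) {s : Γ(L, W)} {O : P'.Opens} {hO : O ≤ g ⁻¹ᵁ W}
    {t : Γ(L', O)} (h : IsBCImg ψ φ hirr g hg lam lam' k s hO t) :
    IsBCImg ψ φ hirr g hg lam lam' k (r • s) hO (P'.presheaf.map (homOfLE hO).op (g.app W r) • t) := by
  unfold IsBCImg at h ⊢
  refine (Scheme.Modules.Hom.app_smul _ _ t).trans ((congrArg (_ • ·) h).trans ?_)
  refine Eq.trans ?_ (congrArg (resM _ hO) (Scheme.Modules.Hom.app_smul (bcMu ψ φ hirr g hg lam k) r s)).symm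
  exact (resM_smul (chartMod p' chart' (selfGrModule 𝒮') n k.U' k.hU') hO (g.app W r) _).symm

include hP hP' hnat hL hL' in
theorem exists_theta : ∃ θ : L ⟶ (Scheme.Modules.pushforward g).obj L',
    ∀ (W : P.Opens) (s : Γ(L, W)), IsBCImgAll ψ φ hirr g hg lam lam' s (θ.app W s) := by
  have H := existsUnique_img ψ hP hP' φ hirr hnat g hg lam hL lam' hL'
  choose T hT hTu using fun W s => (H W s)
  let F : ∀ W : P.Opens, Γ(L, W) →+ Γ(L', g ⁻¹ᵁ W) := fun W => AddMonoidHom.mk' (T W) fun a b =>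
    (hTu W _ _ fun k O hO hO' => by
      rw [map_add]
      exact (hT W a k O hO hO').add ψ φ hirr g hg lam lam' (hT W b k O hO hO')).symm
  have hres : ∀ {W W₁ : P.Opens} (i : W₁ ≤ W) (s : Γ(L, W)),
      T W₁ (resM L i s) = resM L' (g.preimage_mono i) (T W s) := fun {W W₁} i s =>
    (hTu W₁ _ _ fun k O hO hO' => by
      rw [resM_resM]
      exact (hT W s k O (hO.trans (g.preimage_mono i)) hO').res_source ψ φ hirr g hg lam lam' i).symm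
  have hsmul : ∀ (W : P.Opens) (r : Γ(P, W)) (s : Γ(L, W)), T W (r • s) = g.app W r • T W s := fun W r s =>
    (hTu W _ _ fun k O hO hO' => by
      rw [resM_smul]
      exact (hT W s k O hO hO').smul ψ φ hirr g hg lam lam' r).symm
  refine ⟨⟨PresheafOfModules.homMk
      { app := fun W => AddCommGrpCat.ofHom (F W.unop)
        naturality := fun W W₁ i => ?_ }
      fun W r s => hsmul W.unop r s⟩, fun W s => hT W s⟩
  refine ConcreteCategory.hom_ext _ _ fun s => ?_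
  exact hres i.unop.le s

include hP hP' hnat hirr hg hL hL' in
/-- The base change morphism `g^* O(n) ⟶ O(n)` is an isomorphism. -/
theorem nonempty_pullback_iso
    (hpo : ∀ k : BCPair ψ, IsPushout (ψ.appLE k.U k.U' k.hle) (𝒮.str.app (op k.U)) (𝒮'.str.app (op k.U'))
      (CommRingCat.ofHom ((φ k.U k.hU k.U' k.hU' k.hle).toRingHom :
        𝒮.presheaf.obj (op k.U) →+* 𝒮'.presheaf.obj (op k.U')))) :
    Nonempty ((Scheme.Modules.pullback g).obj L ≅ L') := by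
  obtain ⟨θ, hθ⟩ := exists_theta ψ hP hP' φ hirr hnat g hg lam hL lam' hL'
  let ν := ((Scheme.Modules.pullbackPushforwardAdjunction g).homEquiv _ _).symm θ
  have hLq : Coh.IsQCoh L := isQCoh_of_bijective lam hL.bijective
  have : Coh.IsQCoh L' := isQCoh_of_bijective lam' hL'.bijective
  have := EGA43.InjFibre.isQCoh_pullback g L
  suffices IsIso ν from ⟨asIso ν⟩
  refine CohExch.isIso_of_bijective_affine_cover ν fun x => ?_
  obtain ⟨k, hk⟩ := exists_pair ψ (p' := p') x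
  obtain ⟨U, hU, U', hU', hle⟩ := k
  let k : BCPair ψ := ⟨U, hU, U', hU', hle⟩
  let φk := φ U hU U' hU' hle
  let Φ := Proj.map φk (hirr U hU U' hU' hle)
  let em := RelProj.emb p chart U hU
  let em' := RelProj.emb p' chart' U' hU'
  obtain ⟨z, hz⟩ := exists_preimage (chart := chart') hU' hk
  obtain ⟨d, f, hd, hf, hfz⟩ := exists_pos_homogeneous_notMem (𝒮.deg U hU)
    (ProjectiveSpectrum.comap φk (hirr U hU U' hU' hle) z)
  let Df := Proj.basicOpen (𝒮.deg U hU) f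
  let Dg := Proj.basicOpen (𝒮'.deg U' hU') (φk f)
  have hDf : IsAffineOpen Df := Proj.isAffineOpen_basicOpen _ f hf hd
  have hDg : IsAffineOpen Dg := Proj.isAffineOpen_basicOpen _ (φk f) (φk.map_mem hf) hd
  let U₀ : P.Opens := em ''ᵁ Df
  let V₀ : P'.Opens := em' ''ᵁ Dg
  refine ⟨V₀, hDg.image_of_isOpenImmersion em', ⟨z, hfz, hz⟩, ?_⟩
  have hle₀ : V₀ ≤ g ⁻¹ᵁ U₀ := by
    rintro _ ⟨y, hy, rfl⟩
    exact ⟨ProjectiveSpectrum.comap φk (hirr U hU U' hU' hle) y, hy,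
      congrArg (fun q : Proj (𝒮'.deg U' hU') ⟶ P => q.base y) (hg U hU U' hU' hle)⟩
  have hU₀ : U₀ ≤ p ⁻¹ᵁ U := (em.image_le_opensRange Df).trans (opensRange_emb (p := p) (chart := chart) U hU).le
  have hV₀ : V₀ ≤ p' ⁻¹ᵁ U' := (em'.image_le_opensRange Dg).trans (opensRange_emb (p := p') (chart := chart') U' hU').le
  have hDf₀ : Df ≤ em ⁻¹ᵁ U₀ := (em.preimage_image_eq Df).ge
  have hDg₀ : Dg ≤ em' ⁻¹ᵁ V₀ := (em'.preimage_image_eq Dg).ge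
  let MA := GrMod.tilde (𝒮.deg U hU) (𝒮.deg U hU) n
  let MB := GrMod.tilde (𝒮'.deg U' hU') (𝒮'.deg U' hU') n
  let σA : Γ(P, U₀) →+* Γ(Proj (𝒮.deg U hU), Df) := (em.appLE U₀ Df hDf₀).hom
  let σB : Γ(P', V₀) →+* Γ(Proj (𝒮'.deg U' hU'), Dg) := (em'.appLE V₀ Dg hDg₀).hom
  have hbij : ∀ {X Z : Scheme.{u}} (e : X ⟶ Z) [IsOpenImmersion e] (D : X.Opens) (h : D ≤ e ⁻¹ᵁ (e ''ᵁ D)),
      Function.Bijective (e.appLE (e ''ᵁ D) D h) := fun e _ D h => by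
    have : IsIso (e.appLE (e ''ᵁ D) D h) := by
      rw [Scheme.Hom.appLE]
      have : IsIso (homOfLE h).op := ⟨(homOfLE (e.preimage_image_eq D).le).op, rfl, rfl⟩
      have := e.isIso_app (e ''ᵁ D) (e.image_le_opensRange D)
      infer_instance
    exact ConcreteCategory.bijective_of_isIso _
  have hσA : Function.Bijective σA := hbij em Df hDf₀
  have hσB : Function.Bijective σB := hbij em' Dg hDg₀
  let eA : Γ(L, U₀) →+ Γ(MA, Df) := (resM MA hDf₀).comp ((lam U hU).app U₀).hom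
  let eB : Γ(L', V₀) →+ Γ(MB, Dg) := (resM MB hDg₀).comp ((lam' U' hU').app V₀).hom
  have heA : Function.Bijective eA :=
    (resM_bijective MA hDf₀ (em.preimage_image_eq Df).le).comp (hL.bijective U hU U₀ hU₀)
  have heB : Function.Bijective eB :=
    (resM_bijective MB hDg₀ (em'.preimage_image_eq Dg).le).comp (hL'.bijective U' hU' V₀ hV₀)
  have heAl : ∀ c s, eA (c • s) = σA c • eA s := fun c s => by
    show resM MA hDf₀ ((lam U hU).app U₀ (c • s)) = _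
    rw [Scheme.Modules.Hom.app_smul]
    exact resM_smul MA hDf₀ (em.app U₀ c) _
  have heBl : ∀ c t, eB (c • t) = σB c • eB t := fun c t => by
    show resM MB hDg₀ ((lam' U' hU').app V₀ (c • t)) = _
    rw [Scheme.Modules.Hom.app_smul]
    exact resM_smul MB hDg₀ (em'.app V₀ c) _
  have hσ : ∀ c, σB (g.appLE U₀ V₀ hle₀ c) = Φ.appLE Df Dg le_rfl (σA c) := fun c => by
    have e1 := Scheme.Hom.appLE_comp_appLE em' g U₀ V₀ Dg hle₀ hDg₀
    have e2 := Scheme.Hom.appLE_comp_appLE Φ em U₀ Df Dg hDf₀ le_rfl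
    have e3 : ∀ {f₁ f₂ : Proj (𝒮'.deg U' hU') ⟶ P} (_ : f₁ = f₂) (h₁ : Dg ≤ f₁ ⁻¹ᵁ U₀) (h₂ : Dg ≤ f₂ ⁻¹ᵁ U₀),
        f₁.appLE U₀ Dg h₁ = f₂.appLE U₀ Dg h₂ := by
      rintro f₁ _ rfl h₁ h₂
      rfl
    exact ConcreteCategory.congr_hom (e1.trans ((e3 (hg U hU U' hU' hle).symm _ _).trans e2.symm)) c
  let Pb := (Scheme.Modules.pullback g).obj L
  let μ : Γ(L, U₀) →+ Γ(Pb, V₀) := (resM Pb hle₀).comp
    (((Scheme.Modules.pullbackPushforwardAdjunction g).unit.app L).app U₀).hom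
  have hμl : ∀ c s, μ (c • s) = g.appLE U₀ V₀ hle₀ c • μ s := fun c s => by
    show resM Pb hle₀ (pullSec g (c • s)) = _
    rw [pullSec_smul]
    exact resM_smul Pb hle₀ _ _
  let νV : Γ(Pb, V₀) →+ Γ(MB, Dg) := eB.comp (ν.app V₀).hom
  have hνl : ∀ c q, νV (c • q) = σB c • νV q := fun c q => by
    show eB (ν.app V₀ (c • q)) = _
    rw [Scheme.Modules.Hom.app_smul, heBl]
    rfl
  let hv : ∀ (i : ℕ) (m : 𝒮.presheaf.obj (op U)), m ∈ 𝒮.deg U hU i → bcV ψ φ k m ∈ 𝒮'.deg U' hU' i :=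
    fun _ _ hm => φk.map_mem hm
  have hkey : ∀ s, νV (μ s) = comapD φk (hirr U hU U' hU' hle) (bcV ψ φ k) hv n (eA s) := fun s => by
    show resM MB hDg₀ ((lam' U' hU').app V₀ (ν.app V₀ (resM Pb hle₀ (pullSec g s)))) = _
    rw [app_resM ν, homEquiv_symm_app_pullSec, hθ U₀ s k V₀ hle₀ hV₀]
    exact sect_ext fun y => rfl
  let eσ := RingEquiv.ofBijective σB hσB
  let _ : Module Γ(Proj (𝒮'.deg U' hU'), Dg) Γ(Pb, V₀) := Module.compHom _ eσ.symm.toRingHom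
  obtain ⟨eAinv, heAinv⟩ : ∃ e : Γ(MA, Df) →+ Γ(L, U₀), ∀ s, eA (e s) = s :=
    ⟨(AddEquiv.ofBijective eA heA).symm.toAddMonoidHom, fun s => (AddEquiv.ofBijective eA heA).apply_symm_apply s⟩
  have heAs : ∀ s, eAinv (eA s) = s := fun s => heA.1 (heAinv _)
  let iA := (𝒮.str.app (op U)).hom
  let iB := (𝒮'.str.app (op U')).hom
  let ρ := (ψ.appLE U U' hle).hom
  have hsq : ∀ r, φk (iA r) = iB (ρ r) := fun r => (ConcreteCategory.congr_hom (hpo k).w r).symm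
  let _ : Algebra Γ(Y, U) Γ(Y', U') := ρ.toAlgebra
  let _ : Algebra Γ(Y, U) (𝒮.presheaf.obj (op U)) := iA.toAlgebra
  let _ : Algebra Γ(Y', U') (𝒮'.presheaf.obj (op U')) := iB.toAlgebra
  let _ : Algebra (𝒮.presheaf.obj (op U)) (𝒮'.presheaf.obj (op U')) := φk.toRingHom.toAlgebra
  let _ : Algebra Γ(Y, U) (𝒮'.presheaf.obj (op U')) := (iB.comp ρ).toAlgebra
  have : IsScalarTower Γ(Y, U) Γ(Y', U') (𝒮'.presheaf.obj (op U')) := .of_algebraMap_eq fun _ => rfl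
  have : IsScalarTower Γ(Y, U) (𝒮.presheaf.obj (op U)) (𝒮'.presheaf.obj (op U')) :=
    .of_algebraMap_eq fun r => (hsq r).symm
  have hpush : Algebra.IsPushout Γ(Y, U) Γ(Y', U') (𝒮.presheaf.obj (op U)) (𝒮'.presheaf.obj (op U')) :=
    CommRingCat.isPushout_iff_isPushout.1 (hpo k)
  have hbase := hpush.out
  have hspan : ∀ x : 𝒮'.presheaf.obj (op U'),
      x ∈ AddSubmonoid.closure (Set.range fun q : Γ(Y', U') × 𝒮.presheaf.obj (op U) => iB q.1 * φk q.2) := fun x => by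
    obtain ⟨t, rfl⟩ := hbase.equiv.surjective x
    induction t using TensorProduct.induction_on with
    | zero => rw [map_zero]; exact zero_mem _
    | tmul r a =>
      rw [IsBaseChange.equiv_tmul]
      exact AddSubmonoid.subset_closure ⟨(r, a), rfl⟩
    | add a b ha hb => rw [map_add]; exact add_mem ha hb
  let w : Γ(MA, Df) →+ Γ(Pb, V₀) := μ.comp eAinv
  have hw : ∀ c s, w (c • s) = Φ.appLE Df Dg le_rfl c • w s := fun c s => by
    obtain ⟨c, rfl⟩ := hσA.2 c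
    show μ (eAinv (σA c • s)) = eσ.symm (Φ.appLE Df Dg le_rfl (σA c)) • μ (eAinv s)
    rw [← hσ]
    have e : eσ.symm (σB (g.appLE U₀ V₀ hle₀ c)) = g.appLE U₀ V₀ hle₀ c := eσ.symm_apply_apply _
    rw [e, ← hμl]
    refine congrArg μ (heA.1 ?_)
    rw [heAinv, heAl, heAinv]
  obtain ⟨β, hβl, hβ⟩ := comapD_lift φk (hirr U hU U' hU' hle) (bcV ψ φ k) hv hd hf n ρ iA iB
    (fun r => 𝒮.str_mem U hU r) (fun r => 𝒮'.str_mem U' hU' r) hsq hspan hspan (fun Q _ _ w' hw' => by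
      let _ : Module Γ(Y, U) Q := Module.compHom Q ρ
      have : IsScalarTower Γ(Y, U) Γ(Y', U') Q := .of_algebraMap_smul fun _ _ => rfl
      let wl : 𝒮.presheaf.obj (op U) →ₗ[Γ(Y, U)] Q :=
        { toFun := w', map_add' := map_add w', map_smul' := fun r m => hw' r m }
      exact ⟨(hbase.lift wl).toAddMonoidHom, fun r x => map_smul (hbase.lift wl) r x,
        fun m => hbase.lift_eq wl m⟩) Γ(Pb, V₀) w hw
  have hgen : ∀ q, β (νV q) = q := by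
    let _ := (g.appLE U₀ V₀ hle₀).hom.toAlgebra
    let _ : Module Γ(P, U₀) Γ(Pb, V₀) := Module.compHom _ (g.appLE U₀ V₀ hle₀).hom
    have : IsScalarTower Γ(P, U₀) Γ(P', V₀) Γ(Pb, V₀) := .of_algebraMap_smul fun _ _ => rfl
    obtain ⟨μ', hμ', hμe⟩ := EGA43.InjFibre.pullMap_isBaseChange g (hDf.image_of_isOpenImmersion em)
      (hDg.image_of_isOpenImmersion em') hle₀ L
    intro q
    induction q using hμ'.inductionOn with
    | zero => rw [map_zero, map_zero]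
    | tmul s =>
      have e : μ' s = μ s := (hμe s).trans (pullMap_eq_resM_pullSec g _ _ hle₀ L s)
      rw [e, hkey, hβ]
      exact congrArg μ (heAs s)
    | smul r q hq =>
      rw [hνl, hβl, hq]
      exact congrArg (· • q) (eσ.symm_apply_apply r)
    | add a b ha hb => rw [map_add, map_add, ha, hb]
  have hsur : Function.Surjective νV := fun t => by
    have ht := comapD_span φk (hirr U hU U' hU' hle) (bcV ψ φ k) hv hd hf n iB (fun r => 𝒮'.str_mem U' hU' r) hspan t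
    induction ht using AddSubmonoid.closure_induction with
    | mem t ht =>
      obtain ⟨⟨c, s⟩, rfl⟩ := ht
      refine ⟨eσ.symm c • μ (eAinv s), ?_⟩
      rw [hνl, hkey, heAinv]
      exact congrArg (· • _) (eσ.apply_symm_apply c)
    | zero => exact ⟨0, map_zero _⟩
    | add a b _ _ ha hb =>
      obtain ⟨a, rfl⟩ := ha
      obtain ⟨b, rfl⟩ := hb
      exact ⟨a + b, map_add _ a b⟩
  have hb : Function.Bijective νV :=
    ⟨fun a b e => (hgen a).symm.trans ((congrArg β e).trans (hgen b)), hsur⟩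
  exact (Function.Bijective.of_comp_iff' heB (ν.app V₀)).1 hb

end Groth.Agent.TwistLib.G
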