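import Groth.Agent.TwistLib.G.Map
import Groth.Agent.TwistLib.G.QCoh
import Groth.Agent.TwistLib.G.TwistBasics
import Groth.Agent.Coherent.PullUnit
import Groth.Agent.CohExch.IsoCrit

/-!
# `M(n)~` commutes with base change of the graded ring

If `N = B ⊗_A M` as graded modules and `A₊` is generated in degree one, then the adjoint of
`M(n)~ ⟶ Φ_* N(n)~` is an isomorphism.
-/

set_option autoImplicit false
set_option linter.unusedSectionVars false
set_option backward.isDefEq.respectTransparency.types false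

universe u

open DirectSum AlgebraicGeometry CategoryTheory TopologicalSpace Opposite HomogeneousLocalization
open Groth.Agent.ProjLib Groth.Agent.Coherent Groth.Agent.PicLib Groth.Agent.AmpleLib
open scoped HomogeneousIdeal

namespace Groth.Agent.TwistLib.G

section dehom

variable {A σ : Type u} [CommRing A] [SetLike σ A] [AddSubgroupClass σ A] {𝒜 : ℕ → σ} [GradedRing 𝒜]
variable {f : A} (hf : f ∈ 𝒜 1)

/-- `a ↦ a / f ^ i` on the degree `i` part. -/
noncomputable def dehomPiece1 (i : ℕ) : 𝒜 i →+ Away 𝒜 f where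
  toFun a := Away.mk 𝒜 hf i a (by simpa using a.2)
  map_zero' := val_injective _ (by simp [Away.val_mk, Localization.mk_zero])
  map_add' a b := val_injective _ (by
    rw [val_add]
    simp [Away.val_mk, Localization.add_mk_self])

/-- Dehomogenisation at a degree one element. -/
noncomputable def dehom1 : A →+* Away 𝒜 f :=
  (DirectSum.toSemiring (dehomPiece1 hf)
    (val_injective _ (by simp [dehomPiece1, Away.val_mk]))
    (fun {i j} a b => val_injective _ (by
      simp [dehomPiece1, Away.val_mk, Localization.mk_mul, pow_add]))).comp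
    (DirectSum.decomposeRingEquiv 𝒜).toRingHom

theorem dehom1_of_mem {i : ℕ} {a : A} (ha : a ∈ 𝒜 i) :
    dehom1 hf a = Away.mk 𝒜 hf i a (by simpa using ha) := by
  have h : DirectSum.decomposeRingEquiv 𝒜 a = DirectSum.of (fun i => 𝒜 i) i ⟨a, ha⟩ :=
    decompose_of_mem 𝒜 ha
  rw [dehom1, RingHom.comp_apply, RingEquiv.toRingHom_eq_coe, RingEquiv.coe_toRingHom, h,
    toSemiring_of]
  rfl

theorem dehom1_surjective : Function.Surjective (dehom1 hf) := fun q => by
  obtain ⟨l, P, hP, rfl⟩ := Away.mk_surjective 𝒜 hf q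
  exact ⟨P, dehom1_of_mem hf (by simpa using hP)⟩

theorem dehom1_self : dehom1 hf f = 1 := by
  rw [dehom1_of_mem hf hf]
  exact val_injective _ (by rw [Away.val_mk, val_one, ← Localization.mk_one, Localization.mk_eq_mk_iff, Localization.r_iff_exists]; exact ⟨1, by simp⟩)

/-- Dehomogenisation with values in the sections over `D₊(f)`. -/
noncomputable def dsec : A →+* Γ(Proj 𝒜, Proj.basicOpen 𝒜 f) :=
  (Proj.awayToSection 𝒜 f).hom.comp (dehom1 hf)

theorem dsec_surjective : Function.Surjective (dsec hf) := fun t => by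
  obtain ⟨q, rfl⟩ :=
    (ConcreteCategory.bijective_of_isIso (Proj.basicOpenIsoAway 𝒜 f hf Nat.one_pos).hom).2 t
  obtain ⟨a, rfl⟩ := dehom1_surjective hf q
  exact ⟨a, rfl⟩

theorem dsec_self : dsec hf f = 1 := by
  rw [dsec, RingHom.comp_apply, dehom1_self, map_one]

variable {M τ : Type u} [AddCommGroup M] [Module A M] [SetLike τ M] [AddSubgroupClass τ M] (ℳ : ℕ → τ)
  [SetLike.GradedSMul 𝒜 ℳ] [DirectSum.Decomposition ℳ] (n : ℤ)

include hf in
theorem pow_mem_one (k : ℕ) : f ^ k ∈ 𝒜 k := by simpa using SetLike.pow_mem_graded k hf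

include hf in
theorem fr_mem {i : ℕ} (m : ℳ i) : f ^ (n - i).toNat • (m : M) ∈ ℳ ((n - i).toNat + i) :=
  SetLike.GradedSMul.smul_mem (pow_mem_one hf _) m.2

/-- The section `m / f ^ (i - n)` over `D₊(f)`. -/
def frPiece (i : ℕ) : ℳ i →+ GrMod.sect 𝒜 ℳ n (op (ProjectiveSpectrum.basicOpen 𝒜 f)) where
  toFun m := fracSect _ (⟨_, fr_mem hf ℳ n m⟩ : ℳ ((n - i).toNat + i))
    (⟨f ^ ((i : ℤ) - n).toNat, pow_mem_one hf _⟩ :
      𝒜 ((i : ℤ) - n).toNat) (fun x => pow_notMem x.2 _) (by push_cast; omega)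
  map_zero' := sect_ext fun x => by
    show LocalizedModule.mk (f ^ _ • ((0 : ℳ i) : M)) _ = 0
    rw [ZeroMemClass.coe_zero, smul_zero, LocalizedModule.zero_mk]
  map_add' m m' := sect_ext fun x => by
    show LocalizedModule.mk (f ^ _ • ((m + m' : ℳ i) : M)) _ =
      LocalizedModule.mk (f ^ _ • (m : M)) _ + LocalizedModule.mk (f ^ _ • (m' : M)) _
    rw [LocalizedModule.mk_add_mk, AddMemClass.coe_add, smul_add]
    refine LocalizedModule.mk_eq.mpr ⟨1, ?_⟩
    simp only [Submonoid.smul_def, Submonoid.coe_mul, Submonoid.coe_one, one_smul, smul_add, mul_smul]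

/-- Dehomogenisation of a graded module. -/
noncomputable def dsecM : M →+ Γ(GrMod.tilde 𝒜 ℳ n, Proj.basicOpen 𝒜 f) :=
  (DirectSum.toAddMonoid fun i => frPiece hf ℳ n i).comp (DirectSum.decomposeAddEquiv ℳ).toAddMonoidHom

theorem dsecM_val {i : ℕ} {m : M} (hm : m ∈ ℳ i) (a b : ℕ) (hab : (a : ℤ) + i = b + n)
    (x : ProjectiveSpectrum.basicOpen 𝒜 f) :
    GrMod.val (dsecM hf ℳ n m) x = LocalizedModule.mk (f ^ a • m) ⟨f ^ b, pow_notMem x.2 b⟩ := by
  have h : DirectSum.decomposeAddEquiv ℳ m = DirectSum.of (fun i => ℳ i) i ⟨m, hm⟩ := decompose_of_mem ℳ hm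
  have e : dsecM hf ℳ n m = frPiece hf ℳ n i ⟨m, hm⟩ := by
    exact (congrArg (DirectSum.toAddMonoid fun i => frPiece hf ℳ n i) h).trans (toAddMonoid_of _ i _)
  rw [e]
  show LocalizedModule.mk (f ^ _ • m) _ = _
  refine LocalizedModule.mk_eq.mpr ⟨1, ?_⟩
  show (1 : A) • f ^ b • f ^ _ • m = (1 : A) • f ^ _ • f ^ a • m
  rw [smul_smul (f ^ b), smul_smul _ (f ^ a), ← pow_add, ← pow_add]
  congr 3
  omega

theorem dsecM_smul (a : A) (m : M) : dsecM hf ℳ n (a • m) = dsec hf a • dsecM hf ℳ n m := by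
  classical
  induction a using DirectSum.Decomposition.inductionOn (ℳ := 𝒜) with
  | zero => rw [zero_smul, map_zero, map_zero, zero_smul]
  | add x y hx hy => rw [add_smul, map_add, hx, hy, map_add, add_smul]
  | @homogeneous l a =>
    induction m using DirectSum.Decomposition.inductionOn (ℳ := ℳ) with
    | zero => rw [smul_zero, map_zero, smul_zero]
    | add x y hx hy => rw [smul_add, map_add, hx, hy, map_add, smul_add]
    | @homogeneous i m =>
      refine sect_ext fun x => ?_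
      have hl : (a : A) ∈ 𝒜 (l • 1) := by simpa using a.2
      have hx : HomogeneousLocalization.val ((dsec hf (a : A) : GrTwist.O (op (ProjectiveSpectrum.basicOpen 𝒜 f))).1 x) =
          Localization.mk (a : A) ⟨f ^ l, pow_notMem x.2 l⟩ := by
        rw [dsec, RingHom.comp_apply, dehom1_of_mem hf a.2]
        exact val_awayToSection_mk hf l a hl x
      refine (dsecM_val hf ℳ n (SetLike.GradedSMul.smul_mem a.2 m.2) (n - i).toNat (l + ((i : ℤ) - n).toNat)
        (show _ + ((l + i : ℕ) : ℤ) = _ by push_cast; omega) x).trans ?_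
      refine Eq.trans ?_ (GrMod.coe_smul_val n x.1 _ _).symm
      refine Eq.trans ?_ (congrArg₂ (· • ·) hx.symm
        (dsecM_val hf ℳ n m.2 (n - i).toNat ((i : ℤ) - n).toNat (by omega) x).symm)
      rw [LocalizedModule.mk_smul_mk]
      refine LocalizedModule.mk_eq.mpr ⟨1, ?_⟩
      show (1 : A) • (f ^ l * f ^ _) • f ^ _ • (a : A) • (m : M) =
        (1 : A) • f ^ _ • (a : A) • f ^ _ • (m : M)
      simp only [smul_smul, one_mul]
      congr 1
      rw [pow_add]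
      ring

theorem dsecM_pow_smul (k : ℕ) (m : M) : dsecM hf ℳ n (f ^ k • m) = dsecM hf ℳ n m := by
  rw [dsecM_smul, map_pow, dsec_self, one_pow, one_smul]

theorem dsecM_surjective : Function.Surjective (dsecM hf ℳ n) := fun s => by
  obtain ⟨k, i, m, hi, hm⟩ := exists_frac (ℳ := ℳ) (n := n) Nat.one_pos hf s
  refine ⟨m, sect_ext fun x => ?_⟩
  refine (dsecM_val hf ℳ n m.2 0 k (by push_cast at hi ⊢; omega) x).trans ?_
  rw [pow_zero, one_smul]
  exact (hm x).symm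

theorem exists_pow_smul_of_dsecM_eq_zero {i : ℕ} {m : M} (hm : m ∈ ℳ i) (h : dsecM hf ℳ n m = 0) :
    ∃ N : ℕ, f ^ N • m = 0 := by
  have hm' : f ^ (n - i).toNat • m ∈ ℳ ((n - i).toNat + i) := fr_mem hf ℳ n ⟨m, hm⟩
  obtain ⟨N, hN⟩ := exists_pow_smul_eq_zero_of_frac (ℳ := ℳ) Nat.one_pos hf (k := ((i : ℤ) - n).toNat) hm'
    fun x => (dsecM_val hf ℳ n hm _ _ (by omega) x).symm.trans
      (congrArg (fun z => GrMod.val (V := ProjectiveSpectrum.basicOpen 𝒜 f) z x) h)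
  exact ⟨N + (n - i).toNat, by rw [pow_add, mul_smul, hN]⟩

end dehom

section adjunct

variable {A σ : Type u} [CommRing A] [SetLike σ A] [AddSubgroupClass σ A] {𝒜 : ℕ → σ} [GradedRing 𝒜]
variable {B σ' : Type u} [CommRing B] [SetLike σ' B] [AddSubgroupClass σ' B] {ℬ : ℕ → σ'} [GradedRing ℬ]
variable {M τ : Type u} [AddCommGroup M] [Module A M] [SetLike τ M] [AddSubgroupClass τ M] {ℳ : ℕ → τ}
  [SetLike.GradedSMul 𝒜 ℳ] [DirectSum.Decomposition ℳ]
variable {N τ' : Type u} [AddCommGroup N] [Module B N] [SetLike τ' N] [AddSubgroupClass τ' N] {𝒩 : ℕ → τ'}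
  [SetLike.GradedSMul ℬ 𝒩] [DirectSum.Decomposition 𝒩]
variable (ψ : 𝒜 →+*ᵍ ℬ) (hψ : ℬ₊ ≤ (𝒜₊).map ψ) (v : M →ₛₗ[ψ.toRingHom] N)
  (hv : ∀ (i : ℕ) (m : M), m ∈ ℳ i → v m ∈ 𝒩 i)

/-- Dehomogenisation commutes with `ψ`. -/
theorem appLE_dsec {f : A} (hf : f ∈ 𝒜 1) (a : A) :
    (Proj.map ψ hψ).appLE (Proj.basicOpen 𝒜 f) (Proj.basicOpen ℬ (ψ f)) le_rfl (dsec hf a) =
      dsec (ψ.map_mem hf) (ψ a) := by
  classical
  induction a using DirectSum.Decomposition.inductionOn (ℳ := 𝒜) with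
  | zero => simp
  | add x y hx hy => simp only [map_add, hx, hy]
  | @homogeneous l a =>
    rw [dsec, RingHom.comp_apply, dehom1_of_mem hf a.2, dsec, RingHom.comp_apply]
    erw [dehom1_of_mem (ψ.map_mem hf) (ψ.map_mem a.2)]
    refine (ConcreteCategory.congr_hom (Proj.awayToSection_comp_appLE ψ hψ hf) _).trans ?_
    show (Proj.awayToSection ℬ (ψ f)).hom (Away.map ψ f _) = _
    rw [Away.map_mk]
    rfl

/-- Dehomogenisation commutes with `v`. -/
theorem comap_dsecM {f : A} (hf : f ∈ 𝒜 1) (n : ℤ) (m : M) :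
    resM (GrMod.tilde ℬ 𝒩 n) (show Proj.basicOpen ℬ (ψ f) ≤ Proj.map ψ hψ ⁻¹ᵁ Proj.basicOpen 𝒜 f from le_rfl)
        ((GrMod.comap ψ hψ v hv n).app (Proj.basicOpen 𝒜 f) (dsecM hf ℳ n m)) =
      dsecM (ψ.map_mem hf) 𝒩 n (v m) := by
  classical
  induction m using DirectSum.Decomposition.inductionOn (ℳ := ℳ) with
  | zero => simp only [map_zero]; erw [map_zero]
  | add x y hx hy => simp only [map_add, ← hx, ← hy]; erw [map_add]
  | @homogeneous i m =>
    refine sect_ext fun y => ?_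
    refine Eq.trans ?_ (dsecM_val (ψ.map_mem hf) 𝒩 n (hv i m m.2) (n - i).toNat ((i : ℤ) - n).toNat (by omega) y).symm
    refine (congrArg (GrMod.locModMap ψ hψ v y.1)
      (dsecM_val hf ℳ n m.2 (n - i).toNat ((i : ℤ) - n).toNat (by omega) ⟨_, y.2⟩)).trans ?_
    rw [GrMod.locModMap_mk]
    exact congrArg₂ LocalizedModule.mk
      ((LinearMap.map_smulₛₗ v _ _).trans (congrArg (· • v m.1) (map_pow ψ f _))) (Subtype.ext (map_pow ψ f _))

/-- The adjoint of `M(n)~ ⟶ Φ_* N(n)~` is an isomorphism when `N = B ⊗_A M`. -/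
theorem isIso_adjunct_comap_of_baseChange (hgen : (𝒜₊).toIdeal = Ideal.span (𝒜 1 : Set A))
    (hbc : ∀ (Q : Type u) [AddCommGroup Q] [Module B Q] (w : M →ₛₗ[ψ.toRingHom] Q),
      ∃! g : N →ₗ[B] Q, ∀ m : M, g (v m) = w m) (n : ℤ) :
    IsIso (((Scheme.Modules.pullbackPushforwardAdjunction (Proj.map ψ hψ)).homEquiv _ _).symm
      (GrMod.comap ψ hψ v hv n)) := by
  classical
  let Φ := Proj.map ψ hψ
  let θ := GrMod.comap ψ hψ v hv n
  let ν := ((Scheme.Modules.pullbackPushforwardAdjunction Φ).homEquiv _ _).symm θ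
  have hcov : ∀ y : Proj ℬ, ∃ f : A, f ∈ 𝒜 1 ∧ y ∈ Proj.basicOpen ℬ (ψ f) := fun y => by
    obtain ⟨f, hf, hfy⟩ := exists_degree_one_notMem 𝒜 hgen (ProjectiveSpectrum.comap ψ hψ y)
    exact ⟨f, hf, hfy⟩
  have hF : Coh.IsQCoh (GrMod.tilde 𝒜 ℳ n) := isQCoh_tilde ℳ n
  have : Coh.IsQCoh (GrMod.tilde ℬ 𝒩 n) := isQCoh_tilde 𝒩 n
  have := EGA43.InjFibre.isQCoh_pullback Φ (GrMod.tilde 𝒜 ℳ n)
  refine CohExch.isIso_of_bijective_affine_cover ν fun y => ?_
  obtain ⟨c, hc, hcy⟩ := hcov y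
  refine ⟨_, Proj.isAffineOpen_basicOpen ℬ (ψ c) (ψ.map_mem hc) Nat.one_pos, hcy, ?_⟩
  have hc' : ψ c ∈ ℬ 1 := ψ.map_mem hc
  let U := Proj.basicOpen 𝒜 c
  let V' := Proj.basicOpen ℬ (ψ c)
  have hle : V' ≤ Φ ⁻¹ᵁ U := le_rfl
  let F := GrMod.tilde 𝒜 ℳ n
  let G := GrMod.tilde ℬ 𝒩 n
  let P := (Scheme.Modules.pullback Φ).obj F
  let μ : Γ(F, U) → Γ(P, V') := fun s => resM P hle (pullSec Φ s)
  let _ : Module B Γ(P, V') := Module.compHom _ (dsec hc')
  let _ : Module B Γ(G, V') := Module.compHom _ (dsec hc')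
  have hμadd : ∀ s t, μ (s + t) = μ s + μ t := fun s t =>
    (congrArg (resM P hle) (map_add ((Scheme.Modules.pullbackPushforwardAdjunction Φ).unit.app F |>.app U).hom s t)).trans (map_add (resM P hle) _ _)
  have hμsmul : ∀ (a : A) (s : Γ(F, U)), μ (dsec hc a • s) = dsec hc' (ψ a) • μ s := fun a s => by
    simp only [μ]
    rw [pullSec_smul, resM_smul, ← appLE_dsec ψ hψ hc a]
    rfl
  let w : M →ₛₗ[ψ.toRingHom] Γ(P, V') :=
    { toFun := fun m => μ (dsecM hc ℳ n m)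
      map_add' := fun a b => by rw [map_add, hμadd]
      map_smul' := fun a m => by rw [dsecM_smul, hμsmul]; rfl }
  obtain ⟨β, hβ, -⟩ := hbc _ w
  let νV : Γ(P, V') →+ Γ(G, V') := (ν.app V').hom
  let νL : Γ(P, V') →ₗ[B] Γ(G, V') :=
    { toFun := νV, map_add' := map_add νV, map_smul' := fun b q => Scheme.Modules.Hom.app_smul ν _ q }
  let DN : N →ₗ[B] Γ(G, V') :=
    { toFun := dsecM hc' 𝒩 n, map_add' := map_add _, map_smul' := fun b x => dsecM_smul hc' 𝒩 n b x }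
  let w' : M →ₛₗ[ψ.toRingHom] Γ(G, V') := DN.comp v
  have hνβ : ∀ x, νV (β x) = dsecM hc' 𝒩 n x := by
    have e : νL.comp β = DN := (hbc _ w').unique (fun m => by
      show νV (β (v m)) = dsecM hc' 𝒩 n (v m)
      rw [hβ]
      show ν.app V' (resM P hle (pullSec Φ _)) = _
      rw [app_resM, homEquiv_symm_app_pullSec]
      exact comap_dsecM ψ hψ v hv hc n m) fun m => rfl
    exact fun x => congr($e x)
  have hsurj : Function.Surjective β := by
    let _ := (Φ.appLE U V' hle).hom.toAlgebra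
    let _ : Module Γ(Proj 𝒜, U) Γ(P, V') := Module.compHom _ (Φ.appLE U V' hle).hom
    have : IsScalarTower Γ(Proj 𝒜, U) Γ(Proj ℬ, V') Γ(P, V') := .of_algebraMap_smul fun _ _ => rfl
    obtain ⟨μ', hμ', hμe⟩ := EGA43.InjFibre.pullMap_isBaseChange Φ
      (Proj.isAffineOpen_basicOpen 𝒜 c hc Nat.one_pos) (Proj.isAffineOpen_basicOpen ℬ (ψ c) hc' Nat.one_pos) hle F
    intro q
    induction q using hμ'.inductionOn with
    | zero => exact ⟨0, map_zero _⟩
    | tmul s =>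
      obtain ⟨m, rfl⟩ := dsecM_surjective hc ℳ n s
      exact ⟨v m, (hβ m).trans ((hμe _).trans (pullMap_eq_resM_pullSec Φ _ _ hle F _)).symm⟩
    | smul r q hq =>
      obtain ⟨x, rfl⟩ := hq
      obtain ⟨b, rfl⟩ := dsec_surjective hc' r
      exact ⟨b • x, map_smul β b x⟩
    | add q q' hq hq' =>
      obtain ⟨x, rfl⟩ := hq
      obtain ⟨x', rfl⟩ := hq'
      exact ⟨x + x', map_add β x x'⟩
  have hpow : ∀ (k : ℕ) x, β (ψ c ^ k • x) = β x := fun k x => by
    rw [map_smul]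
    show dsec hc' (ψ c ^ k) • β x = β x
    rw [map_pow, dsec_self, one_pow, one_smul]
  have hhom : ∀ x : N, ∃ K, ∀ K', K ≤ K' → ∃ z ∈ 𝒩 K', β z = β x := by
    intro x
    induction x using DirectSum.Decomposition.inductionOn (ℳ := 𝒩) with
    | zero => exact ⟨0, fun K' _ => ⟨0, zero_mem _, rfl⟩⟩
    | @homogeneous i z =>
      refine ⟨i, fun K' hK => ⟨ψ c ^ (K' - i) • (z : N), ?_, hpow _ _⟩⟩
      have := SetLike.GradedSMul.smul_mem (pow_mem_deg hc' (K' - i)) z.2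
      rwa [mul_one, vadd_eq_add, Nat.sub_add_cancel hK] at this
    | add x x' hx hx' =>
      obtain ⟨K, hK⟩ := hx
      obtain ⟨K₁, hK₁⟩ := hx'
      refine ⟨max K K₁, fun K' h => ?_⟩
      obtain ⟨z, hz, e⟩ := hK K' (le_of_max_le_left h)
      obtain ⟨z', hz', e'⟩ := hK₁ K' (le_of_max_le_right h)
      exact ⟨z + z', add_mem hz hz', by rw [map_add, map_add, e, e']⟩
  show Function.Bijective νV
  refine ⟨(injective_iff_map_eq_zero _).2 fun q hq => ?_, fun t => ?_⟩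
  · obtain ⟨x, rfl⟩ := hsurj q
    obtain ⟨K, hK⟩ := hhom x
    obtain ⟨z, hz, e⟩ := hK K le_rfl
    rw [← e, hνβ] at hq
    obtain ⟨N', hN⟩ := exists_pow_smul_of_dsecM_eq_zero hc' 𝒩 n hz hq
    rw [← e, ← hpow N' z, hN, map_zero]
  · obtain ⟨x, rfl⟩ := dsecM_surjective hc' 𝒩 n t
    exact ⟨β x, hνβ x⟩

end adjunct

end Groth.Agent.TwistLib.G
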