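import Groth.Agent.TwistLib.G.RelGen

/-!
# The locus of a homogeneous global element on a relative Proj
-/

set_option autoImplicit false
set_option linter.unusedSectionVars false
set_option backward.isDefEq.respectTransparency.types false
set_option maxHeartbeats 400000

universe u

open DirectSum AlgebraicGeometry CategoryTheory TopologicalSpace Opposite
open Groth.Agent.ProjLib Groth.Agent.Coherent Groth.Agent.PicLib Groth.Agent.AmpleLib
open scoped HomogeneousIdeal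

namespace Groth.Agent.TwistLib.G

variable {Y P : Scheme.{u}} {𝒮 : RelProj.QCGrAlg Y} {p : P ⟶ Y}
  {chart : ∀ (U : Y.Opens) (hU : IsAffineOpen U), (((p ⁻¹ᵁ U : P.Opens) : Scheme.{u}) ≅ Proj (𝒮.deg U hU))}
  {d : ℕ} {L : P.Modules}
  {lam : ∀ (U : Y.Opens) (hU : IsAffineOpen U),
    L ⟶ (Scheme.Modules.pushforward (RelProj.emb p chart U hU)).obj (GrTwist.twist (𝒮.deg U hU) (d : ℤ))}

/-- The open of `f` is where `α_d(f)` generates `O_P(d)`. -/
theorem eq_genLocus (hgen : 𝒮.IsGenDegOne) (hL : RelProj.IsRelTwist 𝒮 p chart (d : ℤ) L lam)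
    (f : ∀ U : Y.Opens, 𝒮.presheaf.obj (op U))
    (hf : ∀ (U : Y.Opens) (hU : IsAffineOpen U), f U ∈ 𝒮.deg U hU d) {Xf : P.Opens}
    (hXf : ∀ (U : Y.Opens) (hU : IsAffineOpen U),
      RelProj.emb p chart U hU ⁻¹ᵁ Xf = Proj.basicOpen (𝒮.deg U hU) (f U))
    (s : Coh.structureModule P ⟶ L)
    (hs : ∀ (U : Y.Opens) (hU : IsAffineOpen U) (y : Proj (𝒮.deg U hU)),
      GrTwist.val (V := RelProj.emb p chart U hU ⁻¹ᵁ ⊤) ((lam U hU).app ⊤ (unitVal s ⊤)) ⟨y, Set.mem_univ _⟩ =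
        Localization.mk (f U) 1) :
    Xf = CohB1.genLocus L s := by
  have hval : ∀ (U : Y.Opens) (hU : IsAffineOpen U) (W : P.Opens)
      (z : (RelProj.emb p chart U hU ⁻¹ᵁ W : (Proj (𝒮.deg U hU)).Opens)),
      GrTwist.val (V := RelProj.emb p chart U hU ⁻¹ᵁ W) ((lam U hU).app W (unitVal s W)) z =
        Localization.mk (f U) 1 := by
    intro U hU W z
    rw [← resM_unitVal s (le_top : W ≤ ⊤), app_resM]
    exact hs U hU z.1
  refine le_antisymm ((le_genLocus_iff s Xf).2 ?_) fun y hy => ?_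
  · refine isGen_of_cover (fun U : Y.affineOpens => Xf ⊓ p ⁻¹ᵁ U.1) (fun U => inf_le_left) (fun x hx => ?_) fun U => ?_
    · obtain ⟨U, hU, hxU⟩ := exists_affine (p := p) x
      exact Opens.mem_iSup.2 ⟨⟨U, hU⟩, hx, hxU⟩
    · refine isGen_of_lam hL U.2 inf_le_right ?_
      rw [resM_unitVal]
      have hle : RelProj.emb p chart U.1 U.2 ⁻¹ᵁ (Xf ⊓ p ⁻¹ᵁ U.1) ≤ Proj.basicOpen (𝒮.deg U.1 U.2) (f U.1) :=
        ((RelProj.emb p chart U.1 U.2).preimage_mono inf_le_left).trans (hXf U.1 U.2).le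
      have key : ∀ (n : ℤ) (hn : n = (1 : ℤ) * d) (b : GrTwist.sectN (𝒜 := 𝒮.deg U.1 U.2) n
          (op (RelProj.emb p chart U.1 U.2 ⁻¹ᵁ (Xf ⊓ p ⁻¹ᵁ U.1)))),
          (∀ x, (b.1 x).1 = Localization.mk (f U.1) 1) →
          IsGen (GrTwist.twist (𝒮.deg U.1 U.2) n) (RelProj.emb p chart U.1 U.2 ⁻¹ᵁ (Xf ⊓ p ⁻¹ᵁ U.1)) b := by
        rintro n rfl b hb
        convert (isGen_tau (hf U.1 U.2) 1).restrict hle
        refine sectN_ext fun x => (hb x).trans ?_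
        refine Eq.trans ?_ (tau_val (hf U.1 U.2) 1 _ le_rfl ⟨x.1, hle x.2⟩).symm
        exact congrArg₂ Localization.mk (by simp) (Subtype.ext (by simp))
      exact key _ (one_mul _).symm _ (hval U.1 U.2 _)
  · obtain ⟨W, hyW, hW⟩ := (mem_genLocus_iff s y).1 hy
    obtain ⟨U, hU, hyU⟩ := exists_affine (p := p) y
    obtain ⟨z, rfl⟩ := exists_preimage (chart := chart) hU hyU
    suffices hfz : f U ∉ z.asHomogeneousIdeal.toIdeal from (hXf U hU).ge hfz
    intro hfz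
    have hcov : ∃ g ∈ 𝒮.deg U hU 1, g ∉ z.asHomogeneousIdeal.toIdeal := by
      by_contra! h
      exact z.not_irrelevant_le (show (HomogeneousIdeal.irrelevant (𝒮.deg U hU)).toIdeal ≤ z.asHomogeneousIdeal.toIdeal from
        (RelConeLib.irrelevant_le_span_degOne 𝒮 hgen U hU).trans (Ideal.span_le.mpr h))
    obtain ⟨g, hg, hgz⟩ := hcov
    let W' : P.Opens := W ⊓ RelProj.emb p chart U hU ''ᵁ Proj.basicOpen (𝒮.deg U hU) g
    have hW'U : W' ≤ p ⁻¹ᵁ U := inf_le_right.trans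
      (((RelProj.emb p chart U hU).image_le_opensRange _).trans (opensRange_emb (p := p) (chart := chart) U hU).le)
    have hle : RelProj.emb p chart U hU ⁻¹ᵁ W' ≤ Proj.basicOpen (𝒮.deg U hU) g :=
      ((RelProj.emb p chart U hU).preimage_mono inf_le_right).trans
        ((RelProj.emb p chart U hU).preimage_image_eq _).le
    have hzW' : z ∈ RelProj.emb p chart U hU ⁻¹ᵁ W' := ⟨hyW, z, hgz, rfl⟩
    have hd : (d : ℤ) = (d : ℤ) * (1 : ℕ) := by simp
    have key : ∀ (n : ℤ), n = (d : ℤ) * (1 : ℕ) → ∃ b : GrTwist.sectN (𝒜 := 𝒮.deg U hU) n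
        (op (RelProj.emb p chart U hU ⁻¹ᵁ W')), ∀ x, IsUnit (b.1 x).1 := by
      rintro n rfl
      exact ⟨tau hg (d : ℤ) _ hle, fun x => isUnit_tau hg (d : ℤ) _ hle x⟩
    obtain ⟨b, hb⟩ := key _ hd
    obtain ⟨t, ht⟩ := (hL.bijective U hU W' hW'U).2
      (show Γ(GrTwist.twist (𝒮.deg U hU) (d : ℤ), RelProj.emb p chart U hU ⁻¹ᵁ W') from b)
    obtain ⟨r, hr⟩ := (hW W' inf_le_left).2 t
    have h1 : (lam U hU).app W' (r • resM L inf_le_left (unitVal s W)) = _ := (congrArg _ hr).trans ht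
    rw [resM_unitVal, Scheme.Modules.Hom.app_smul] at h1
    have h2 := hb ⟨z, hzW'⟩
    rw [show (b.1 ⟨z, hzW'⟩).1 = _ from
      (congrArg (fun q : GrTwist.sectN (𝒜 := 𝒮.deg U hU) (d : ℤ) (op (RelProj.emb p chart U hU ⁻¹ᵁ W')) =>
        (q.1 ⟨z, hzW'⟩).1) h1.symm).trans (GrTwist.coe_smul_val (d : ℤ) z _ _)] at h2
    have h3 := (IsUnit.mul_iff.1 h2).2
    have h4 : IsUnit (GrTwist.val (V := RelProj.emb p chart U hU ⁻¹ᵁ W') ((lam U hU).app W' (unitVal s W')) ⟨z, hzW'⟩) := h3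
    rw [hval U hU W' ⟨z, hzW'⟩, Localization.mk_one_eq_algebraMap] at h4
    exact ((IsLocalization.AtPrime.isUnit_to_map_iff _ z.asHomogeneousIdeal.toIdeal (f U)).1 h4) hfz

end Groth.Agent.TwistLib.G
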