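import Groth.Agent.TwistLib.G.RelTwist
import Groth.Agent.TwistLib.G.RelMap

/-!
# The comparison of twisting sheaves along a map of relative Proj's
-/

set_option autoImplicit false
set_option linter.unusedSectionVars false
set_option backward.isDefEq.respectTransparency.types false
set_option maxHeartbeats 400000

universe u

open DirectSum AlgebraicGeometry CategoryTheory TopologicalSpace Opposite
open Groth.Agent.ProjLib Groth.Agent.Coherent
open scoped HomogeneousIdeal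

namespace Groth.Agent.TwistLib.G

section ring

/-- The induced maps of localisations commute along a commutative square. -/
theorem locMap_square {A σ : Type u} [CommRing A] [SetLike σ A] [AddSubgroupClass σ A] {𝒜 : ℕ → σ} [GradedRing 𝒜]
    {A' σ₁ : Type u} [CommRing A'] [SetLike σ₁ A'] [AddSubgroupClass σ₁ A'] {𝒜' : ℕ → σ₁} [GradedRing 𝒜']
    {B σ' : Type u} [CommRing B] [SetLike σ' B] [AddSubgroupClass σ' B] {ℬ : ℕ → σ'} [GradedRing ℬ]
    {B' σ₂ : Type u} [CommRing B'] [SetLike σ₂ B'] [AddSubgroupClass σ₂ B'] {ℬ' : ℕ → σ₂} [GradedRing ℬ']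
    (a : 𝒜 →+*ᵍ 𝒜') (ha : 𝒜'₊ ≤ (𝒜₊).map a) (b : ℬ →+*ᵍ ℬ') (hb : ℬ'₊ ≤ (ℬ₊).map b)
    (f : 𝒜 →+*ᵍ ℬ) (hf : ℬ₊ ≤ (𝒜₊).map f) (f' : 𝒜' →+*ᵍ ℬ') (hf' : ℬ'₊ ≤ (𝒜'₊).map f')
    (hc : ∀ x, f' (a x) = b (f x)) (z : ProjectiveSpectrum ℬ')
    {n : ℤ}
    (x₁ : ProjectiveSpectrum 𝒜) (hx₁ : x₁ = ProjectiveSpectrum.comap f hf (ProjectiveSpectrum.comap b hb z))
    (q₁ : GrTwist.Loc 𝒜 (ProjectiveSpectrum.comap a ha (ProjectiveSpectrum.comap f' hf' z)))
    (q₂ : GrTwist.Loc 𝒜 (ProjectiveSpectrum.comap f hf (ProjectiveSpectrum.comap b hb z)))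
    (h : ∃ (m s : A) (h₁ : s ∉ (ProjectiveSpectrum.comap a ha (ProjectiveSpectrum.comap f' hf' z)).asHomogeneousIdeal.toIdeal)
      (h₂ : s ∉ (ProjectiveSpectrum.comap f hf (ProjectiveSpectrum.comap b hb z)).asHomogeneousIdeal.toIdeal),
      q₁ = Localization.mk m ⟨s, h₁⟩ ∧ q₂ = Localization.mk m ⟨s, h₂⟩) :
    GrTwist.locMap f' hf' z (GrTwist.locMap a ha _ q₁) = GrTwist.locMap b hb z (GrTwist.locMap f hf _ q₂) := by
  obtain ⟨m, s, h₁, h₂, rfl, rfl⟩ := h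
  rw [GrTwist.locMap_mk, GrTwist.locMap_mk, GrTwist.locMap_mk, GrTwist.locMap_mk]
  exact congrArg₂ Localization.mk (hc m) (Subtype.ext (hc s))

/-- Values of one section at equal points are the same fraction. -/
theorem exists_common_frac {A σ : Type u} [CommRing A] [SetLike σ A] [AddSubgroupClass σ A] {𝒜 : ℕ → σ} [GradedRing 𝒜]
    {n : ℤ} {V : Opens (ProjectiveSpectrum.top 𝒜)} (t : GrTwist.sectN (𝒜 := 𝒜) n (op V))
    (x₁ x₂ : ProjectiveSpectrum 𝒜) (hx : x₁ = x₂) (h₁ : x₁ ∈ V) (h₂ : x₂ ∈ V) :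
    ∃ (m s : A) (k₁ : s ∉ x₁.asHomogeneousIdeal.toIdeal) (k₂ : s ∉ x₂.asHomogeneousIdeal.toIdeal),
      (t.1 ⟨x₁, h₁⟩).1 = Localization.mk m ⟨s, k₁⟩ ∧ (t.1 ⟨x₂, h₂⟩).1 = Localization.mk m ⟨s, k₂⟩ := by
  subst hx
  obtain ⟨i, j, m, s, hs, -, e⟩ := tildeAt_eq_frac (ℳ := 𝒜) n x₁ (mem_tildeAt_of_twistAt 𝒜 n x₁ (t.1 ⟨x₁, h₁⟩).2)
  exact ⟨m, s, hs, hs, e, e⟩

end ring

variable {Y PA PB : Scheme.{u}} {𝒜 ℬ : RelProj.QCGrAlg Y} {φ : 𝒜.toQCAlg ⟶ ℬ.toQCAlg}
  {hφ : RelProj.IsGradedHom φ}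
  {hirr : ∀ (U : Y.Opens) (hU : IsAffineOpen U),
    (ℬ.deg U hU)₊ ≤ ((𝒜.deg U hU)₊).map (RelProj.gradedHomAt φ hφ U hU)}
  {pA : PA ⟶ Y} {pB : PB ⟶ Y}
  {chartA : ∀ (U : Y.Opens) (hU : IsAffineOpen U), (((pA ⁻¹ᵁ U : PA.Opens) : Scheme.{u}) ≅ Proj (𝒜.deg U hU))}
  {chartB : ∀ (U : Y.Opens) (hU : IsAffineOpen U), (((pB ⁻¹ᵁ U : PB.Opens) : Scheme.{u}) ≅ Proj (ℬ.deg U hU))}
  {h : PB ⟶ PA} {n : ℤ}

theorem map_emb_relProjMap (hh : RelProj.IsRelProjMap φ hφ hirr chartA chartB h) (U : Y.Opens) (hU : IsAffineOpen U) :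
    Proj.map (RelProj.gradedHomAt φ hφ U hU) (hirr U hU) ≫ RelProj.emb pA chartA U hU =
      RelProj.emb pB chartB U hU ≫ h := by
  rw [RelProj.emb, RelProj.emb, Category.assoc, hh U hU, Iso.inv_hom_id_assoc]

theorem existsUnique_comap (hA : RelProj.IsRelProj 𝒜 pA chartA) (hB : RelProj.IsRelProj ℬ pB chartB)
    (hh : RelProj.IsRelProjMap φ hφ hirr chartA chartB h) {LA : PA.Modules}
    (lamA : ∀ (U : Y.Opens) (hU : IsAffineOpen U),
      LA ⟶ (Scheme.Modules.pushforward (RelProj.emb pA chartA U hU)).obj (GrTwist.twist (𝒜.deg U hU) n))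
    (hLA : RelProj.IsRelTwist 𝒜 pA chartA n LA lamA) {LB : PB.Modules}
    (lamB : ∀ (U : Y.Opens) (hU : IsAffineOpen U),
      LB ⟶ (Scheme.Modules.pushforward (RelProj.emb pB chartB U hU)).obj (GrTwist.twist (ℬ.deg U hU) n))
    (hLB : RelProj.IsRelTwist ℬ pB chartB n LB lamB) :
    ∃! θ : LA ⟶ (Scheme.Modules.pushforward h).obj LB,
      ∀ (U : Y.Opens) (hU : IsAffineOpen U) (W : PA.Opens) (s : Γ(LA, W))
        (y : ProjectiveSpectrum (ℬ.deg U hU))
        (hy : (RelProj.emb pB chartB U hU).base y ∈ h ⁻¹ᵁ W)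
        (hy' : (RelProj.emb pA chartA U hU).base
          (ProjectiveSpectrum.comap (RelProj.gradedHomAt φ hφ U hU) (hirr U hU) y) ∈ W),
        GrTwist.val (V := RelProj.emb pB chartB U hU ⁻¹ᵁ (h ⁻¹ᵁ W)) ((lamB U hU).app (h ⁻¹ᵁ W) (θ.app W s)) ⟨y, hy⟩ =
          GrTwist.locMap (RelProj.gradedHomAt φ hφ U hU) (hirr U hU) y
            (GrTwist.val (V := RelProj.emb pA chartA U hU ⁻¹ᵁ W) ((lamA U hU).app W s) ⟨_, hy'⟩) := by
  let μ : ∀ (U : Y.Opens) (hU : IsAffineOpen U),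
      LA ⟶ (Scheme.Modules.pushforward h).obj (chartMod pB chartB (selfGrModule ℬ) n U hU) := fun U hU =>
    lamA U hU ≫ pushTrans (Proj.map (RelProj.gradedHomAt φ hφ U hU) (hirr U hU)) (RelProj.emb pA chartA U hU)
      (RelProj.emb pB chartB U hU ≫ h) (map_emb_relProjMap hh U hU) (GrTwist.comap (RelProj.gradedHomAt φ hφ U hU) (hirr U hU) n) ≫
      ((Scheme.Modules.pushforwardComp (RelProj.emb pB chartB U hU) h).app _).inv ≫
      (Scheme.Modules.pushforward h).map (twistChartIso pB chartB n U hU).hom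
  have hμval : ∀ (U : Y.Opens) (hU : IsAffineOpen U) (W : PA.Opens) (s : Γ(LA, W)) (y : ProjectiveSpectrum (ℬ.deg U hU))
      (hy : (RelProj.emb pB chartB U hU).base y ∈ h ⁻¹ᵁ W)
      (hy' : (RelProj.emb pA chartA U hU).base
          (ProjectiveSpectrum.comap (RelProj.gradedHomAt φ hφ U hU) (hirr U hU) y) ∈ W),
      GrMod.val (V := RelProj.emb pB chartB U hU ⁻¹ᵁ (h ⁻¹ᵁ W)) ((μ U hU).app W s) ⟨y, hy⟩ =
        GrTwist.locMap (RelProj.gradedHomAt φ hφ U hU) (hirr U hU) y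
          (GrTwist.val (V := RelProj.emb pA chartA U hU ⁻¹ᵁ W) ((lamA U hU).app W s) ⟨_, hy'⟩) :=
    fun U hU W s y hy hy' => rfl
  have hcompat : ∀ (U D : Y.Opens) (hU : IsAffineOpen U) (hD : IsAffineOpen D) (r : Γ(Y, U)) (e : D = Y.basicOpen r),
      μ D hD = μ U hU ≫ (Scheme.Modules.pushforward h).map (chartTrans (selfGrModule ℬ) hB n hU hD r e) := by
    intro U D hU hD r e
    subst e
    refine Scheme.Modules.hom_ext _ _ fun W => ?_
    ext s
    refine sect_ext fun z => ?_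
    obtain ⟨z, hz⟩ := z
    have hzA : (RelProj.emb pA chartA (Y.basicOpen r) (hU.basicOpen r)).base
        (ProjectiveSpectrum.comap (RelProj.gradedHomAt φ hφ _ (hU.basicOpen r)) (hirr _ (hU.basicOpen r)) z) ∈ W := by
      have e := congrArg (fun q : Proj (ℬ.deg (Y.basicOpen r) (hU.basicOpen r)) ⟶ PA => q.base z)
        (map_emb_relProjMap hh (Y.basicOpen r) (hU.basicOpen r))
      exact Eq.mpr (congrArg (· ∈ W) e) hz
    have hzB := emb_comap_mem hB hU (hU.basicOpen r) r rfl (W := h ⁻¹ᵁ W) hz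
    have hzBA : (RelProj.emb pA chartA U hU).base (ProjectiveSpectrum.comap (RelProj.gradedHomAt φ hφ U hU) (hirr U hU)
        (ProjectiveSpectrum.comap (ℬ.res hU (hU.basicOpen r) (Y.basicOpen_le r)) (irr_basic hU (hU.basicOpen r) r rfl) z)) ∈ W := by
      have e := congrArg (fun q : Proj (ℬ.deg U hU) ⟶ PA => q.base
        (ProjectiveSpectrum.comap (ℬ.res hU (hU.basicOpen r) (Y.basicOpen_le r)) (irr_basic hU (hU.basicOpen r) r rfl) z))
        (map_emb_relProjMap hh U hU)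
      exact Eq.mpr (congrArg (· ∈ W) e) hzB
    have hzAA := emb_comap_mem hA hU (hU.basicOpen r) r rfl (W := W) hzA
    refine (hμval _ _ W s z hz hzA).trans ?_
    refine Eq.trans ?_ (chartTrans_val (selfGrModule ℬ) hB n hU (hU.basicOpen r) r rfl (h ⁻¹ᵁ W) ((μ U hU).app W s) z hz).symm
    refine Eq.trans ?_ (congrArg (GrMod.locModMap _ _ _ z) (hμval U hU W s _ hzB hzBA).symm)
    refine Eq.trans ?_ (locModMap_eq_locMap (ℬ.res hU (hU.basicOpen r) (Y.basicOpen_le r))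
      (irr_basic hU (hU.basicOpen r) r rfl) ((selfGrModule ℬ).res hU (hU.basicOpen r) (Y.basicOpen_le r))
      (fun _ => rfl) z _)
    refine (congrArg (GrTwist.locMap _ _ z) (hLA.compat U hU r W s _ hzA hzAA)).trans ?_
    have hpt : ProjectiveSpectrum.comap (𝒜.res hU (hU.basicOpen r) (Y.basicOpen_le r)) (𝒜.irrelevant_le_map U hU r)
          (ProjectiveSpectrum.comap (RelProj.gradedHomAt φ hφ _ (hU.basicOpen r)) (hirr _ (hU.basicOpen r)) z) =
        ProjectiveSpectrum.comap (RelProj.gradedHomAt φ hφ U hU) (hirr U hU)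
          (ProjectiveSpectrum.comap (ℬ.res hU (hU.basicOpen r) (Y.basicOpen_le r)) (irr_basic hU (hU.basicOpen r) r rfl) z) := by
      refine (RelProj.emb pA chartA U hU).isOpenEmbedding.injective ?_
      have e1 := congrArg (fun q : Proj (ℬ.deg U hU) ⟶ PA => q.base
        (ProjectiveSpectrum.comap (ℬ.res hU (hU.basicOpen r) (Y.basicOpen_le r)) (irr_basic hU (hU.basicOpen r) r rfl) z))
        (map_emb_relProjMap hh U hU)
      have e2 := congrArg (fun q : Proj (ℬ.deg (Y.basicOpen r) (hU.basicOpen r)) ⟶ PA => q.base z)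
        (map_emb_relProjMap hh (Y.basicOpen r) (hU.basicOpen r))
      exact ((emb_comap hA hU (hU.basicOpen r) r rfl _).trans e2).trans
        ((congrArg h.base (emb_comap hB hU (hU.basicOpen r) r rfl z).symm).trans e1.symm)
    exact locMap_square _ _ _ _ _ _ _ _ (fun x => (ConcreteCategory.congr_hom
      (φ.hom.naturality (homOfLE (Y.basicOpen_le r)).op) x)) z (n := n) _ rfl _ _
      (exists_common_frac ((lamA U hU).app W s) _ _ hpt hzAA hzBA)
  let adj := Scheme.Modules.pullbackPushforwardAdjunction h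
  obtain ⟨ψ, hψ⟩ := exists_lift hB (isLocalGrModule_self ℬ) _ (isRelTilde_of_isRelTwist hLB)
    (fun U hU => (adj.homEquiv _ _).symm (μ U hU)) fun U D hU hD r e => by
      rw [hcompat U D hU hD r e, adj.homEquiv_naturality_right_symm]
  have hθ : ∀ (U : Y.Opens) (hU : IsAffineOpen U), (adj.homEquiv _ _ ψ) ≫ (Scheme.Modules.pushforward h).map
      (lamB U hU ≫ (twistChartIso pB chartB n U hU).hom) = μ U hU := fun U hU => by
    rw [← adj.homEquiv_naturality_right, hψ U hU, Equiv.apply_symm_apply]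
  refine ⟨adj.homEquiv _ _ ψ, fun U hU W s y hy hy' => ?_, fun θ' hθ' => ?_⟩
  · refine Eq.trans ?_ (hμval U hU W s y hy hy')
    exact congrArg (fun q => GrMod.val (V := RelProj.emb pB chartB U hU ⁻¹ᵁ (h ⁻¹ᵁ W)) q ⟨y, hy⟩)
      (ConcreteCategory.congr_hom (congrArg (fun q => Scheme.Modules.Hom.app q W) (hθ U hU)) s)
  · refine (adj.homEquiv _ _).symm.injective ?_
    rw [Equiv.symm_apply_apply]
    refine hom_ext_lam _ (isRelTilde_of_isRelTwist hLB).bijective fun U hU => ?_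
    rw [hψ U hU, ← adj.homEquiv_naturality_right_symm]
    refine congrArg _ (Scheme.Modules.hom_ext _ _ fun W => ?_)
    ext s
    refine sect_ext fun z => ?_
    obtain ⟨y, hy⟩ := z
    have hy' : (RelProj.emb pA chartA U hU).base
        (ProjectiveSpectrum.comap (RelProj.gradedHomAt φ hφ U hU) (hirr U hU) y) ∈ W := by
      have e := congrArg (fun q : Proj (ℬ.deg U hU) ⟶ PA => q.base y) (map_emb_relProjMap hh U hU)
      exact Eq.mpr (congrArg (· ∈ W) e) hy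
    exact (hθ' U hU W s y hy hy').trans (hμval U hU W s y hy hy').symm

end Groth.Agent.TwistLib.G
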