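import Groth.Agent.TwistLib.G.Map
import Groth.Agent.TwistLib.G.TwistBasics

/-!
# Sections of `M(n)~` over `D₊(f)` and base change of the degree zero part

If `N = R' ⊗_R M` and `B = R' ⊗_R A` then `Γ(D₊(ψ f), N(n)~)` is the base change of `Γ(D₊(f), M(n)~)`, for `f`
homogeneous of any positive degree.
-/

set_option autoImplicit false
set_option linter.unusedSectionVars false
set_option backward.isDefEq.respectTransparency.types false

universe u

open DirectSum AlgebraicGeometry CategoryTheory TopologicalSpace Opposite HomogeneousLocalization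
open Groth.Agent.ProjLib Groth.Agent.Coherent Groth.Agent.PicLib Groth.Agent.AmpleLib
open scoped HomogeneousIdeal

namespace Groth.Agent.TwistLib.G

section sec

variable {A σ : Type u} [CommRing A] [SetLike σ A] [AddSubgroupClass σ A] {𝒜 : ℕ → σ} [GradedRing 𝒜]
variable {d : ℕ} (hd : 0 < d) {f : A} (hf : f ∈ 𝒜 d)

/-- A degree zero element as a section over `D₊(f)`. -/
noncomputable def zsec (a : A) (ha : a ∈ 𝒜 0) : Γ(Proj 𝒜, Proj.basicOpen 𝒜 f) :=
  (Proj.awayToSection 𝒜 f).hom (Away.mk 𝒜 hf 0 a (by simpa using ha))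

theorem zsec_val (a : A) (ha : a ∈ 𝒜 0) (x : ProjectiveSpectrum.basicOpen 𝒜 f) :
    HomogeneousLocalization.val ((zsec hf a ha : GrTwist.O (op (ProjectiveSpectrum.basicOpen 𝒜 f))).1 x) =
      Localization.mk a ⟨f ^ 0, pow_notMem x.2 0⟩ :=
  val_awayToSection_mk hf 0 a _ x

variable {M τ : Type u} [AddCommGroup M] [Module A M] [SetLike τ M] [AddSubgroupClass τ M] (ℳ : ℕ → τ)
  [SetLike.GradedSMul 𝒜 ℳ] [DirectSum.Decomposition ℳ] (n : ℤ)

open Classical in
/-- `m ↦ m / f ^ l` in degree `n + l d`, zero in the other degrees. -/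
noncomputable def degPiece (i : ℕ) : ℳ i →+ GrMod.sect 𝒜 ℳ n (op (ProjectiveSpectrum.basicOpen 𝒜 f)) :=
  if h : ∃ q : ℕ × ℕ, ((q.1 * d : ℕ) : ℤ) + i = ((q.2 * d : ℕ) : ℤ) + n then
    { toFun := fun m => fracSect _
        (⟨f ^ h.choose.1 • (m : M), SetLike.GradedSMul.smul_mem (pow_mem_deg hf _) m.2⟩ : ℳ (h.choose.1 * d + i))
        (⟨f ^ h.choose.2, pow_mem_deg hf _⟩ : 𝒜 (h.choose.2 * d))
        (fun x => pow_notMem x.2 _) (by have := h.choose_spec; push_cast at this ⊢; omega)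
      map_zero' := sect_ext fun x => by
        show LocalizedModule.mk (f ^ _ • ((0 : ℳ i) : M)) _ = 0
        rw [ZeroMemClass.coe_zero, smul_zero, LocalizedModule.zero_mk]
      map_add' := fun m m' => sect_ext fun x => by
        show LocalizedModule.mk (f ^ _ • ((m + m' : ℳ i) : M)) _ =
          LocalizedModule.mk (f ^ _ • (m : M)) _ + LocalizedModule.mk (f ^ _ • (m' : M)) _
        rw [LocalizedModule.mk_add_mk, AddMemClass.coe_add, smul_add]
        refine LocalizedModule.mk_eq.mpr ⟨1, ?_⟩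
        simp only [Submonoid.smul_def, Submonoid.coe_mul, Submonoid.coe_one, one_smul, smul_add, mul_smul] }
  else 0

/-- The degree `n` part of `M[1/f]` applied componentwise. -/
noncomputable def degSec : M →+ Γ(GrMod.tilde 𝒜 ℳ n, Proj.basicOpen 𝒜 f) :=
  (DirectSum.toAddMonoid fun i => degPiece hf ℳ n i).comp (DirectSum.decomposeAddEquiv ℳ).toAddMonoidHom

theorem degSec_of_mem {i : ℕ} {m : M} (hm : m ∈ ℳ i) : degSec hf ℳ n m = degPiece hf ℳ n i ⟨m, hm⟩ :=
  (congrArg (DirectSum.toAddMonoid fun i => degPiece hf ℳ n i)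
    (decompose_of_mem ℳ hm)).trans (toAddMonoid_of _ i _)

theorem degSec_eq_zero_of_not {i : ℕ} {m : M} (hm : m ∈ ℳ i)
    (h : ¬ ∃ q : ℕ × ℕ, ((q.1 * d : ℕ) : ℤ) + i = ((q.2 * d : ℕ) : ℤ) + n) : degSec hf ℳ n m = 0 := by
  rw [degSec_of_mem hf ℳ n hm, degPiece, dif_neg h]
  rfl

include hd in
theorem degSec_val {i : ℕ} {m : M} (hm : m ∈ ℳ i) (a b : ℕ)
    (hab : ((a * d : ℕ) : ℤ) + i = ((b * d : ℕ) : ℤ) + n) (x : ProjectiveSpectrum.basicOpen 𝒜 f) :
    GrMod.val (degSec hf ℳ n m) x = LocalizedModule.mk (f ^ a • m) ⟨f ^ b, pow_notMem x.2 b⟩ := by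
  have h : ∃ q : ℕ × ℕ, ((q.1 * d : ℕ) : ℤ) + i = ((q.2 * d : ℕ) : ℤ) + n := ⟨(a, b), hab⟩
  rw [degSec_of_mem hf ℳ n hm, degPiece, dif_pos h]
  show LocalizedModule.mk (f ^ h.choose.1 • m) _ = _
  refine LocalizedModule.mk_eq.mpr ⟨1, ?_⟩
  show (1 : A) • f ^ b • f ^ h.choose.1 • m = (1 : A) • f ^ h.choose.2 • f ^ a • m
  rw [smul_smul (f ^ b), smul_smul _ (f ^ a), ← pow_add, ← pow_add]
  congr 3
  refine Nat.eq_of_mul_eq_mul_right hd ?_
  have := h.choose_spec
  push_cast at this hab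
  rw [add_mul, add_mul]
  omega

include hd in
theorem degSec_self_smul (m : M) : degSec hf ℳ n (f • m) = degSec hf ℳ n m := by
  induction m using DirectSum.Decomposition.inductionOn (ℳ := ℳ) with
  | zero => rw [smul_zero]
  | add x y hx hy => rw [smul_add, map_add, map_add, hx, hy]
  | @homogeneous i m =>
    have hfm : f • (m : M) ∈ ℳ (d + i) := SetLike.GradedSMul.smul_mem hf m.2
    by_cases h : ∃ q : ℕ × ℕ, ((q.1 * d : ℕ) : ℤ) + i = ((q.2 * d : ℕ) : ℤ) + n
    · obtain ⟨⟨a, b⟩, hab⟩ := h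
      refine sect_ext fun x => (degSec_val hd hf ℳ n hfm a (b + 1) (by push_cast at hab ⊢; rw [add_mul, one_mul]; omega) x).trans ?_
      refine Eq.trans ?_ (degSec_val hd hf ℳ n m.2 a b hab x).symm
      refine LocalizedModule.mk_eq.mpr ⟨1, ?_⟩
      show (1 : A) • f ^ b • f ^ a • f • (m : M) = (1 : A) • f ^ (b + 1) • f ^ a • (m : M)
      rw [smul_comm (f ^ a) f (m : M), smul_smul (f ^ b) f, ← pow_succ]
    · rw [degSec_eq_zero_of_not hf ℳ n m.2 h, degSec_eq_zero_of_not hf ℳ n hfm]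
      rintro ⟨⟨a, b⟩, hab⟩
      exact h ⟨(a + 1, b), by push_cast at hab ⊢; rw [add_mul, one_mul]; omega⟩

include hd in
theorem degSec_zero_smul (c : A) (hc : c ∈ 𝒜 0) (m : M) :
    degSec hf ℳ n (c • m) = zsec hf c hc • degSec hf ℳ n m := by
  induction m using DirectSum.Decomposition.inductionOn (ℳ := ℳ) with
  | zero => rw [smul_zero, map_zero, smul_zero]
  | add x y hx hy => rw [smul_add, map_add, map_add, hx, hy, smul_add]
  | @homogeneous i m =>
    have hcm : c • (m : M) ∈ ℳ i := by simpa using SetLike.GradedSMul.smul_mem hc m.2 (B := ℳ)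
    by_cases h : ∃ q : ℕ × ℕ, ((q.1 * d : ℕ) : ℤ) + i = ((q.2 * d : ℕ) : ℤ) + n
    · obtain ⟨⟨a, b⟩, hab⟩ := h
      refine sect_ext fun x => (degSec_val hd hf ℳ n hcm a b hab x).trans ?_
      refine Eq.trans ?_ (GrMod.coe_smul_val n x.1 _ _).symm
      refine Eq.trans ?_ (congrArg₂ (· • ·) (zsec_val hf c hc x).symm (degSec_val hd hf ℳ n m.2 a b hab x).symm)
      rw [LocalizedModule.mk_smul_mk]
      refine LocalizedModule.mk_eq.mpr ⟨1, ?_⟩
      show (1 : A) • (f ^ 0 * f ^ b) • f ^ a • c • (m : M) = (1 : A) • f ^ b • c • f ^ a • (m : M)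
      rw [pow_zero, one_mul, smul_comm c (f ^ a)]
    · rw [degSec_eq_zero_of_not hf ℳ n m.2 h, degSec_eq_zero_of_not hf ℳ n hcm h, smul_zero]

include hd in
theorem degSec_surjective : Function.Surjective (degSec hf ℳ n) := fun s => by
  obtain ⟨k, i, m, hi, hm⟩ := exists_frac (ℳ := ℳ) (n := n) hd hf s
  refine ⟨m, sect_ext fun x => ?_⟩
  refine (degSec_val hd hf ℳ n m.2 0 k (by push_cast at hi ⊢; omega) x).trans ?_
  rw [pow_zero, one_smul]
  exact (hm x).symm

include hd in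
theorem exists_pow_smul_of_degSec_eq_zero {i : ℕ} {m : M} (hm : m ∈ ℳ i) (a b : ℕ)
    (hab : ((a * d : ℕ) : ℤ) + i = ((b * d : ℕ) : ℤ) + n) (h : degSec hf ℳ n m = 0) : ∃ N : ℕ, f ^ N • m = 0 := by
  obtain ⟨N, hN⟩ := exists_pow_smul_eq_zero_of_frac (ℳ := ℳ) hd hf (k := b)
    (SetLike.GradedSMul.smul_mem (pow_mem_deg hf a) hm) fun x => (degSec_val hd hf ℳ n hm a b hab x).symm.trans
      (congrArg (fun z => GrMod.val (V := ProjectiveSpectrum.basicOpen 𝒜 f) z x) h)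
  exact ⟨N + a, by rw [pow_add, mul_smul, hN]⟩

/-- An element of degree a multiple of `d`, over a power of `f`. -/
noncomputable def psec (k : ℕ) (a : A) (ha : a ∈ 𝒜 (k • d)) : Γ(Proj 𝒜, Proj.basicOpen 𝒜 f) :=
  (Proj.awayToSection 𝒜 f).hom (Away.mk 𝒜 hf k a ha)

include hd in
theorem exists_psec (t : Γ(Proj 𝒜, Proj.basicOpen 𝒜 f)) : ∃ (k : ℕ) (a : A) (ha : a ∈ 𝒜 (k • d)), psec hf k a ha = t := by
  obtain ⟨q, rfl⟩ := (ConcreteCategory.bijective_of_isIso (Proj.basicOpenIsoAway 𝒜 f hf hd).hom).2 t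
  obtain ⟨k, a, ha, rfl⟩ := Away.mk_surjective 𝒜 hf q
  exact ⟨k, a, ha, rfl⟩

theorem psec_add (k : ℕ) (a a' : A) (ha : a ∈ 𝒜 (k • d)) (ha' : a' ∈ 𝒜 (k • d)) :
    psec hf k (a + a') (add_mem ha ha') = psec hf k a ha + psec hf k a' ha' := by
  rw [psec, psec, psec, ← map_add]
  exact congrArg _ (val_injective _ (by rw [val_add]; simp [Away.val_mk, Localization.add_mk_self]))

theorem psec_zero (k : ℕ) : psec hf k 0 (zero_mem _) = 0 := by
  rw [psec, ← map_zero (Proj.awayToSection 𝒜 f).hom]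
  exact congrArg _ (val_injective _ (by simp [Away.val_mk, Localization.mk_zero]))

theorem psec_zsec_mul (k : ℕ) (c : A) (hc : c ∈ 𝒜 0) (a : A) (ha : a ∈ 𝒜 (k • d)) (hca : c * a ∈ 𝒜 (k • d)) :
    psec hf k (c * a) hca = zsec hf c hc * psec hf k a ha := by
  rw [psec, zsec, psec, ← map_mul]
  exact congrArg _ (val_injective _ (by rw [val_mul]; simp [Away.val_mk, Localization.mk_mul]))

theorem psec_congr (k : ℕ) {a a' : A} (e : a = a') (ha : a ∈ 𝒜 (k • d)) (ha' : a' ∈ 𝒜 (k • d)) :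
    psec hf k a ha = psec hf k a' ha' := by
  subst e
  rfl

end sec

section baseChange

variable {A σ : Type u} [CommRing A] [SetLike σ A] [AddSubgroupClass σ A] {𝒜 : ℕ → σ} [GradedRing 𝒜]
variable {B σ' : Type u} [CommRing B] [SetLike σ' B] [AddSubgroupClass σ' B] {ℬ : ℕ → σ'} [GradedRing ℬ]
variable {M τ : Type u} [AddCommGroup M] [Module A M] [SetLike τ M] [AddSubgroupClass τ M] {ℳ : ℕ → τ}
  [SetLike.GradedSMul 𝒜 ℳ] [DirectSum.Decomposition ℳ]
variable {N τ' : Type u} [AddCommGroup N] [Module B N] [SetLike τ' N] [AddSubgroupClass τ' N] {𝒩 : ℕ → τ'}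
  [SetLike.GradedSMul ℬ 𝒩] [DirectSum.Decomposition 𝒩]
variable (ψ : 𝒜 →+*ᵍ ℬ) (hψ : ℬ₊ ≤ (𝒜₊).map ψ) (v : M →ₛₗ[ψ.toRingHom] N)
  (hv : ∀ (i : ℕ) (m : M), m ∈ ℳ i → v m ∈ 𝒩 i)
variable {d : ℕ} (hd : 0 < d) {f : A} (hf : f ∈ 𝒜 d) (n : ℤ)

theorem appLE_psec (k : ℕ) (a : A) (ha : a ∈ 𝒜 (k • d)) :
    (Proj.map ψ hψ).appLE (Proj.basicOpen 𝒜 f) (Proj.basicOpen ℬ (ψ f)) le_rfl (psec hf k a ha) =
      psec (ψ.map_mem hf) k (ψ a) (ψ.map_mem ha) := by
  refine (ConcreteCategory.congr_hom (Proj.awayToSection_comp_appLE ψ hψ hf) _).trans ?_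
  show (Proj.awayToSection ℬ (ψ f)).hom (Away.map ψ f _) = _
  rw [Away.map_mk]
  rfl

/-- The comparison map on sections over standard opens. -/
noncomputable def comapD : Γ(GrMod.tilde 𝒜 ℳ n, Proj.basicOpen 𝒜 f) →+ Γ(GrMod.tilde ℬ 𝒩 n, Proj.basicOpen ℬ (ψ f)) :=
  GrMod.comapApp ψ hψ v hv n (ProjectiveSpectrum.basicOpen 𝒜 f) (ProjectiveSpectrum.basicOpen ℬ (ψ f))
    (fun _ h => h)

include hd in
theorem comapD_degSec (m : M) :
    comapD ψ hψ v hv n (degSec hf ℳ n m) = degSec (ψ.map_mem hf) 𝒩 n (v m) := by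
  induction m using DirectSum.Decomposition.inductionOn (ℳ := ℳ) with
  | zero => simp only [map_zero]
  | add x y hx hy => simp only [map_add, hx, hy]
  | @homogeneous i m =>
    by_cases h : ∃ q : ℕ × ℕ, ((q.1 * d : ℕ) : ℤ) + i = ((q.2 * d : ℕ) : ℤ) + n
    · obtain ⟨⟨a, b⟩, hab⟩ := h
      refine sect_ext fun y => ?_
      refine Eq.trans ?_ (degSec_val hd (ψ.map_mem hf) 𝒩 n (hv i m m.2) a b hab y).symm
      refine (congrArg (GrMod.locModMap ψ hψ v y.1) (degSec_val hd hf ℳ n m.2 a b hab ⟨_, y.2⟩)).trans ?_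
      rw [GrMod.locModMap_mk]
      exact congrArg₂ LocalizedModule.mk
        ((LinearMap.map_smulₛₗ v _ _).trans (congrArg (· • v m.1) (map_pow ψ f _))) (Subtype.ext (map_pow ψ f _))
    · rw [degSec_eq_zero_of_not hf ℳ n m.2 h, map_zero, degSec_eq_zero_of_not _ 𝒩 n (hv i m m.2) h]

theorem comapD_smul (c : Γ(Proj 𝒜, Proj.basicOpen 𝒜 f)) (s : Γ(GrMod.tilde 𝒜 ℳ n, Proj.basicOpen 𝒜 f)) :
    comapD ψ hψ v hv n (c • s) =
      (Proj.map ψ hψ).appLE (Proj.basicOpen 𝒜 f) (Proj.basicOpen ℬ (ψ f)) le_rfl c • comapD ψ hψ v hv n s :=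
  (GrMod.comapApp_smul ψ hψ v hv n _ _ _ c s).trans rfl

variable {R R' : Type u} [CommRing R] [CommRing R'] (ρ : R →+* R') (iA : R →+* A) (iB : R' →+* B)
  (hA0 : ∀ r, iA r ∈ 𝒜 0) (hB0 : ∀ r, iB r ∈ ℬ 0) (hsq : ∀ r, ψ (iA r) = iB (ρ r))
  (hspanN : ∀ x : N, x ∈ AddSubmonoid.closure (Set.range fun q : R' × M => iB q.1 • v q.2))

include hd hf hB0 hspanN in
/-- The sections over `D₊(ψ f)` are spanned by those over `D₊(f)`. -/
theorem comapD_span (t : Γ(GrMod.tilde ℬ 𝒩 n, Proj.basicOpen ℬ (ψ f))) :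
    t ∈ AddSubmonoid.closure (Set.range fun q : Γ(Proj ℬ, Proj.basicOpen ℬ (ψ f)) ×
      Γ(GrMod.tilde 𝒜 ℳ n, Proj.basicOpen 𝒜 f) => q.1 • comapD ψ hψ v hv n q.2) := by
  obtain ⟨x, rfl⟩ := degSec_surjective hd (ψ.map_mem hf) 𝒩 n t
  induction hspanN x using AddSubmonoid.closure_induction with
  | mem x hx =>
    obtain ⟨⟨r, m⟩, rfl⟩ := hx
    exact AddSubmonoid.subset_closure ⟨⟨zsec (ψ.map_mem hf) (iB r) (hB0 r), degSec hf ℳ n m⟩,
      ((degSec_zero_smul hd (ψ.map_mem hf) 𝒩 n _ (hB0 r) (v m)).trans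
        (congrArg _ (comapD_degSec ψ hψ v hv hd hf n m).symm)).symm⟩
  | zero => rw [map_zero]; exact zero_mem _
  | add x y _ _ hx hy => rw [map_add]; exact add_mem hx hy

include hd hf hA0 hB0 hsq hspanN in
/-- The universal property of base change for the sections over standard opens. -/
theorem comapD_lift
    (hspanB : ∀ b : B, b ∈ AddSubmonoid.closure (Set.range fun q : R' × A => iB q.1 * ψ q.2))
    (hbc : ∀ (Q : Type u) [AddCommGroup Q] [Module R' Q] (w : M →+ Q), (∀ r m, w (iA r • m) = ρ r • w m) →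
      ∃ β : N →+ Q, (∀ r x, β (iB r • x) = r • β x) ∧ ∀ m, β (v m) = w m)
    (Q : Type u) [AddCommGroup Q] [Module Γ(Proj ℬ, Proj.basicOpen ℬ (ψ f)) Q]
    (w : Γ(GrMod.tilde 𝒜 ℳ n, Proj.basicOpen 𝒜 f) →+ Q)
    (hw : ∀ c s, w (c • s) =
      (Proj.map ψ hψ).appLE (Proj.basicOpen 𝒜 f) (Proj.basicOpen ℬ (ψ f)) le_rfl c • w s) :
    ∃ β : Γ(GrMod.tilde ℬ 𝒩 n, Proj.basicOpen ℬ (ψ f)) →+ Q,
      (∀ (c : Γ(Proj ℬ, Proj.basicOpen ℬ (ψ f))) (t : Γ(GrMod.tilde ℬ 𝒩 n, Proj.basicOpen ℬ (ψ f))),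
        β (c • t) = c • β t) ∧ ∀ s, β (comapD ψ hψ v hv n s) = w s := by
  classical
  have hg : ψ f ∈ ℬ d := ψ.map_mem hf
  have hz : ∀ r, (Proj.map ψ hψ).appLE (Proj.basicOpen 𝒜 f) (Proj.basicOpen ℬ (ψ f)) le_rfl
      (zsec hf (iA r) (hA0 r)) = zsec hg (iB (ρ r)) (hB0 _) := fun r =>
    (appLE_psec ψ hψ hf 0 _ _).trans (psec_congr hg 0 (hsq r) _ _)
  let z : R' →+* Γ(Proj ℬ, Proj.basicOpen ℬ (ψ f)) :=
    { toFun := fun r => zsec hg (iB r) (hB0 r)
      map_one' := by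
        rw [zsec, ← map_one (Proj.awayToSection ℬ (ψ f)).hom]
        exact congrArg _ (val_injective _ (by simp [Away.val_mk, val_one, ← Localization.mk_one]))
      map_mul' := fun r r' =>
        (psec_congr hg 0 (map_mul iB r r') _ (by simpa using SetLike.mul_mem_graded (hB0 r) (hB0 r'))).trans
          (psec_zsec_mul hg 0 _ (hB0 r) _ (by simpa using hB0 r') _)
      map_zero' := (psec_congr hg 0 (map_zero iB) _ (zero_mem _)).trans (psec_zero hg 0)
      map_add' := fun r r' =>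
        (psec_congr hg 0 (map_add iB r r') _ (add_mem (by simpa using hB0 r) (by simpa using hB0 r'))).trans
          (psec_add hg 0 _ _ _ _) }
  let _ : Module R' Q := Module.compHom Q z
  obtain ⟨β, hβl, hβ⟩ := hbc Q (w.comp (degSec hf ℳ n)) fun r m => by
    show w (degSec hf ℳ n (iA r • m)) = z (ρ r) • w (degSec hf ℳ n m)
    rw [degSec_zero_smul hd hf ℳ n _ (hA0 r), hw, hz]
    rfl
  have hβz : ∀ r x, β (iB r • x) = z r • β x := hβl
  have hext : ∀ (L₁ L₂ : N →+ Q), (∀ r m, L₁ (iB r • v m) = L₂ (iB r • v m)) → L₁ = L₂ := fun L₁ L₂ h => by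
    refine AddMonoidHom.ext fun x => ?_
    induction hspanN x using AddSubmonoid.closure_induction with
    | mem x hx => obtain ⟨⟨r, m⟩, rfl⟩ := hx; exact h r m
    | zero => rw [map_zero, map_zero]
    | add x y _ _ hx hy => rw [map_add, map_add, hx, hy]
  have hfsmul : ∀ x, β (ψ f • x) = β x := fun x => by
    refine DFunLike.congr_fun (hext (β.comp (DistribSMul.toAddMonoidHom N (ψ f))) β fun r m => ?_) x
    show β (ψ f • iB r • v m) = β (iB r • v m)
    rw [smul_comm (ψ f) (iB r) (v m), hβz, hβz]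
    refine congrArg (z r • ·) ?_
    refine (congrArg β (LinearMap.map_smulₛₗ v f m).symm).trans ?_
    rw [hβ, hβ]
    exact congrArg w (degSec_self_smul hd hf ℳ n m)
  have hpow : ∀ (k : ℕ) x, β (ψ f ^ k • x) = β x := fun k x => by
    induction k with
    | zero => rw [pow_zero, one_smul]
    | succ k ih => rw [pow_succ', mul_smul, hfsmul, ih]
  have hcomp : ∀ (i : ℕ) (r : R') (m : M),
      (decompose 𝒩 (iB r • v m) i : N) = iB r • v (decompose ℳ m i : M) := fun i r m => by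
    rw [map_decompose v hv]
    have := decompose_homogeneous_smul (ℳ := 𝒩) (hB0 r) (v m) i
    rwa [Nat.zero_add] at this
  have hoff : ∀ i : ℕ, (¬ ∃ q : ℕ × ℕ, ((q.1 * d : ℕ) : ℤ) + i = ((q.2 * d : ℕ) : ℤ) + n) →
      ∀ x ∈ 𝒩 i, β x = 0 := fun i hi x hx => by
    have : ∀ y : N, β (decompose 𝒩 y i : N) = 0 := fun y => by
      induction hspanN y using AddSubmonoid.closure_induction with
      | mem y hy =>
        obtain ⟨⟨r, m⟩, rfl⟩ := hy
        rw [hcomp, hβz, hβ]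
        show z r • w (degSec hf ℳ n (decompose ℳ m i : M)) = 0
        rw [degSec_eq_zero_of_not hf ℳ n (decompose ℳ m i).2 hi, map_zero, smul_zero]
      | zero => rw [decompose_zero]; exact map_zero β
      | add y y' _ _ h h' => rw [decompose_add, DirectSum.add_apply, AddMemClass.coe_add, map_add, h, h', add_zero]
    simpa [decompose_of_mem_same 𝒩 hx] using this x
  have hhom : ∀ x : N, ∃ K, ∀ K', K ≤ K' → ∃ zz : N,
      (∀ i : ℕ, (i : ℤ) = ((K' * d : ℕ) : ℤ) + n → zz ∈ 𝒩 i) ∧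
        β zz = β x ∧ degSec hg 𝒩 n zz = degSec hg 𝒩 n x := by
    intro x
    induction x using DirectSum.Decomposition.inductionOn (ℳ := 𝒩) with
    | zero => exact ⟨0, fun K' _ => ⟨0, fun i _ => zero_mem _, rfl, rfl⟩⟩
    | @homogeneous i y =>
      by_cases h : ∃ q : ℕ × ℕ, ((q.1 * d : ℕ) : ℤ) + i = ((q.2 * d : ℕ) : ℤ) + n
      · obtain ⟨⟨a, b⟩, hab⟩ := h
        refine ⟨b, fun K' hK => ?_⟩
        refine ⟨ψ f ^ (K' - b + a) • (y : N), fun j hj => ?_, hpow _ _, ?_⟩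
        · have e : j = (K' - b + a) * d + i := by
            obtain ⟨c, rfl⟩ := Nat.exists_eq_add_of_le hK
            simp only [Nat.add_sub_cancel_left]
            push_cast [add_mul] at hab hj
            rw [add_mul]
            omega
          rw [e]
          exact SetLike.GradedSMul.smul_mem (pow_mem_deg hg _) y.2
        · generalize K' - b + a = k
          induction k with
          | zero => rw [pow_zero, one_smul]
          | succ k ih => rw [pow_succ', mul_smul, degSec_self_smul hd hg 𝒩 n, ih]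
      · exact ⟨0, fun K' _ => ⟨0, fun i _ => zero_mem _, by rw [map_zero, hoff i h _ y.2],
          by rw [map_zero, degSec_eq_zero_of_not hg 𝒩 n y.2 h]⟩⟩
    | add x x' hx hx' =>
      obtain ⟨K, hK⟩ := hx
      obtain ⟨K₁, hK₁⟩ := hx'
      refine ⟨max K K₁, fun K' h => ?_⟩
      obtain ⟨y, hy, e, e₁⟩ := hK K' (le_of_max_le_left h)
      obtain ⟨y', hy', e', e₁'⟩ := hK₁ K' (le_of_max_le_right h)
      exact ⟨y + y', fun i hi => add_mem (hy i hi) (hy' i hi), by rw [map_add, map_add, e, e'],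
        by rw [map_add, map_add, e₁, e₁']⟩
  have hker : ∀ x, degSec hg 𝒩 n x = 0 → β x = 0 := fun x hx => by
    obtain ⟨K, hK⟩ := hhom x
    obtain ⟨y, hy, e, e₁⟩ := hK (max K n.natAbs) (le_max_left _ _)
    have hle : n.natAbs ≤ max K n.natAbs * d := (le_max_right _ _).trans (Nat.le_mul_of_pos_right _ hd)
    obtain ⟨i, hi⟩ : ∃ i : ℕ, (i : ℤ) = ((max K n.natAbs * d : ℕ) : ℤ) + n :=
      ⟨(((max K n.natAbs * d : ℕ) : ℤ) + n).toNat, by omega⟩
    obtain ⟨N', hN⟩ := exists_pow_smul_of_degSec_eq_zero hd hg 𝒩 n (hy i hi) 0 (max K n.natAbs)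
      (by rw [zero_mul]; push_cast at hi ⊢; omega) (e₁.trans hx)
    rw [← e, ← hpow N' y, hN, map_zero]
  have hinv := Function.surjInv_eq (degSec_surjective hd hg 𝒩 n)
  have hwd : ∀ x x', degSec hg 𝒩 n x = degSec hg 𝒩 n x' → β x = β x' := fun x x' h => by
    rw [← sub_eq_zero, ← map_sub]
    exact hker _ (by rw [map_sub, h, sub_self])
  let β' : Γ(GrMod.tilde ℬ 𝒩 n, Proj.basicOpen ℬ (ψ f)) →+ Q :=
    AddMonoidHom.mk' (fun t => β (Function.surjInv (degSec_surjective hd hg 𝒩 n) t)) fun t t' => by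
      rw [← map_add]
      exact hwd _ _ (by rw [map_add, hinv, hinv, hinv])
  have hβ' : ∀ x, β' (degSec hg 𝒩 n x) = β x := fun x => hwd _ _ (hinv _)
  have hcom : ∀ s, β' (comapD ψ hψ v hv n s) = w s := fun s => by
    obtain ⟨m, rfl⟩ := degSec_surjective hd hf ℳ n s
    rw [comapD_degSec ψ hψ v hv hd hf n m, hβ', hβ]
    rfl
  have hzl : ∀ r t, β' (z r • t) = z r • β' t := fun r t => by
    obtain ⟨x, rfl⟩ := degSec_surjective hd hg 𝒩 n t
    rw [hβ', ← hβz, ← hβ']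
    exact congrArg β' (degSec_zero_smul hd hg 𝒩 n _ (hB0 r) x).symm
  have hΦl : ∀ c t, β' ((Proj.map ψ hψ).appLE (Proj.basicOpen 𝒜 f) (Proj.basicOpen ℬ (ψ f)) le_rfl c • t) =
      (Proj.map ψ hψ).appLE (Proj.basicOpen 𝒜 f) (Proj.basicOpen ℬ (ψ f)) le_rfl c • β' t := fun c t => by
    obtain ⟨x, rfl⟩ := degSec_surjective hd hg 𝒩 n t
    induction hspanN x using AddSubmonoid.closure_induction with
    | mem x hx =>
      obtain ⟨⟨r, m⟩, rfl⟩ := hx
      have e : degSec hg 𝒩 n (iB r • v m) = z r • comapD ψ hψ v hv n (degSec hf ℳ n m) :=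
        (degSec_zero_smul hd hg 𝒩 n _ (hB0 r) (v m)).trans (congrArg _ (comapD_degSec ψ hψ v hv hd hf n m).symm)
      rw [e, smul_comm _ (z r), hzl, hzl, ← comapD_smul, hcom, hcom, hw, smul_comm _ (z r)]
    | zero => rw [map_zero, smul_zero, map_zero, smul_zero]
    | add x y _ _ hx hy => rw [map_add, smul_add, map_add, hx, hy, map_add, smul_add]
  refine ⟨β', fun c t => ?_, hcom⟩
  obtain ⟨k, b, hb, rfl⟩ := exists_psec hd hg c
  have key : ∀ y : B, β' (psec hg k (decompose ℬ y (k • d) : B) (decompose ℬ y (k • d)).2 • t) =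
      psec hg k (decompose ℬ y (k • d) : B) (decompose ℬ y (k • d)).2 • β' t := fun y => by
    induction hspanB y using AddSubmonoid.closure_induction with
    | mem y hy =>
      obtain ⟨⟨r, a⟩, rfl⟩ := hy
      have e : (decompose ℬ (iB r * ψ a) (k • d) : B) = iB r * ψ (decompose 𝒜 a (k • d) : A) := by
        rw [GradedRingHom.map_directSumDecompose]
        have := decompose_homogeneous_smul (ℳ := ℬ) (hB0 r) (ψ a) (k • d)
        rwa [Nat.zero_add] at this
      have e' : psec hg k (decompose ℬ (iB r * ψ a) (k • d) : B) (decompose ℬ _ (k • d)).2 =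
          z r * (Proj.map ψ hψ).appLE (Proj.basicOpen 𝒜 f) (Proj.basicOpen ℬ (ψ f)) le_rfl
            (psec hf k (decompose 𝒜 a (k • d) : A) (decompose 𝒜 a (k • d)).2) := by
        rw [appLE_psec ψ hψ hf k]
        exact (psec_congr hg k e _ (e ▸ (decompose ℬ _ (k • d)).2)).trans (psec_zsec_mul hg k _ (hB0 r) _ _ _)
      rw [e', mul_smul, hzl, hΦl, mul_smul]
    | zero =>
      rw [psec_congr hg k (show (decompose ℬ (0 : B) (k • d) : B) = 0 by rw [decompose_zero]; rfl) _ (zero_mem _),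
        psec_zero, zero_smul, map_zero, zero_smul]
    | add y y' _ _ hy hy' =>
      rw [psec_congr hg k (show (decompose ℬ (y + y') (k • d) : B) =
          (decompose ℬ y (k • d) : B) + (decompose ℬ y' (k • d) : B) by
            rw [decompose_add, DirectSum.add_apply, AddMemClass.coe_add]) _
          (add_mem (decompose ℬ y (k • d)).2 (decompose ℬ y' (k • d)).2),
        psec_add hg k _ _ (decompose ℬ y (k • d)).2 (decompose ℬ y' (k • d)).2, add_smul, map_add, hy, hy', add_smul]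
  have := key b
  simpa only [decompose_of_mem_same ℬ hb] using this

end baseChange

end Groth.Agent.TwistLib.G
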