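import Groth.Agent.TwistLib.G.RelGenLocal
import Groth.Agent.AmpleLib.RestrictTensor

/-!
# The multiplication maps `(ℳ(p))~ ⊗ O_P(q) → (ℳ(p + q))~`
-/

set_option autoImplicit false
set_option linter.unusedSectionVars false
set_option backward.isDefEq.respectTransparency.types false
set_option maxHeartbeats 400000

universe u

open DirectSum AlgebraicGeometry CategoryTheory TopologicalSpace Opposite
open Groth.Agent.ProjLib Groth.Agent.Coherent Groth.Agent.PicLib Groth.Agent.AmpleLib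
open scoped HomogeneousIdeal

namespace Groth.Agent.TwistLib.G

section ring

/-- The induced maps respect the action of the localised ring. -/
theorem locModMap_smul {A σ : Type u} [CommRing A] [SetLike σ A] [AddSubgroupClass σ A] {𝒜 : ℕ → σ} [GradedRing 𝒜]
    {B σ' : Type u} [CommRing B] [SetLike σ' B] [AddSubgroupClass σ' B] {ℬ : ℕ → σ'} [GradedRing ℬ]
    {M : Type u} [AddCommGroup M] [Module A M] {M' : Type u} [AddCommGroup M'] [Module B M']
    (ψ : 𝒜 →+*ᵍ ℬ) (hψ : ℬ₊ ≤ (𝒜₊).map ψ) (v : M →ₛₗ[ψ.toRingHom] M') (y : ProjectiveSpectrum ℬ)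
    (c : GrTwist.Loc 𝒜 (ProjectiveSpectrum.comap ψ hψ y))
    (q : GrMod.LocMod 𝒜 (M := M) (ProjectiveSpectrum.comap ψ hψ y)) :
    GrMod.locModMap ψ hψ v y (c • q) = GrTwist.locMap ψ hψ y c • GrMod.locModMap ψ hψ v y q := by
  induction q using LocalizedModule.induction_on with
  | h m s =>
    induction c using Localization.induction_on with
    | H x =>
      obtain ⟨a, t⟩ := x
      rw [LocalizedModule.mk_smul_mk, GrMod.locModMap_mk, GrMod.locModMap_mk, GrTwist.locMap_mk,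
        LocalizedModule.mk_smul_mk]
      exact congrArg₂ LocalizedModule.mk (v.map_smulₛₗ a m) (Subtype.ext (map_mul ψ (t : A) (s : A)))

variable {A σ : Type u} [CommRing A] [SetLike σ A] [AddSubgroupClass σ A] {𝒜 : ℕ → σ} [GradedRing 𝒜]
variable {M τ : Type u} [AddCommGroup M] [Module A M] [SetLike τ M] [AddSubgroupClass τ M] {ℳ : ℕ → τ}
  [DirectSum.Decomposition ℳ] [SetLike.GradedSMul 𝒜 ℳ] {d : ℕ} {t : A}

/-- Multiplication by `t ^ m` is bijective where `t` does not vanish. -/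
theorem mulSec_tau_bijective (ht : t ∈ 𝒜 d) {a b r : ℤ} (hpq : a + b = r) {m : ℤ} (hq : b = m * d)
    {V : Opens (ProjectiveSpectrum.top 𝒜)} (hV : V ≤ ProjectiveSpectrum.basicOpen 𝒜 t)
    (s : GrTwist.sectN (𝒜 := 𝒜) b (op V))
    (hs : ∀ x : V, (s.1 x).1 = ((tau ht m V hV).1 x).1) :
    Function.Bijective fun y : GrMod.sect 𝒜 ℳ a (op V) => mulSec ℳ hpq y s := by
  subst hq
  have hneg : r + (-m) * d = a := by rw [neg_mul]; omega
  have key : ∀ (x : V) (q : GrMod.LocMod 𝒜 (M := M) x.1),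
      (s.1 x).1 • ((tau ht (-m) V hV).1 x).1 • q = q ∧ ((tau ht (-m) V hV).1 x).1 • (s.1 x).1 • q = q := by
    intro x q
    constructor
    · rw [smul_smul, hs x, tau_mul_neg ht m V hV x, one_smul]
    · rw [smul_smul, hs x, mul_comm, tau_mul_neg ht m V hV x, one_smul]
  refine ⟨fun y y' h => sect_ext fun x => ?_, fun z => ⟨mulSec ℳ hneg z (tau ht (-m) V hV), sect_ext fun x => ?_⟩⟩
  · have h' : (s.1 x).1 • (y.1 x).1 = (s.1 x).1 • (y'.1 x).1 :=
      congrArg (fun w : GrMod.sect 𝒜 ℳ r (op V) => (w.1 x).1) h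
    exact (key x _).2.symm.trans ((congrArg (((tau ht (-m) V hV).1 x).1 • ·) h').trans (key x _).2)
  · exact (key x _).1

end ring

variable {Y P : Scheme.{u}} {𝒮 : RelProj.QCGrAlg Y} {p : P ⟶ Y}
  {chart : ∀ (U : Y.Opens) (hU : IsAffineOpen U), (((p ⁻¹ᵁ U : P.Opens) : Scheme.{u}) ≅ Proj (𝒮.deg U hU))}
  {ℳ : RelProj.GrModule 𝒮} {a b r : ℤ} {F L : P.Modules}

/-- The product of two sections seen on one chart. -/
noncomputable def mulChart (hab : a + b = r)
    (lamF : ∀ (U : Y.Opens) (hU : IsAffineOpen U), F ⟶ chartMod p chart ℳ a U hU)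
    (lamL : ∀ (U : Y.Opens) (hU : IsAffineOpen U),
      L ⟶ (Scheme.Modules.pushforward (RelProj.emb p chart U hU)).obj (GrTwist.twist (𝒮.deg U hU) b))
    (U : Y.Opens) (hU : IsAffineOpen U) : Bilin F L (chartMod p chart ℳ r U hU) where
  app W x y := (mulBilin (𝒜 := 𝒮.deg U hU) (ℳ.deg U hU) hab).app (RelProj.emb p chart U hU ⁻¹ᵁ W)
    ((lamF U hU).app W x) ((lamL U hU).app W y)
  add_left W x x' y := by
    rw [map_add]
    exact (mulBilin (𝒜 := 𝒮.deg U hU) (ℳ.deg U hU) hab).add_left _ _ _ _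
  add_right W x y y' := by
    rw [map_add]
    exact (mulBilin (𝒜 := 𝒮.deg U hU) (ℳ.deg U hU) hab).add_right _ _ _ _
  smul_left W c x y :=
    (congrArg (fun w => (mulBilin (𝒜 := 𝒮.deg U hU) (ℳ.deg U hU) hab).app (RelProj.emb p chart U hU ⁻¹ᵁ W) w
      ((lamL U hU).app W y)) (Scheme.Modules.Hom.app_smul (lamF U hU) c x)).trans
      ((mulBilin (𝒜 := 𝒮.deg U hU) (ℳ.deg U hU) hab).smul_left _
        (show Γ(Proj (𝒮.deg U hU), RelProj.emb p chart U hU ⁻¹ᵁ W) from (RelProj.emb p chart U hU).app W c) _ _)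
  smul_right W c x y :=
    (congrArg (fun w => (mulBilin (𝒜 := 𝒮.deg U hU) (ℳ.deg U hU) hab).app (RelProj.emb p chart U hU ⁻¹ᵁ W)
      ((lamF U hU).app W x) w) (Scheme.Modules.Hom.app_smul (lamL U hU) c y)).trans
      ((mulBilin (𝒜 := 𝒮.deg U hU) (ℳ.deg U hU) hab).smul_right _
        (show Γ(Proj (𝒮.deg U hU), RelProj.emb p chart U hU ⁻¹ᵁ W) from (RelProj.emb p chart U hU).app W c) _ _)
  res W W' h x y := by
    rw [app_resM, app_resM]
    exact (mulBilin (𝒜 := 𝒮.deg U hU) (ℳ.deg U hU) hab).res _ _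
      ((RelProj.emb p chart U hU).preimage_mono h) _ _

theorem mulChart_val (hab : a + b = r)
    (lamF : ∀ (U : Y.Opens) (hU : IsAffineOpen U), F ⟶ chartMod p chart ℳ a U hU)
    (lamL : ∀ (U : Y.Opens) (hU : IsAffineOpen U),
      L ⟶ (Scheme.Modules.pushforward (RelProj.emb p chart U hU)).obj (GrTwist.twist (𝒮.deg U hU) b))
    (U : Y.Opens) (hU : IsAffineOpen U) (W : P.Opens) (x : Γ(F, W)) (y : Γ(L, W))
    (z : ProjectiveSpectrum (𝒮.deg U hU)) (hz : z ∈ RelProj.emb p chart U hU ⁻¹ᵁ W) :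
    GrMod.val (V := RelProj.emb p chart U hU ⁻¹ᵁ W) ((mulChart hab lamF lamL U hU).desc.app W (tmul x y)) ⟨z, hz⟩ =
      GrTwist.val (V := RelProj.emb p chart U hU ⁻¹ᵁ W) ((lamL U hU).app W y) ⟨z, hz⟩ •
        GrMod.val (V := RelProj.emb p chart U hU ⁻¹ᵁ W) ((lamF U hU).app W x) ⟨z, hz⟩ := by
  exact congrArg (fun w => GrMod.val (V := RelProj.emb p chart U hU ⁻¹ᵁ W) w ⟨z, hz⟩)
    (Bilin.desc_tmul (mulChart hab lamF lamL U hU) W x y)

/-- The products on two charts correspond. -/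
theorem mulChart_compat (hP : RelProj.IsRelProj 𝒮 p chart) (hab : a + b = r)
    (lamF : ∀ (U : Y.Opens) (hU : IsAffineOpen U), F ⟶ chartMod p chart ℳ a U hU)
    (hF : RelProj.IsRelTilde 𝒮 p chart ℳ a F lamF)
    (lamL : ∀ (U : Y.Opens) (hU : IsAffineOpen U),
      L ⟶ (Scheme.Modules.pushforward (RelProj.emb p chart U hU)).obj (GrTwist.twist (𝒮.deg U hU) b))
    (hL : RelProj.IsRelTwist 𝒮 p chart b L lamL)
    {U : Y.Opens} (hU : IsAffineOpen U) (c : Γ(Y, U)) :
    (mulChart hab lamF lamL (Y.basicOpen c) (hU.basicOpen c)).desc =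
      (mulChart hab lamF lamL U hU).desc ≫ chartTrans ℳ hP r hU (hU.basicOpen c) c rfl := by
  refine AmpleLib.hom_ext fun W x y => ?_
  show (mulChart hab lamF lamL (Y.basicOpen c) (hU.basicOpen c)).desc.app W (tmul x y) =
    (chartTrans ℳ hP r hU (hU.basicOpen c) c rfl).app W ((mulChart hab lamF lamL U hU).desc.app W (tmul x y))
  refine sect_ext fun z => ?_
  obtain ⟨z, hz⟩ := z
  have hz' := emb_comap_mem hP hU (hU.basicOpen c) c rfl hz
  have h1 := mulChart_val hab lamF lamL (Y.basicOpen c) (hU.basicOpen c) W x y z hz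
  have h2 := chartTrans_val ℳ hP r hU (hU.basicOpen c) c rfl W ((mulChart hab lamF lamL U hU).desc.app W (tmul x y)) z hz
  have h3 := mulChart_val hab lamF lamL U hU W x y _ hz'
  have h4 := hL.compat U hU c W y z hz hz'
  have h5 := hF.compat U hU c W x z hz hz'
  have h6 := locModMap_smul (𝒮.res hU (hU.basicOpen c) (Y.basicOpen_le c)) (irr_basic hU (hU.basicOpen c) c rfl)
    (ℳ.res hU (hU.basicOpen c) (Y.basicOpen_le c)) z
    (GrTwist.val (V := RelProj.emb p chart U hU ⁻¹ᵁ W) ((lamL U hU).app W y) ⟨_, hz'⟩)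
    (GrMod.val (V := RelProj.emb p chart U hU ⁻¹ᵁ W) ((lamF U hU).app W x) ⟨_, hz'⟩)
  exact h1.trans ((congrArg₂ (· • ·) h4 h5).trans ((h6.symm.trans (congrArg _ h3.symm)).trans h2.symm))

/-- The multiplication map, bijective wherever `O_P(b)` is generated by a power of an element. -/
theorem exists_mulMap (hP : RelProj.IsRelProj 𝒮 p chart) (hℳ : IsLocalGrModule ℳ) (hab : a + b = r)
    (lamF : ∀ (U : Y.Opens) (hU : IsAffineOpen U), F ⟶ chartMod p chart ℳ a U hU)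
    (hF : RelProj.IsRelTilde 𝒮 p chart ℳ a F lamF)
    (lamL : ∀ (U : Y.Opens) (hU : IsAffineOpen U),
      L ⟶ (Scheme.Modules.pushforward (RelProj.emb p chart U hU)).obj (GrTwist.twist (𝒮.deg U hU) b))
    (hL : RelProj.IsRelTwist 𝒮 p chart b L lamL) {F' : P.Modules}
    (lam' : ∀ (U : Y.Opens) (hU : IsAffineOpen U), F' ⟶ chartMod p chart ℳ r U hU)
    (hF' : RelProj.IsRelTilde 𝒮 p chart ℳ r F' lam') :
    ∃ φ : CohB1.tensorMod F L ⟶ F', ∀ (U : Y.Opens) (hU : IsAffineOpen U) (d : ℕ) (g : 𝒮.presheaf.obj (op U))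
      (_ : g ∈ 𝒮.deg U hU d) (m : ℤ) (_ : b = m * d) (O : P.Opens) (_ : O ≤ p ⁻¹ᵁ U)
      (_ : RelProj.emb p chart U hU ⁻¹ᵁ O ≤ Proj.basicOpen (𝒮.deg U hU) g),
      ∀ V : P.Opens, V ≤ O → Function.Bijective (φ.app V) := by
  obtain ⟨φ, hφ⟩ := exists_lift hP hℳ lam' hF' (fun U hU => (mulChart hab lamF lamL U hU).desc)
    fun U D hU hD r' h => by
      subst h
      exact mulChart_compat hP hab lamF hF lamL hL hU r'
  refine ⟨φ, fun U hU d g hg m hm O hO hOg V hV => ?_⟩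
  subst hm
  obtain ⟨s, hs⟩ := (hL.bijective U hU O hO).2
    (resM (GrTwist.twist (𝒮.deg U hU) (m * d)) hOg (tau hg m _ le_rfl))
  have hgen : IsGen L O s := isGen_of_lam hL hU hO (hs ▸ (isGen_tau hg m).restrict hOg)
  have hVg : RelProj.emb p chart U hU ⁻¹ᵁ V ≤ Proj.basicOpen (𝒮.deg U hU) g :=
    ((RelProj.emb p chart U hU).preimage_mono hV).trans hOg
  let sV : GrTwist.sectN (𝒜 := 𝒮.deg U hU) (m * d) (op (RelProj.emb p chart U hU ⁻¹ᵁ V)) :=
    (lamL U hU).app V (resM L hV s)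
  have hsV : ∀ z, (sV.1 z).1 = ((tau hg m (RelProj.emb p chart U hU ⁻¹ᵁ V) hVg).1 z).1 := fun z => by
    exact congrArg (fun w : GrTwist.sectN (𝒜 := 𝒮.deg U hU) (m * d) (op (RelProj.emb p chart U hU ⁻¹ᵁ V)) => (w.1 z).1)
      ((app_resM (lamL U hU) hV s).trans (congrArg (resM _ hV) hs))
  have hb : Function.Bijective fun x : Γ(F, V) =>
      (mulChart hab lamF lamL U hU).app V x (resM L hV s) :=
    (mulSec_tau_bijective hg hab rfl hVg sV hsV).comp (hF.bijective U hU V (hV.trans hO))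
  refine (Function.Bijective.of_comp_iff (φ.app V) (bijective_tmul_gen (M := F) hgen V hV)).1 ?_
  refine (Function.Bijective.of_comp_iff' (hF'.bijective U hU V (hV.trans hO)) _).1 ?_
  convert hb using 1
  funext x
  refine (ConcreteCategory.congr_hom (congrArg (fun q => Scheme.Modules.Hom.app q V) (hφ U hU)) _).trans ?_
  exact Bilin.desc_tmul (mulChart hab lamF lamL U hU) V x (resM L hV s)

end Groth.Agent.TwistLib.G
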